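import Mathlib.GroupTheory.PGroup
import Mathlib.GroupTheory.Commutator.Basic
import Mathlib.GroupTheory.QuotientGroup.Basic
import Mathlib.GroupTheory.Index
import Mathlib.Tactic.Group
import Mathlib.Tactic.Ring
set_option linter.all false

/-!
General lemmas for the growth argument: fixed points modulo a normal subgroup, fixed points of an
element of order `p` in a coset, counting with a map which is a homomorphism modulo a subgroup.
-/

set_option autoImplicit false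

namespace Cfsg.Agent.GTwoFour.Tools

open Subgroup
open scoped commutatorElement

variable {H : Type*} [Group H]

/-- A nontrivial normal subgroup of a finite `p`-group meets the centre. -/
theorem exists_mem_center_of_normal [Finite H] {p : ℕ} [hp : Fact p.Prime] (hG : IsPGroup p H)
    (N : Subgroup H) [hN : N.Normal] (hN1 : N ≠ ⊥) : ∃ z ∈ N, z ∈ center H ∧ z ≠ 1 := by
  have hdvd : p ∣ Nat.card N := by
    have h1 : Nontrivial N := (Subgroup.nontrivial_iff_ne_bot N).2 hN1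
    obtain ⟨n, hn0, hn⟩ := (hG.to_subgroup N).nontrivial_iff_card.1 h1
    rw [hn]
    exact dvd_pow_self p hn0.ne'
  let act : MulAction H N := MulAction.compHom N (MulAut.conjNormal (H := N))
  have hone : (1 : N) ∈ MulAction.fixedPoints H N := by
    intro g
    show (MulAut.conjNormal g) (1 : N) = 1
    exact map_one _
  obtain ⟨z, hz, hz1⟩ := hG.exists_fixed_point_of_prime_dvd_card_of_fixed_point N hdvd hone
  refine ⟨z, z.2, ?_, ?_⟩
  · rw [mem_center_iff]
    intro g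
    have h2 : MulAut.conjNormal g z = z := hz g
    have h3 := congrArg Subtype.val h2
    rw [MulAut.conjNormal_apply] at h3
    calc g * z = (g * z * g⁻¹) * g := by group
      _ = z * g := by rw [h3]
  · intro h
    apply hz1
    exact Subtype.ext h.symm

/-- A finite `p`-group `Y` acting on `N / M` (`M < N ≤ Y` normal in `Y`) has nontrivial fixed points. -/
theorem exists_fixed_mod [Finite H] {p : ℕ} [Fact p.Prime] {Y N M : Subgroup H} (hY : IsPGroup p Y)
    (hNY : N ≤ Y)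
    (hN : ∀ y ∈ Y, ∀ n ∈ N, y * n * y⁻¹ ∈ N) (hM : ∀ y ∈ Y, ∀ m ∈ M, y * m * y⁻¹ ∈ M)
    (hne : ∃ n ∈ N, n ∉ M) : ∃ n ∈ N, n ∉ M ∧ ∀ y ∈ Y, ⁅y, n⁆ ∈ M := by
  have hMnorm : (M.subgroupOf Y).Normal := by
    constructor
    rintro ⟨m, hm⟩ hm' ⟨y, hy⟩
    rw [mem_subgroupOf] at hm' ⊢
    exact hM y hy m hm'
  have hNnorm : (N.subgroupOf Y).Normal := by
    constructor
    rintro ⟨m, hm⟩ hm' ⟨y, hy⟩
    rw [mem_subgroupOf] at hm' ⊢
    exact hN y hy m hm'
  have hN2 : ((N.subgroupOf Y).map (QuotientGroup.mk' (M.subgroupOf Y))).Normal :=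
    Subgroup.Normal.map hNnorm _ (QuotientGroup.mk'_surjective _)
  have hne2 : (N.subgroupOf Y).map (QuotientGroup.mk' (M.subgroupOf Y)) ≠ ⊥ := by
    obtain ⟨n, hn, hnM⟩ := hne
    intro hbot
    apply hnM
    have h1 : (QuotientGroup.mk' (M.subgroupOf Y)) ⟨n, hNY hn⟩ ∈
        (N.subgroupOf Y).map (QuotientGroup.mk' (M.subgroupOf Y)) :=
      mem_map_of_mem _ (by rw [mem_subgroupOf]; exact hn)
    rw [hbot, mem_bot] at h1
    rw [QuotientGroup.mk'_apply, QuotientGroup.eq_one_iff, mem_subgroupOf] at h1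
    exact h1
  have hfin : Finite (↥Y ⧸ M.subgroupOf Y) := Quotient.finite _
  obtain ⟨z, hz, hzc, hz1⟩ := exists_mem_center_of_normal
    (hY.to_quotient (M.subgroupOf Y)) _ hne2
  obtain ⟨⟨n, hn⟩, hnN, rfl⟩ := mem_map.1 hz
  rw [mem_subgroupOf] at hnN
  refine ⟨n, hnN, ?_, ?_⟩
  · intro hnM
    apply hz1
    rw [QuotientGroup.mk'_apply, QuotientGroup.eq_one_iff, mem_subgroupOf]
    exact hnM
  · intro y hy
    have h1 := mem_center_iff.1 hzc (QuotientGroup.mk' (M.subgroupOf Y) ⟨y, hy⟩)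
    have h2 : QuotientGroup.mk' (M.subgroupOf Y) (⁅(⟨y, hy⟩ : Y), ⟨n, hn⟩⁆) = 1 := by
      rw [map_commutatorElement, commutatorElement_eq_one_iff_mul_comm]
      exact h1
    rw [QuotientGroup.mk'_apply, QuotientGroup.eq_one_iff, mem_subgroupOf] at h2
    exact h2

/-- An element `f` of order a power of `p` normalising `Q`, with `p ∤ |Q|`, and fixing the coset `y Q`,
commutes with an element of this coset. -/
theorem exists_comm_coset [Finite H] {p : ℕ} [hp : Fact p.Prime] {Q : Subgroup H} {f y : H} {k : ℕ}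
    (hf : f ^ p ^ k = 1) (hQ : ∀ q ∈ Q, f * q * f⁻¹ ∈ Q) (hcard : ¬ p ∣ Nat.card Q)
    (hy : y⁻¹ * (f * y * f⁻¹) ∈ Q) : ∃ q ∈ Q, f * (y * q) = y * q * f := by
  classical
  have hP : IsPGroup p (zpowers f) := by
    apply IsPGroup.of_card_dvd_pow (n := k)
    rw [Nat.card_zpowers]
    exact orderOf_dvd_of_pow_eq_one hf
  -- the stabiliser of the coset
  let S : Subgroup H :=
    { carrier := {g | (∀ q, q ∈ Q ↔ g * q * g⁻¹ ∈ Q) ∧ y⁻¹ * (g * y * g⁻¹) ∈ Q}
      one_mem' := by simp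
      mul_mem' := by
        rintro g g' ⟨h1, h2⟩ ⟨h3, h4⟩
        refine ⟨?_, ?_⟩
        · intro q
          rw [h3 q, h1 (g' * q * g'⁻¹)]
          have : g * g' * q * (g * g')⁻¹ = g * (g' * q * g'⁻¹) * g⁻¹ := by group
          rw [this]
        · have : y⁻¹ * (g * g' * y * (g * g')⁻¹) =
              (y⁻¹ * (g * y * g⁻¹)) * (g * (y⁻¹ * (g' * y * g'⁻¹)) * g⁻¹) := by group
          rw [this]
          exact Q.mul_mem h2 ((h1 _).1 h4)
      inv_mem' := by
        rintro g ⟨h1, h2⟩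
        have h1' : ∀ q, q ∈ Q ↔ g⁻¹ * q * g⁻¹⁻¹ ∈ Q := by
          intro q
          rw [h1 (g⁻¹ * q * g⁻¹⁻¹)]
          have : g * (g⁻¹ * q * g⁻¹⁻¹) * g⁻¹ = q := by group
          rw [this]
        refine ⟨h1', ?_⟩
        have : y⁻¹ * (g⁻¹ * y * g⁻¹⁻¹) = (g⁻¹ * (y⁻¹ * (g * y * g⁻¹)) * g⁻¹⁻¹)⁻¹ := by group
        rw [this]
        exact Q.inv_mem ((h1' _).1 h2) }
  have hfS : f ∈ S := by
    refine ⟨?_, hy⟩
    intro q
    refine ⟨hQ q, fun h => ?_⟩
    have hall : ∀ m : ℕ, ∀ q ∈ Q, f ^ m * q * (f ^ m)⁻¹ ∈ Q := by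
      intro m
      induction m with
      | zero => intro q hq; simpa using hq
      | succ m ih =>
        intro q hq
        have : f ^ (m + 1) * q * (f ^ (m + 1))⁻¹ = f ^ m * (f * q * f⁻¹) * (f ^ m)⁻¹ := by group
        rw [this]
        exact ih _ (hQ q hq)
    have h2 := hall (p ^ k - 1) _ h
    have h3 : f ^ (p ^ k - 1) * (f * q * f⁻¹) * (f ^ (p ^ k - 1))⁻¹ = q := by
      have h4 : f ^ (p ^ k - 1) * f = 1 := by
        rw [← pow_succ, Nat.sub_add_cancel (Nat.one_le_pow _ _ hp.out.pos), hf]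
      have h5 : f ^ (p ^ k - 1) = f⁻¹ := eq_inv_of_mul_eq_one_left h4
      rw [h5]; group
    rw [h3] at h2
    exact h2
  have hle : zpowers f ≤ S := (zpowers_le).2 hfS
  let X : Type _ := {x : H // y⁻¹ * x ∈ Q}
  let _ : MulAction (zpowers f) X :=
    { smul := fun g x => ⟨g * (x : H) * (g : H)⁻¹, by
        have hg := hle g.2
        have : y⁻¹ * (g * (x : H) * (g : H)⁻¹) =
            (y⁻¹ * ((g : H) * y * (g : H)⁻¹)) * ((g : H) * (y⁻¹ * x) * (g : H)⁻¹) := by group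
        rw [this]
        exact Q.mul_mem hg.2 ((hg.1 _).1 x.2)⟩
      one_smul := fun x => Subtype.ext (by
        show ((1 : zpowers f) : H) * (x : H) * ((1 : zpowers f) : H)⁻¹ = x
        simp)
      mul_smul := fun a b x => Subtype.ext (by
        show ((a * b : zpowers f) : H) * (x : H) * ((a * b : zpowers f) : H)⁻¹ =
          (a : H) * ((b : H) * (x : H) * (b : H)⁻¹) * (a : H)⁻¹
        rw [Subgroup.coe_mul]; group) }
  have hc : Nat.card X = Nat.card Q := by
    refine Nat.card_congr ⟨fun x => ⟨y⁻¹ * x, x.2⟩, fun n => ⟨y * n, ?_⟩, ?_, ?_⟩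
    · rw [inv_mul_cancel_left]; exact n.2
    · intro x; exact Subtype.ext (mul_inv_cancel_left y (x : H))
    · intro n; exact Subtype.ext (inv_mul_cancel_left y (n : H))
  have hX : ¬ p ∣ Nat.card X := by rw [hc]; exact hcard
  obtain ⟨x, hx⟩ := hP.nonempty_fixed_point_of_prime_not_dvd_card X hX
  refine ⟨y⁻¹ * x, x.2, ?_⟩
  have h1 : f * (x : H) * f⁻¹ = x := congrArg Subtype.val (hx ⟨f, mem_zpowers f⟩)
  rw [mul_inv_cancel_left]
  calc f * (x : H) = (f * x * f⁻¹) * f := by group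
    _ = x * f := by rw [h1]

/-- Counting: `c : Y → C` is a homomorphism modulo `B ≤ C`, onto modulo `B`, with kernel `K`
modulo `B`; then `|Y : K| = |C : B|`. -/
theorem relIndex_eq {Y K C B : Subgroup H} (c : H → H) (hc : ∀ y ∈ Y, c y ∈ C) 
    (hmul : ∀ y ∈ Y, ∀ y' ∈ Y, (c y * c y')⁻¹ * c (y * y') ∈ B)
    (onto : ∀ q ∈ C, ∃ y ∈ Y, q⁻¹ * c y ∈ B) (ker : ∀ y ∈ Y, c y ∈ B ↔ y ∈ K) :
    K.relIndex Y = B.relIndex C := by
  have key : ∀ y ∈ Y, ∀ y' ∈ Y, (c y)⁻¹ * c y' ∈ B ↔ y⁻¹ * y' ∈ K := by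
    intro y hy y' hy'
    have hk : y⁻¹ * y' ∈ Y := Y.mul_mem (Y.inv_mem hy) hy'
    rw [← ker _ hk]
    have h1 := hmul y hy _ hk
    rw [mul_inv_cancel_left] at h1
    have h2 : (c y * c (y⁻¹ * y'))⁻¹ * c y' = (c (y⁻¹ * y'))⁻¹ * ((c y)⁻¹ * c y') := by group
    rw [h2] at h1
    constructor
    · intro h
      have h3 := B.mul_mem h (B.inv_mem h1)
      have h4 : (c y)⁻¹ * c y' * ((c (y⁻¹ * y'))⁻¹ * ((c y)⁻¹ * c y'))⁻¹ = c (y⁻¹ * y') := by group
      rwa [h4] at h3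
    · intro h
      have h3 := B.mul_mem h h1
      rwa [mul_inv_cancel_left] at h3
  have e : (↥Y ⧸ K.subgroupOf Y) ≃ (↥C ⧸ B.subgroupOf C) := by
    refine Equiv.ofBijective (Quotient.map' (fun y : Y => (⟨c y, hc y y.2⟩ : C)) ?_) ⟨?_, ?_⟩
    · intro a b hab
      rw [QuotientGroup.leftRel_apply] at hab ⊢
      exact (key a a.2 b b.2).2 hab
    · intro a b
      induction a using Quotient.inductionOn' with | _ a =>
      induction b using Quotient.inductionOn' with | _ b =>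
      intro hab
      have h1 : (QuotientGroup.mk (⟨c a, hc a a.2⟩ : C) : C ⧸ B.subgroupOf C) =
          QuotientGroup.mk (⟨c b, hc b b.2⟩ : C) := hab
      rw [QuotientGroup.eq] at h1
      apply Quotient.sound'
      rw [QuotientGroup.leftRel_apply]
      exact (key a a.2 b b.2).1 h1
    · intro q
      induction q using Quotient.inductionOn' with | _ q =>
      obtain ⟨y, hy, hyq⟩ := onto q q.2
      refine ⟨QuotientGroup.mk ⟨y, hy⟩, ?_⟩
      show (QuotientGroup.mk (⟨c y, hc y hy⟩ : C) : C ⧸ B.subgroupOf C) = QuotientGroup.mk q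
      rw [eq_comm, QuotientGroup.eq]
      exact hyq
  rw [Subgroup.relIndex, Subgroup.relIndex, Subgroup.index, Subgroup.index]
  exact Nat.card_congr e

/-- The order version of `relIndex_eq`. -/
theorem card_mul_eq {Y K C B : Subgroup H} (c : H → H) (hc : ∀ y ∈ Y, c y ∈ C) (hKY : K ≤ Y) (hBC : B ≤ C)
    (hmul : ∀ y ∈ Y, ∀ y' ∈ Y, (c y * c y')⁻¹ * c (y * y') ∈ B)
    (onto : ∀ q ∈ C, ∃ y ∈ Y, q⁻¹ * c y ∈ B) (ker : ∀ y ∈ Y, c y ∈ B ↔ y ∈ K) :
    Nat.card Y * Nat.card B = Nat.card C * Nat.card K := by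
  have h := relIndex_eq c hc hmul onto ker
  have h1 := Subgroup.relIndex_mul_relIndex ⊥ K Y bot_le hKY
  have h2 := Subgroup.relIndex_mul_relIndex ⊥ B C bot_le hBC
  rw [relIndex_bot_left, relIndex_bot_left] at h1 h2
  rw [← h1, ← h2, h]
  ring

/-- `⟨t⟩ Q = Q ∪ tQ` for an involution `t` normalising `Q`. -/
def ext (t : H) (ht : t * t = 1) (Q : Subgroup H) (hn : ∀ q ∈ Q, t * q * t⁻¹ ∈ Q) : Subgroup H where
  carrier := {x | x ∈ Q ∨ t * x ∈ Q}
  one_mem' := Or.inl Q.one_mem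
  mul_mem' := by
    have hti : t⁻¹ = t := inv_eq_of_mul_eq_one_left ht
    rintro a b (ha | ha) (hb | hb)
    · exact Or.inl (Q.mul_mem ha hb)
    · right
      have : t * (a * b) = (t * a * t⁻¹) * (t * b) := by group
      rw [this]; exact Q.mul_mem (hn a ha) hb
    · right
      rw [← mul_assoc]; exact Q.mul_mem ha hb
    · left
      have h1 := Q.mul_mem (hn _ ha) hb
      have h2 : t * (t * a) * t⁻¹ * (t * b) = a * b := by
        calc t * (t * a) * t⁻¹ * (t * b) = (t * t) * a * b := by group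
          _ = a * b := by rw [ht, one_mul]
      rwa [h2] at h1
  inv_mem' := by
    have hti : t⁻¹ = t := inv_eq_of_mul_eq_one_left ht
    rintro a (ha | ha)
    · exact Or.inl (Q.inv_mem ha)
    · right
      have h1 := hn _ (Q.inv_mem ha)
      have h2 : t * (t * a)⁻¹ * t⁻¹ = t * a⁻¹ := by
        rw [mul_inv_rev, hti]
        calc t * (a⁻¹ * t) * t = t * a⁻¹ * (t * t) := by group
          _ = t * a⁻¹ := by rw [ht, mul_one]
      rwa [h2] at h1

theorem mem_ext {t : H} {ht : t * t = 1} {Q : Subgroup H} {hn : ∀ q ∈ Q, t * q * t⁻¹ ∈ Q} {x : H} :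
    x ∈ ext t ht Q hn ↔ x ∈ Q ∨ t * x ∈ Q := Iff.rfl

theorem le_ext {t : H} {ht : t * t = 1} {Q : Subgroup H} {hn : ∀ q ∈ Q, t * q * t⁻¹ ∈ Q} :
    Q ≤ ext t ht Q hn := fun _ hx => Or.inl hx

theorem card_ext {t : H} {ht : t * t = 1} {Q : Subgroup H} {hn : ∀ q ∈ Q, t * q * t⁻¹ ∈ Q}
    (htQ : t ∉ Q) : Nat.card (ext t ht Q hn) = 2 * Nat.card Q := by
  have hti : t⁻¹ = t := inv_eq_of_mul_eq_one_left ht
  have h1 := Subgroup.relIndex_mul_relIndex ⊥ Q (ext t ht Q hn) bot_le le_ext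
  rw [relIndex_bot_left, relIndex_bot_left] at h1
  have h2 : Q.relIndex (ext t ht Q hn) = 2 := by
    rw [Subgroup.relIndex, Subgroup.index_eq_two_iff]
    refine ⟨⟨t, Or.inr (by rw [ht]; exact Q.one_mem)⟩, ?_⟩
    rintro ⟨b, hb⟩
    rw [mem_subgroupOf, mem_subgroupOf]
    show Xor (b * t ∈ Q) (b ∈ Q)
    by_cases hbQ : b ∈ Q
    · right
      refine ⟨hbQ, fun h => htQ ?_⟩
      have := Q.mul_mem (Q.inv_mem hbQ) h
      rwa [inv_mul_cancel_left] at this
    · left
      refine ⟨?_, hbQ⟩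
      rcases hb with hb | hb
      · exact absurd hb hbQ
      · have h3 := hn _ hb
        have h4 : t * (t * b) * t⁻¹ = b * t := by
          rw [hti]
          calc t * (t * b) * t = (t * t) * b * t := by group
            _ = b * t := by rw [ht, one_mul]
        rwa [h4] at h3
  rw [h2] at h1
  rw [← h1, mul_comm]

end Cfsg.Agent.GTwoFour.Tools
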