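import Mathlib
import Cfsg.Agent.FastGrp
import Cfsg.Agent.Prune
set_option linter.all false
prune_inst 0x7f00000000000000000000000000000000000000000000000000000000000000000000000000000000000000000000000000000000000000000000000000000000000000000000000000000000000000003fffffffffffffffffffffffffffbeffbdffffffff
open scoped Cfsg.Agent.FastGrp

set_option autoImplicit false

/-!
# A self-centralising four-group with fused involutions

`K` finite, `a, b` commuting involutions, every 2-subgroup of `C_K(a)` has order at most 4, and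
`a ~ b ~ ab` in `K`. Then the elements of `K` with `y⁴ = 1` satisfy `y² = 1`, and some element permutes
`a, b, ab` cyclically.
-/

namespace Cfsg.Agent.GTwoFour.OuterSyl

variable {K : Type*} [Group K]

/-- the four-group -/
def four (a b : K) (ha : a * a = 1) (hb : b * b = 1) (hab : a * b = b * a) : Subgroup K where
  carrier := {x | x = 1 ∨ x = a ∨ x = b ∨ x = a * b}
  one_mem' := Or.inl rfl
  mul_mem' := by
    have e1 : a * (a * b) = b := by rw [← mul_assoc, ha, one_mul]
    have e2 : b * (a * b) = a := by rw [hab, ← mul_assoc, hb, one_mul]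
    have e3 : a * b * a = b := by rw [hab, mul_assoc, ha, mul_one]
    have e4 : a * b * b = a := by rw [mul_assoc, hb, mul_one]
    have e5 : a * b * (a * b) = 1 := by rw [← mul_assoc, e3, hb]
    rintro x y (rfl | rfl | rfl | rfl) (rfl | rfl | rfl | rfl) <;>
      simp [ha, hb, e1, e2, e3, e4, e5, ← hab]
  inv_mem' := by
    have ia : a⁻¹ = a := inv_eq_of_mul_eq_one_right ha
    have ib : b⁻¹ = b := inv_eq_of_mul_eq_one_right hb
    rintro x (rfl | rfl | rfl | rfl)
    · simp
    · simp [ia]
    · simp [ib]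
    · simp [ia, ib, ← hab]

section

variable {a b : K} {ha : a * a = 1} {hb : b * b = 1} {hab : a * b = b * a}

theorem mem_four {x : K} : x ∈ four a b ha hb hab ↔ x = 1 ∨ x = a ∨ x = b ∨ x = a * b := Iff.rfl

theorem four_sq {x : K} (hx : x ∈ four a b ha hb hab) : x * x = 1 := by
  have e5 : a * b * (a * b) = 1 := by
    rw [← mul_assoc, hab, mul_assoc b, ha, mul_one, hb]
  rcases hx with rfl | rfl | rfl | rfl
  · simp
  · exact ha
  · exact hb
  · exact e5

theorem four_comm {x y : K} (hx : x ∈ four a b ha hb hab) (hy : y ∈ four a b ha hb hab) :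
    x * y = y * x := by
  have e1 : a * (a * b) = b := by rw [← mul_assoc, ha, one_mul]
  have e2 : b * (a * b) = a := by rw [hab, ← mul_assoc, hb, one_mul]
  have e3 : a * b * a = b := by rw [hab, mul_assoc, ha, mul_one]
  have e4 : a * b * b = a := by rw [mul_assoc, hb, mul_one]
  rcases hx with rfl | rfl | rfl | rfl <;> rcases hy with rfl | rfl | rfl | rfl <;>
    simp [e1, e2, e3, e4, ← hab]

theorem isPGroup_four : IsPGroup 2 (four a b ha hb hab) := by
  intro x
  refine ⟨1, ?_⟩
  apply Subtype.ext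
  rw [pow_one, pow_two]
  exact four_sq x.2

theorem card_four (ha1 : a ≠ 1) (hb1 : b ≠ 1) (hne : a ≠ b) :
    Nat.card (four a b ha hb hab) = 4 := by
  classical
  have h1 : ((four a b ha hb hab : Subgroup K) : Set K) = ({1, a, b, a * b} : Finset K) := by
    ext x
    simp [mem_four]
  have h2 : Nat.card (four a b ha hb hab) = Set.ncard ((four a b ha hb hab : Subgroup K) : Set K) := rfl
  rw [h2, h1, Set.ncard_coe_finset]
  have hb' : a * b ≠ a := by simpa using hb1
  have ha' : a * b ≠ b := by simpa using ha1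
  have h1' : a * b ≠ 1 := by
    intro h
    apply hne
    calc a = a * b * b⁻¹ := by group
      _ = b⁻¹ := by rw [h, one_mul]
      _ = b := inv_eq_of_mul_eq_one_right hb
  rw [Finset.card_insert_of_notMem, Finset.card_insert_of_notMem, Finset.card_insert_of_notMem,
    Finset.card_singleton]
  · simpa using ha'.symm
  · simp [hne, hb'.symm]
  · simp [ha1.symm, hb1.symm, h1'.symm]

end

/-- **The four-group is a Sylow subgroup.** -/
theorem exists_sylow [Finite K] {a b : K} (ha : a * a = 1) (hb : b * b = 1) (hab : a * b = b * a)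
    (ha1 : a ≠ 1) (hb1 : b ≠ 1) (hne : a ≠ b)
    (h4 : ∀ B : Subgroup K, IsPGroup 2 B → (∀ x ∈ B, x * a = a * x) → Nat.card B ≤ 4)
    (hc1 : IsConj a b) (hc2 : IsConj a (a * b)) :
    ∃ P : Sylow 2 K, (P : Subgroup K) = four a b ha hb hab := by
  classical
  obtain ⟨P, hP⟩ := (isPGroup_four (ha := ha) (hb := hb) (hab := hab)).exists_le_sylow
  refine ⟨P, ?_⟩
  have hcard := card_four (ha := ha) (hb := hb) (hab := hab) ha1 hb1 hne
  -- elements of `P` commuting with `a` lie in the four-group
  have hcent : ∀ z ∈ P, z * a = a * z → z ∈ four a b ha hb hab := by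
    set B := (P : Subgroup K) ⊓ Subgroup.centralizer {a} with hB
    have hBp : IsPGroup 2 B := P.2.to_le inf_le_left
    have hle : four a b ha hb hab ≤ B := by
      refine le_inf hP ?_
      intro x hx
      rw [Subgroup.mem_centralizer_singleton_iff]
      exact four_comm hx (Or.inr (Or.inl rfl))
    have hBc := h4 B hBp (fun x hx => Subgroup.mem_centralizer_singleton_iff.1 hx.2)
    have heq : four a b ha hb hab = B := Subgroup.eq_of_le_of_card_ge hle (by rw [hcard]; exact hBc)
    intro z hz hza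
    rw [heq]
    exact ⟨hz, Subgroup.mem_centralizer_singleton_iff.2 hza⟩
  have : Nontrivial (P : Subgroup K) := by
    refine ⟨⟨⟨a, hP (Or.inr (Or.inl rfl))⟩, 1, ?_⟩⟩
    intro h
    exact ha1 (congrArg Subtype.val h)
  have hfact : Fact (Nat.Prime 2) := ⟨Nat.prime_two⟩
  have hnt := P.2.center_nontrivial
  obtain ⟨⟨z, hz⟩, hz1⟩ := exists_ne (1 : Subgroup.center (P : Subgroup K))
  have hz1' : (z : K) ≠ 1 := by
    intro h
    apply hz1
    apply Subtype.ext
    exact Subtype.ext h
  have hzc : ∀ x ∈ P, x * (z : K) = z * x := by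
    intro x hx
    have := Subgroup.mem_center_iff.1 hz ⟨x, hx⟩
    exact congrArg Subtype.val this
  have hzmem : (z : K) ∈ four a b ha hb hab :=
    hcent z z.2 (hzc a (hP (Or.inr (Or.inl rfl)))).symm
  have hconj : IsConj a (z : K) := by
    rcases hzmem with h | h | h | h
    · exact absurd h hz1'
    · rw [h]
    · rw [h]; exact hc1
    · rw [h]; exact hc2
  obtain ⟨k, hk⟩ := isConj_iff.1 hconj
  -- `P` commutes with `z`, so the conjugate by `k⁻¹` commutes with `a`
  have hPc : Nat.card (P : Subgroup K) ≤ 4 := by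
    have h1 : IsPGroup 2 ((P : Subgroup K).map (MulAut.conj k⁻¹).toMonoidHom) := P.2.map _
    have h2 := h4 _ h1 (by
      rintro _ ⟨x, hx, rfl⟩
      have h3 := hzc x hx
      show k⁻¹ * x * k⁻¹⁻¹ * a = a * (k⁻¹ * x * k⁻¹⁻¹)
      rw [← hk] at h3
      calc k⁻¹ * x * k⁻¹⁻¹ * a = k⁻¹ * (x * (k * a * k⁻¹)) * k := by group
        _ = k⁻¹ * (k * a * k⁻¹ * x) * k := by rw [h3]
        _ = a * (k⁻¹ * x * k⁻¹⁻¹) := by group)
    have h3 : Nat.card ((P : Subgroup K).map (MulAut.conj k⁻¹).toMonoidHom) =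
        Nat.card (P : Subgroup K) :=
      Nat.card_congr ((P : Subgroup K).equivMapOfInjective _ (MulAut.conj k⁻¹).injective).toEquiv.symm
    rwa [h3] at h2
  exact (Subgroup.eq_of_le_of_card_ge hP (by rw [hcard]; exact hPc)).symm

/-- No elements of order four. -/
theorem sq_eq_one [Finite K] {a b : K} {ha : a * a = 1} {hb : b * b = 1} {hab : a * b = b * a}
    {P : Sylow 2 K} (hP : (P : Subgroup K) = four a b ha hb hab) {y : K} (hy : y ^ 4 = 1) :
    y ^ 2 = 1 := by
  have hfact : Fact (Nat.Prime 2) := ⟨Nat.prime_two⟩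
  have h1 : IsPGroup 2 (Subgroup.zpowers y) := by
    rw [IsPGroup.iff_card]
    rw [Nat.card_zpowers]
    have h2 : orderOf y ∣ 2 ^ 2 := orderOf_dvd_of_pow_eq_one (by norm_num; exact hy)
    obtain ⟨k, _, hk⟩ := (Nat.dvd_prime_pow Nat.prime_two).1 h2
    exact ⟨k, hk⟩
  obtain ⟨Q, hQ⟩ := h1.exists_le_sylow
  obtain ⟨c, hc⟩ := MulAction.exists_smul_eq K Q P
  have h3 : y ∈ Q := hQ (Subgroup.mem_zpowers y)
  have h4 : c * y * c⁻¹ ∈ ((c • Q : Sylow 2 K) : Subgroup K) := by
    have : c * y * c⁻¹ = (MulAut.conj c) • y := rfl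
    rw [this]
    exact Subgroup.smul_mem_pointwise_smul _ _ _ h3
  rw [hc, hP] at h4
  have h5 := four_sq h4
  have h6 : c * y * c⁻¹ * (c * y * c⁻¹) = c * y ^ 2 * c⁻¹ := by rw [pow_two]; group
  rw [h6] at h5
  calc y ^ 2 = c⁻¹ * (c * y ^ 2 * c⁻¹) * c := by group
    _ = 1 := by rw [h5]; group

/-- **A cyclic permutation of the three involutions.** -/
theorem exists_cyc [Finite K] {a b : K} {ha : a * a = 1} {hb : b * b = 1} {hab : a * b = b * a}
    (ha1 : a ≠ 1) (hb1 : b ≠ 1) (hne : a ≠ b)
    (hc1 : IsConj a b) (hc2 : IsConj a (a * b))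
    {P : Sylow 2 K} (hP : (P : Subgroup K) = four a b ha hb hab) :
    ∃ r : K, (r * a = b * r ∧ r * b = a * b * r) ∨ (r * a = a * b * r ∧ r * b = a * r) := by
  have hfact : Fact (Nat.Prime 2) := ⟨Nat.prime_two⟩
  have hcomm : IsMulCommutative (P : Subgroup K) := by
    rw [hP]
    refine ⟨⟨fun x y => ?_⟩⟩
    apply Subtype.ext
    exact four_comm x.2 y.2
  have haP : a ∈ P := by
    show a ∈ (P : Subgroup K)
    rw [hP]; exact Or.inr (Or.inl rfl)
  have hbP : b ∈ P := by
    show b ∈ (P : Subgroup K)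
    rw [hP]; exact Or.inr (Or.inr (Or.inl rfl))
  have habP : a * b ∈ P := mul_mem haP hbP
  -- for `x ∈ {b, ab}` there is `n` normalising `P` with `n a n⁻¹ = x`
  have key : ∀ x ∈ P, IsConj a x → ∃ n : K, n * a * n⁻¹ = x ∧ ∀ p ∈ P, n * p * n⁻¹ ∈ P := by
    intro x hx hax
    obtain ⟨k, hk⟩ := isConj_iff.1 hax
    obtain ⟨n, hn, hn2⟩ := P.conj_eq_normalizer_conj_of_mem a k⁻¹ haP (by
      rw [inv_inv, hk]; exact hx)
    refine ⟨n⁻¹, ?_, ?_⟩
    · rw [inv_inv, ← hn2, inv_inv, hk]
    · intro p hp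
      have := (Subgroup.mem_normalizer_iff.1 ((Subgroup.normalizer (P : Set K)).inv_mem hn)) p
      exact this.1 hp
  obtain ⟨n1, h1, h1'⟩ := key b hbP hc1
  obtain ⟨n2, h2, h2'⟩ := key (a * b) habP hc2
  have hfour : ∀ x ∈ P, x = 1 ∨ x = a ∨ x = b ∨ x = a * b := by
    intro x hx
    have : x ∈ (P : Subgroup K) := hx
    rw [hP] at this
    exact this
  have e1 : n1 * a = b * n1 := by rw [← h1]; group
  have e2 : n2 * a = a * b * n2 := by rw [← h2]; group
  -- the image of `b` under `n1`
  rcases hfour _ (h1' b hbP) with h | h | h | h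
  · exfalso
    apply hb1
    calc b = n1⁻¹ * (n1 * b * n1⁻¹) * n1 := by group
      _ = 1 := by rw [h]; group
  · -- `n1` swaps `a` and `b`
    rcases hfour _ (h2' b hbP) with h' | h' | h' | h'
    · exfalso
      apply hb1
      calc b = n2⁻¹ * (n2 * b * n2⁻¹) * n2 := by group
        _ = 1 := by rw [h']; group
    · refine ⟨n2, Or.inr ⟨e2, ?_⟩⟩
      rw [← h']; group
    · -- `n2` fixes `b` and swaps `a`, `ab`
      refine ⟨n1 * n2, Or.inr ⟨?_, ?_⟩⟩
      · have e3 : n1 * b = a * n1 := by rw [← h]; group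
        calc n1 * n2 * a = n1 * (n2 * a) := by group
          _ = n1 * (a * b * n2) := by rw [e2]
          _ = n1 * a * b * n2 := by group
          _ = b * n1 * b * n2 := by rw [e1]
          _ = b * (n1 * b) * n2 := by group
          _ = b * (a * n1) * n2 := by rw [e3]
          _ = b * a * (n1 * n2) := by group
          _ = a * b * (n1 * n2) := by rw [hab]
      · have e3 : n1 * b = a * n1 := by rw [← h]; group
        have e4 : n2 * b = b * n2 := by
          calc n2 * b = n2 * b * n2⁻¹ * n2 := by group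
            _ = b * n2 := by rw [h']
        calc n1 * n2 * b = n1 * (n2 * b) := by group
          _ = n1 * (b * n2) := by rw [e4]
          _ = n1 * b * n2 := by group
          _ = a * n1 * n2 := by rw [e3]
          _ = a * (n1 * n2) := by group
    · exfalso
      apply ha1
      have e3 : n2 * a * n2⁻¹ = n2 * b * n2⁻¹ := by rw [h2, h']
      exact absurd (mul_left_cancel (mul_right_cancel e3)) hne
  · exfalso
    have e3 : n1 * a * n1⁻¹ = n1 * b * n1⁻¹ := by rw [h1, h]
    exact absurd (mul_left_cancel (mul_right_cancel e3)) hne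
  · refine ⟨n1, Or.inl ⟨e1, ?_⟩⟩
    rw [← h]; group

end Cfsg.Agent.GTwoFour.OuterSyl

private theorem dce_b4bd7663b3e9 : _root_.True := by
  try have : _root_.True := by simp only [_root_.Cfsg.Agent.GTwoFour.OuterSyl.four.congr_simp]
  exact _root_.True.intro
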