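import Mathlib
import Cfsg.Agent.StdG24.Facts
import Cfsg.Agent.StdAlt.Conj
import Cfsg.Prelude.Def_Local
import Cfsg.Agent.S0848
import Cfsg.Agent.SporadicB.DihedralLift
import Cfsg.Agent.J2Type.FourSelfCent
import Cfsg.Agent.GTwoFour.TransferTL
import Cfsg.Agent.GTwoFour.Tools
import Cfsg.Agent.StdG24.AutX_mg_m3
import Cfsg.Agent.StdG24.P957Of_m3
import Cfsg.Agent.StdG24.AutL
import Cfsg.Agent.Lib.PermCode
import Cfsg.Agent.StdG24.AutA5
import Cfsg.Agent.Lib.FastPerm
import Cfsg.Agent.TwoFusion.DihedralFusion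
import Cfsg.Agent.StdAlt.First
import Cfsg.Agent.ProdFusion.FunctorComplete_m3
import Cfsg.Agent.Lib.Cores
import Cfsg.Agent.FastGrp
import Cfsg.Agent.Prune
set_option linter.all false

section
prune_inst 0x7fbcfefbaff8bddeffff7e7ffffddffffdfdfffffffffffbffedffffefdf6b6ffbe5fb8fffec58ffdef7e29630f87b53f9ffeeffef6bdc7ffffd5ff45ffbff9fedffbfac51dfb8be1ffe6ffffbf37fbfffffffffffffffffffffffffffffffffffffffffffff

-- part: StdG24/Basic
section
prune_inst 0x42010400060001000001800002000002000000000000000010000010200490041200700013a60021001128870200a0040001000090038000020000a0040040120000032c00040100001000000c804000000000000000000000000000000000000000000000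
set_option linter.all false
open scoped Cfsg.Agent.FastGrp

/-!
# Embeddings of `L = G₂(4)` as a standard subgroup: basic lemmas
-/

set_option autoImplicit false

namespace Cfsg.Agent.StdG24

open Subgroup

section General

variable {G : Type*} [Group G]

/-- Let `K ≤ H`, `K` of even order and tightly embedded with `N(K) = M`. If the 2-elements of `M ⊓ H` lie in `K`
then every 2-subgroup of `H` is conjugate in `H` to a subgroup of `K`. -/
theorem exists_conj_le_of_tight [Finite G] {H K M : Subgroup G} (hKH : K ≤ H)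
    (key : ∀ t g, t ∈ K → t ≠ 1 → t * t = 1 → g * t * g⁻¹ ∈ K → g ∈ M)
    (h2 : ∀ m ∈ M, m ∈ H → (∃ n, m ^ 2 ^ n = 1) → m ∈ K)
    (hev : ∃ t ∈ K, t ≠ 1 ∧ t * t = 1) {P : Subgroup G} (hPH : P ≤ H) (hP : IsPGroup 2 P) :
    ∃ c ∈ H, ∀ x ∈ P, c * x * c⁻¹ ∈ K := by
  obtain ⟨t0, ht0, ht01, ht02⟩ := hev
  obtain ⟨R⟩ : Nonempty (Sylow 2 K) := inferInstance
  have hR'2 : IsPGroup 2 ((R : Subgroup K).map K.subtype) := R.isPGroup'.map _
  have hR'K : (R : Subgroup K).map K.subtype ≤ K := map_subtype_le _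
  have hmax : ∀ Q : Subgroup G, Q ≤ K → IsPGroup 2 Q → (R : Subgroup K).map K.subtype ≤ Q →
      Q = (R : Subgroup K).map K.subtype := by
    intro Q hQK hQ hRQ
    have h1 : IsPGroup 2 (Q.subgroupOf K) := hQ.of_injective (subgroupOfEquivOfLe hQK).toMonoidHom
      (subgroupOfEquivOfLe hQK).injective
    have h3 : (R : Subgroup K) ≤ Q.subgroupOf K := by
      intro x hx
      rw [mem_subgroupOf]
      exact hRQ ⟨x, hx, rfl⟩
    have h4 := R.is_maximal' h1 h3
    rw [← h4, subgroupOf_map_subtype, inf_eq_left.2 hQK]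
  -- an involution of `R`
  have hRinv : ∃ t ∈ (R : Subgroup K).map K.subtype, t ≠ 1 ∧ t * t = 1 := by
    have h1 : IsPGroup 2 (zpowers (⟨t0, ht0⟩ : K)) := by
      apply IsPGroup.of_card (n := 1)
      rw [Nat.card_zpowers, pow_one]
      refine orderOf_eq_prime ?_ ?_
      · rw [pow_two]; exact Subtype.ext ht02
      · intro h; exact ht01 (congrArg Subtype.val h)
    obtain ⟨Q, hQ⟩ := h1.exists_le_sylow
    obtain ⟨c, hc⟩ := MulAction.exists_smul_eq K Q R
    refine ⟨c * t0 * (c : G)⁻¹, ⟨c * ⟨t0, ht0⟩ * c⁻¹, ?_, rfl⟩, ?_, ?_⟩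
    · rw [← hc]
      exact ⟨_, hQ (mem_zpowers _), rfl⟩
    · intro h
      apply ht01
      have h3 : t0 = (c : G)⁻¹ * (c * t0 * (c : G)⁻¹) * c := by group
      rw [h3, h]; group
    · have h3 : (c : G) * t0 * (c : G)⁻¹ * (c * t0 * (c : G)⁻¹) = c * (t0 * t0) * (c : G)⁻¹ := by group
      rw [h3, ht02]; group
  obtain ⟨t, htR, ht1, htt⟩ := hRinv
  set R' : Subgroup G := (R : Subgroup K).map K.subtype with hR'
  have hR'H : R' ≤ H := hR'K.trans hKH
  have h5 : IsPGroup 2 (R'.subgroupOf H) := hR'2.of_injective (subgroupOfEquivOfLe hR'H).toMonoidHom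
    (subgroupOfEquivOfLe hR'H).injective
  obtain ⟨T, hT⟩ := h5.exists_le_sylow
  set T' : Subgroup G := (T : Subgroup H).map H.subtype with hT'
  have hT'2 : IsPGroup 2 T' := T.isPGroup'.map _
  have hT'H : T' ≤ H := map_subtype_le _
  have hRT : R' ≤ T' := by
    intro x hx
    exact ⟨⟨x, hR'H hx⟩, hT (mem_subgroupOf.2 hx), rfl⟩
  have hTK : T' = R' := by
    by_contra hne
    have hlt : R'.subgroupOf T' < ⊤ := by
      rw [lt_top_iff_ne_top]
      intro h
      exact hne (le_antisymm (subgroupOf_eq_top.1 h) hRT)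
    haveI : Group.IsNilpotent T' := hT'2.isNilpotent
    have h1 := Group.normalizerCondition_of_isNilpotent (G := T') _ hlt
    obtain ⟨⟨x, hxP⟩, hx1, hx2⟩ := SetLike.exists_of_lt h1
    rw [mem_subgroupOf] at hx2
    have hnorm : ∀ y ∈ R', x * y * x⁻¹ ∈ R' := by
      intro y hy
      have h3 := (mem_normalizer_iff.1 hx1 ⟨y, hRT hy⟩).1 (mem_subgroupOf.2 hy)
      exact mem_subgroupOf.1 h3
    have hxM : x ∈ M := key t x (hR'K htR) ht1 htt (hR'K (hnorm t htR))
    obtain ⟨n, hn⟩ := hT'2 ⟨x, hxP⟩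
    have hxK : x ∈ K := h2 x hxM (hT'H hxP) ⟨n, congrArg Subtype.val hn⟩
    have h3 : R' ⊔ zpowers x = R' :=
      hmax _ (sup_le hR'K ((zpowers_le).2 hxK))
        (hT'2.to_le (sup_le hRT (by rwa [zpowers_le]))) le_sup_left
    apply hx2
    change x ∈ R'
    rw [← h3]
    exact mem_sup_right (mem_zpowers x)
  have h6 : IsPGroup 2 (P.subgroupOf H) := hP.of_injective (subgroupOfEquivOfLe hPH).toMonoidHom
    (subgroupOfEquivOfLe hPH).injective
  obtain ⟨Q, hQ⟩ := h6.exists_le_sylow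
  obtain ⟨c, hc⟩ := MulAction.exists_smul_eq H Q T
  refine ⟨c, c.2, fun x hx => hR'K ?_⟩
  have h7 : (⟨x, hPH hx⟩ : H) ∈ Q := hQ (mem_subgroupOf.2 hx)
  have h8 : c * ⟨x, hPH hx⟩ * c⁻¹ ∈ T := by
    rw [← hc]
    exact ⟨_, h7, rfl⟩
  rw [← hTK]
  exact ⟨_, h8, rfl⟩

/-- the cyclic group generated by an involution is a 2-group -/
theorem isPGroup_zpowers {t : G} (h : t * t = 1) : IsPGroup 2 (zpowers t) := by
  rintro ⟨x, hx⟩
  obtain ⟨k, rfl⟩ := mem_zpowers_iff.1 hx
  refine ⟨1, Subtype.ext ?_⟩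
  change (t ^ k) ^ (2 ^ 1) = 1
  rw [pow_one, pow_two, ← zpow_add, ← mul_two, zpow_mul', zpow_two, h, one_zpow]

end General

variable {L : Type*} [Group L] {G : Type*} [Group G]

/-- the conjugate of an embedding -/
def cjh (g : G) (e : L →* G) : L →* G := (MulAut.conj g).toMonoidHom.comp e

@[simp] theorem cjh_apply (g : G) (e : L →* G) (x : L) : cjh g e x = g * e x * g⁻¹ := rfl

/-- centralizer of the image -/
def KK (e : L →* G) : Subgroup G := centralizer (e.range : Set G)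

/-- normalizer of the image -/
def MM (e : L →* G) : Subgroup G := normalizer (e.range : Set G)

theorem mem_KK {e : L →* G} {k : G} : k ∈ KK e ↔ ∀ x, k * e x = e x * k := by
  rw [KK, mem_centralizer_iff]
  constructor
  · intro h x
    exact (h _ ⟨x, rfl⟩).symm
  · rintro h _ ⟨x, rfl⟩
    exact (h x).symm

theorem mem_MM {e : L →* G} {m : G} :
    m ∈ MM e ↔ (∀ x, ∃ y, m * e x * m⁻¹ = e y) ∧ ∀ x, ∃ y, m⁻¹ * e x * m = e y := by
  rw [MM, mem_normalizer_iff]
  constructor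
  · intro h
    refine ⟨fun x => ?_, fun x => ?_⟩
    · obtain ⟨y, hy⟩ := (h (e x)).1 ⟨x, rfl⟩
      exact ⟨y, hy.symm⟩
    · obtain ⟨y, hy⟩ := (h (m⁻¹ * e x * m)).2 ⟨x, by group⟩
      exact ⟨y, hy.symm⟩
  · rintro ⟨h1, h2⟩ x
    constructor
    · rintro ⟨y, rfl⟩
      obtain ⟨y', hy'⟩ := h1 y
      exact ⟨y', hy'.symm⟩
    · rintro ⟨y, hy⟩
      obtain ⟨y', hy'⟩ := h2 y
      refine ⟨y', ?_⟩
      rw [← hy', hy]; group

theorem KK_le_MM (e : L →* G) : KK e ≤ MM e := centralizer_le_normalizer _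

theorem apply_mem_MM (e : L →* G) (x : L) : e x ∈ MM e :=
  le_normalizer (H := e.range) ⟨x, rfl⟩

theorem mem_KK_cjh {g x : G} {e : L →* G} : x ∈ KK (cjh g e) ↔ g⁻¹ * x * g ∈ KK e := by
  rw [mem_KK, mem_KK]
  constructor
  · intro h y
    have h1 := h y
    rw [cjh_apply] at h1
    calc g⁻¹ * x * g * e y = g⁻¹ * (x * (g * e y * g⁻¹)) * g := by group
      _ = g⁻¹ * (g * e y * g⁻¹ * x) * g := by rw [h1]
      _ = e y * (g⁻¹ * x * g) := by group
  · intro h y
    have h1 := h y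
    rw [cjh_apply]
    calc x * (g * e y * g⁻¹) = g * (g⁻¹ * x * g * e y) * g⁻¹ := by group
      _ = g * (e y * (g⁻¹ * x * g)) * g⁻¹ := by rw [h1]
      _ = g * e y * g⁻¹ * x := by group

theorem mem_MM_cjh {g x : G} {e : L →* G} : x ∈ MM (cjh g e) ↔ g⁻¹ * x * g ∈ MM e := by
  rw [mem_MM, mem_MM]
  refine and_congr (forall_congr' fun y => exists_congr fun y' => ?_)
    (forall_congr' fun y => exists_congr fun y' => ?_)
  · rw [cjh_apply, cjh_apply]
    constructor
    · intro h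
      calc g⁻¹ * x * g * e y * (g⁻¹ * x * g)⁻¹ = g⁻¹ * (x * (g * e y * g⁻¹) * x⁻¹) * g := by group
        _ = e y' := by rw [h]; group
    · intro h
      calc x * (g * e y * g⁻¹) * x⁻¹ = g * (g⁻¹ * x * g * e y * (g⁻¹ * x * g)⁻¹) * g⁻¹ := by group
        _ = g * e y' * g⁻¹ := by rw [h]
  · rw [cjh_apply, cjh_apply]
    constructor
    · intro h
      calc (g⁻¹ * x * g)⁻¹ * e y * (g⁻¹ * x * g) = g⁻¹ * (x⁻¹ * (g * e y * g⁻¹) * x) * g := by group
        _ = e y' := by rw [h]; group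
    · intro h
      calc x⁻¹ * (g * e y * g⁻¹) * x = g * ((g⁻¹ * x * g)⁻¹ * e y * (g⁻¹ * x * g)) * g⁻¹ := by group
        _ = g * e y' * g⁻¹ := by rw [h]

/-- The consequences of "`e : L → G` is an isomorphism onto a standard subgroup". -/
structure Emb (e : L →* G) : Prop where
  inj : Function.Injective e
  key : ∀ k g, k ∈ KK e → k ≠ 1 → k * k = 1 → g * k * g⁻¹ ∈ KK e → g ∈ MM e
  disj : ∀ x, e x ∈ KK e → x = 1
  ncomm : ∀ g : G, (∀ x y, e x * (g * e y * g⁻¹) = (g * e y * g⁻¹) * e x) → False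
  even : ∃ t ∈ KK e, t ≠ 1 ∧ t * t = 1

namespace Emb

variable {e : L →* G}

theorem cjh (h : Emb e) (g : G) : Emb (StdG24.cjh g e) := by
  refine ⟨fun x y hxy => ?_, fun k x hk h1 h2 hx => ?_, fun x hx => ?_, fun x hx => ?_, ?_⟩
  · simp only [cjh_apply, mul_left_inj, mul_right_inj] at hxy
    exact h.inj hxy
  · rw [mem_KK_cjh] at hk hx
    rw [mem_MM_cjh]
    refine h.key (g⁻¹ * k * g) (g⁻¹ * x * g) hk ?_ ?_ ?_
    · intro h3
      apply h1
      rw [show k = g * (g⁻¹ * k * g) * g⁻¹ by group, h3]; group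
    · rw [show g⁻¹ * k * g * (g⁻¹ * k * g) = g⁻¹ * (k * k) * g by group, h2]; group
    · rw [show g⁻¹ * x * g * (g⁻¹ * k * g) * (g⁻¹ * x * g)⁻¹ = g⁻¹ * (x * k * x⁻¹) * g by group]
      exact hx
  · rw [mem_KK_cjh, cjh_apply] at hx
    apply h.disj
    rwa [show g⁻¹ * (g * e x * g⁻¹) * g = e x by group] at hx
  · apply h.ncomm (g⁻¹ * x * g)
    intro a b
    have h1 := hx a b
    simp only [cjh_apply] at h1
    calc e a * (g⁻¹ * x * g * e b * (g⁻¹ * x * g)⁻¹)
        = g⁻¹ * (g * e a * g⁻¹ * (x * (g * e b * g⁻¹) * x⁻¹)) * g := by group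
      _ = g⁻¹ * (x * (g * e b * g⁻¹) * x⁻¹ * (g * e a * g⁻¹)) * g := by rw [h1]
      _ = (g⁻¹ * x * g * e b * (g⁻¹ * x * g)⁻¹) * e a := by group
  · obtain ⟨t, ht, ht1, ht2⟩ := h.even
    refine ⟨g * t * g⁻¹, ?_, ?_, ?_⟩
    · rw [mem_KK_cjh, show g⁻¹ * (g * t * g⁻¹) * g = t by group]; exact ht
    · intro h3
      apply ht1
      rw [show t = g⁻¹ * (g * t * g⁻¹) * g by group, h3]; group
    · rw [show g * t * g⁻¹ * (g * t * g⁻¹) = g * (t * t) * g⁻¹ by group, ht2]; group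

/-- an element commuting with an involution of `K` lies in `M` -/
theorem nrm (h : Emb e) {k : G} (hk : k ∈ KK e) (h1 : k ≠ 1) (h2 : k * k = 1) {g : G}
    (hg : g * k = k * g) : g ∈ MM e :=
  h.key k g hk h1 h2 (by rw [hg, mul_inv_cancel_right]; exact hk)

/-- the automorphism of `L` induced by an element of `M` -/
theorem exists_aut (h : Emb e) {m : G} (hm : m ∈ MM e) :
    ∃ α : L ≃* L, ∀ x, e (α x) = m * e x * m⁻¹ := by
  obtain ⟨h1, h2⟩ := mem_MM.1 hm
  choose f hf using h1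
  choose f' hf' using h2
  refine ⟨{ toFun := f, invFun := f', left_inv := fun x => h.inj ?_, right_inv := fun x => h.inj ?_,
            map_mul' := fun x y => h.inj ?_ }, fun x => (hf x).symm⟩
  · rw [← hf', ← hf]; group
  · rw [← hf, ← hf']; group
  · rw [map_mul, ← hf, ← hf, ← hf, map_mul]; group

/-- if `m` induces conjugation by `t` then `m ∈ K e(t)` -/
theorem mem_of_aut {m : G} {t : L} (hmt : ∀ x, m * e x * m⁻¹ = e (t * x * t⁻¹)) :
    m * (e t)⁻¹ ∈ KK e := by
  rw [mem_KK]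
  intro x
  have h1 := hmt (t⁻¹ * x * t)
  rw [show t * (t⁻¹ * x * t) * t⁻¹ = x by group] at h1
  calc m * (e t)⁻¹ * e x = m * ((e t)⁻¹ * e x * e t) * m⁻¹ * (m * (e t)⁻¹) := by group
    _ = m * e (t⁻¹ * x * t) * m⁻¹ * (m * (e t)⁻¹) := by rw [map_mul, map_mul, map_inv]
    _ = e x * (m * (e t)⁻¹) := by rw [h1]

theorem conj_KK {m : G} (h : m ∈ MM e) {k : G} (hk : k ∈ KK e) : m * k * m⁻¹ ∈ KK e := by
  rw [mem_KK] at hk ⊢
  intro x
  obtain ⟨y, hy⟩ := (mem_MM.1 h).2 x
  have h1 := hk y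
  rw [← hy] at h1
  calc m * k * m⁻¹ * e x = m * (k * (m⁻¹ * e x * m)) * m⁻¹ := by group
    _ = m * (m⁻¹ * e x * m * k) * m⁻¹ := by rw [h1]
    _ = e x * (m * k * m⁻¹) := by group

end Emb

end Cfsg.Agent.StdG24

private theorem dce_7c016c7be031 : _root_.True := by
  try have : _root_.True := by simp only [_root_.Cfsg.Agent.StdG24.MM.eq_1]
  try have : _root_.True := by simp only [_root_.Cfsg.Agent.StdG24.KK.eq_1]
  exact _root_.True.intro
end

-- part: GTwoFour/EmbOf
section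
set_option linter.all false
open scoped Cfsg.Agent.FastGrp

/-!
# `Emb` for a standard subgroup with trivial centre
-/

set_option autoImplicit false

namespace Cfsg.Agent.GTwoFour.EmbOf

open Subgroup Cfsg.Agent.StdG24

variable {G : Type*} [Group G] {L : Type*} [Group L]

/-- the embedding given by an isomorphism of a subgroup with `L` -/
def emb {A : Subgroup G} (φ : A ≃* L) : L →* G := A.subtype.comp φ.symm.toMonoidHom

theorem emb_apply {A : Subgroup G} (φ : A ≃* L) (x : L) : emb φ x = (φ.symm x : G) := rfl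

theorem range_emb {A : Subgroup G} (φ : A ≃* L) : (emb φ).range = A := by
  ext x
  constructor
  · rintro ⟨y, rfl⟩
    exact (φ.symm y).2
  · intro hx
    exact ⟨φ ⟨x, hx⟩, by rw [emb_apply, MulEquiv.symm_apply_apply]⟩

theorem KK_emb {A : Subgroup G} (φ : A ≃* L) : KK (emb φ) = centralizer (A : Set G) := by
  rw [KK, range_emb]

theorem MM_emb {A : Subgroup G} (φ : A ≃* L) : MM (emb φ) = normalizer (A : Set G) := by
  rw [MM, range_emb]

/-- **`Emb` from `IsStandardSubgroup`.** -/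
theorem emb_of_standard [Finite G] {A : Subgroup G} (hA : Cfsg.IsStandardSubgroup A) (φ : A ≃* L)
    (hc : ∀ x : L, (∀ y, x * y = y * x) → x = 1) (hne : ∃ x : L, x ≠ 1) : Emb (emb φ) := by
  classical
  have : Fact (Nat.Prime 2) := ⟨Nat.prime_two⟩
  refine ⟨?_, ?_, ?_, ?_, ?_⟩
  · intro x y hxy
    rw [emb_apply, emb_apply] at hxy
    exact φ.symm.injective (Subtype.ext hxy)
  · intro k g hk k1 k2 hg
    rw [MM_emb, hA.2.2.2]
    rw [KK_emb] at hk hg
    by_contra hcon
    have hodd := hA.2.1.2 g hcon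
    have h3 : g * k * g⁻¹ ∈ centralizer (A : Set G) ⊓
        (centralizer (A : Set G)).map (MulAut.conj g).toMonoidHom := mem_inf.2 ⟨hg, k, hk, rfl⟩
    have h4 := Subgroup.orderOf_dvd_natCard _ h3
    have h5 : orderOf (g * k * g⁻¹) = 2 := by
      apply orderOf_eq_prime
      · rw [pow_two]
        calc g * k * g⁻¹ * (g * k * g⁻¹) = g * (k * k) * g⁻¹ := by group
          _ = 1 := by rw [k2]; group
      · intro h1
        apply k1
        calc k = g⁻¹ * (g * k * g⁻¹) * g := by group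
          _ = 1 := by rw [h1]; group
    rw [h5] at h4
    exact (Nat.not_even_iff_odd.2 hodd) (even_iff_two_dvd.2 h4)
  · intro x hx
    rw [mem_KK] at hx
    apply hc
    intro y
    have h1 := hx y
    rw [← map_mul, ← map_mul] at h1
    exact φ.symm.injective (Subtype.ext h1)
  · intro g hg
    by_cases hAg : A.map (MulAut.conj g).toMonoidHom = A
    · -- `A` would be commutative
      obtain ⟨x, hx⟩ := hne
      apply hx
      apply hc
      intro y
      have h1 : (φ.symm y : G) ∈ A.map (MulAut.conj g).toMonoidHom := by rw [hAg]; exact (φ.symm y).2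
      obtain ⟨a, ha, hay⟩ := h1
      have h2 : g * a * g⁻¹ = (φ.symm y : G) := hay
      have h3 := hg x (φ ⟨a, ha⟩)
      rw [emb_apply, emb_apply, MulEquiv.symm_apply_apply] at h3
      rw [h2] at h3
      exact φ.symm.injective (Subtype.ext (by rw [map_mul, map_mul]; exact h3))
    · apply hA.2.2.1 g hAg
      rw [commutator_eq_bot_iff_le_centralizer]
      intro a ha
      rw [mem_centralizer_iff]
      rintro _ ⟨b, hb, rfl⟩
      have h3 := hg (φ ⟨a, ha⟩) (φ ⟨b, hb⟩)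
      rw [emb_apply, emb_apply, MulEquiv.symm_apply_apply, MulEquiv.symm_apply_apply] at h3
      exact h3.symm
  · obtain ⟨⟨t, htK⟩, ht⟩ := exists_prime_orderOf_dvd_card' (G := centralizer (A : Set G)) 2
      (even_iff_two_dvd.1 hA.2.1.1)
    rw [← Subgroup.orderOf_coe] at ht
    refine ⟨t, by rw [KK_emb]; exact htK, ?_, ?_⟩
    · rintro rfl
      simp at ht
    · have h1 := pow_orderOf_eq_one t
      have h2 : orderOf t = 2 := ht
      rw [h2, pow_two] at h1
      exact h1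

end Cfsg.Agent.GTwoFour.EmbOf
end

-- part: StdG24/EightMM
section
prune_inst 0x100000000000000000000000000000000000000000000000000000000000080000000000000000000020000000000000000000000000000001200000000200000000000000000000000000000000000000000000000000000000000000000
set_option linter.all false
open scoped Cfsg.Agent.FastGrp

-- part: StdG24/EightPerm
section
/-!
# Computations in `A₆` for step 8 of S1767
-/

set_option autoImplicit false

namespace Cfsg.Agent.StdG24.EightPerm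

open Equiv

abbrev P := Equiv.Perm (Fin 6)

def a0 : P := Equiv.swap (0 : Fin 6) 1 * Equiv.swap (2 : Fin 6) 3
def b0 : P := Equiv.swap (0 : Fin 6) 2 * Equiv.swap (1 : Fin 6) 3
def c0 : P := Equiv.swap (0 : Fin 6) 1 * Equiv.swap (1 : Fin 6) 2
def e1 : P := Equiv.swap (0 : Fin 6) 1 * Equiv.swap (4 : Fin 6) 5
def d1 : P := Equiv.swap (0 : Fin 6) 1 * Equiv.swap (3 : Fin 6) 4

def sg (x : P) : Bool × Bool := (decide (x * x = 1), decide (x * x * x = 1))

def A4L : List P := [1, c0, c0 * c0, a0, c0 * a0, c0 * c0 * a0, b0, c0 * b0, c0 * c0 * b0, a0 * b0,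
  c0 * (a0 * b0), c0 * c0 * (a0 * b0)]

theorem A4L_facts : ∀ g ∈ A4L, g 5 = 5 ∧ Perm.sign g = 1 ∧ sg (e1 * g * e1 * d1) = sg (g * d1) := by
  delta sg
  simp only [↓Cfsg.Agent.PermCode.M, Cfsg.Agent.PermCode.P6.R, Cfsg.Agent.PermCode.B]
  decide +kernel

theorem norm1 : ∀ a : P, a 5 = 5 → Perm.sign a = 1 → a ≠ 1 → a * a = 1 →
    ∃ s : P, s 5 = 5 ∧ s * a * s⁻¹ = a0 := by (simp only [↓Cfsg.Agent.PermCode.M, Cfsg.Agent.PermCode.P6.R, Cfsg.Agent.PermCode.B]; decide +kernel)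

theorem norm2 : ∀ b : P, b 5 = 5 → Perm.sign b = 1 → b ≠ 1 → b * b = 1 → b ≠ a0 → a0 * b = b * a0 →
    ∃ s : P, s 5 = 5 ∧ s * a0 * s⁻¹ = a0 ∧ s * b * s⁻¹ = b0 := by (simp only [↓Cfsg.Agent.PermCode.M, Cfsg.Agent.PermCode.P6.R, Cfsg.Agent.PermCode.B]; decide +kernel)

def e2 : P := Equiv.swap (2 : Fin 6) 3 * Equiv.swap (4 : Fin 6) 5

theorem norm3' : ∀ e : P, e * e = 1 → Perm.sign e = 1 → e * a0 * e⁻¹ = a0 → e * b0 * e⁻¹ = a0 * b0 →
    e = e1 ∨ e = e2 := by (simp only [↓Cfsg.Agent.PermCode.M, Cfsg.Agent.PermCode.P6.R, Cfsg.Agent.PermCode.B]; decide +kernel)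

theorem e2_facts : b0 5 = 5 ∧ b0 * a0 * b0⁻¹ = a0 ∧ b0 * b0 * b0⁻¹ = b0 ∧ b0 * e2 * b0⁻¹ = e1 := by
  decide +kernel

theorem norm3 : ∀ e : P, e * e = 1 → Perm.sign e = 1 → e * a0 * e⁻¹ = a0 → e * b0 * e⁻¹ = a0 * b0 →
    ∃ s : P, s 5 = 5 ∧ s * a0 * s⁻¹ = a0 ∧ s * b0 * s⁻¹ = b0 ∧ s * e * s⁻¹ = e1 := by
  intro e h1 h2 h3 h4
  rcases norm3' e h1 h2 h3 h4 with rfl | rfl
  · exact ⟨1, rfl, by simp, by simp, by simp⟩
  · exact ⟨b0, e2_facts.1, e2_facts.2.1, e2_facts.2.2.1, e2_facts.2.2.2⟩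

theorem mem_A4L : ∀ g : P, g 5 = 5 → Perm.sign g = 1 → g * a0 * g⁻¹ ∈ [a0, b0, a0 * b0] →
    g * b0 * g⁻¹ ∈ [a0, b0, a0 * b0] → g ∈ A4L := by (simp only [↓Cfsg.Agent.PermCode.M, Cfsg.Agent.PermCode.P6.R, Cfsg.Agent.PermCode.B]; decide +kernel)

theorem uniq : ∀ y : P, y 5 = 5 → Perm.sign y = 1 → (∀ g ∈ A4L, sg (g * y) = sg (g * d1)) →
    y = d1 := by (delta sg; simp only [↓Cfsg.Agent.PermCode.M, Cfsg.Agent.PermCode.P6.R, Cfsg.Agent.PermCode.B]; decide +kernel)

theorem rels : d1 5 = 5 ∧ Perm.sign d1 = 1 ∧ d1 * d1 = 1 ∧ a0 * d1 * (a0 * d1) * (a0 * d1) = 1 ∧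
    d1 * e1 * (d1 * e1) * (d1 * e1) = 1 ∧ e1 * a0 = a0 * e1 := by decide +kernel

theorem len_A4L : A4L.length = 12 := rfl

end Cfsg.Agent.StdG24.EightPerm
end

-- part: StdG24/EightAbs
section
/-!
# The centraliser of `U₃(3)` in step 8 of S1767

Abstract form: `Y` is a perfect finite group, `V ≤ K ≤ B < Y` with `B ≅ A₅`, `K ≅ A₄`, `V = O₂(K)`, and the
centralisers of the involutions of `V` lie in a group `N` with `|N : K| ≤ 2`. Then `Y ≅ A₆` and we find
elements with the relations of `P957`.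
-/

set_option autoImplicit false

namespace Cfsg.Agent.StdG24.EightAbs

open Subgroup

variable {Y : Type*} [Group Y]

/-- The setting. -/
structure Hyp (V K B N : Subgroup Y) : Prop where
  perf : commutator Y = ⊤
  V4 : Nat.card V = 4
  sq : ∀ v ∈ V, v * v = 1
  VK : V ≤ K
  KB : K ≤ B
  K12 : Nat.card K = 12
  KV : ∀ k ∈ K, ∀ v ∈ V, k * v * k⁻¹ ∈ V
  self : ∀ v ∈ V, v ≠ 1 → ∀ k ∈ K, k * v = v * k → k ∈ V
  BA : Nonempty (B ≃* alternatingGroup (Fin 5))
  ne : B ≠ ⊤
  KN : K ≤ N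
  N2 : ∀ a ∈ N, ∀ b ∈ N, a ∉ K → b ∉ K → a * b ∈ K
  NV : ∀ a ∈ N, ∀ v ∈ V, a * v * a⁻¹ ∈ V
  cent : ∀ v ∈ V, v ≠ 1 → ∀ y, y * v = v * y → y ∈ N

/-- elements of a Klein four-group -/
theorem four {V : Subgroup Y} (V4 : Nat.card V = 4) (sq : ∀ v ∈ V, v * v = 1) {v1 v2 : Y}
    (h1 : v1 ∈ V) (h2 : v2 ∈ V) (n1 : v1 ≠ 1) (n2 : v2 ≠ 1) (n12 : v2 ≠ v1) :
    ∀ w ∈ V, w = 1 ∨ w = v1 ∨ w = v2 ∨ w = v1 * v2 := by
  classical
  have n3 : v1 * v2 ≠ 1 := by
    intro h
    apply n12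
    have := inv_eq_of_mul_eq_one_right h
    rw [← this]
    exact (inv_eq_of_mul_eq_one_left (sq v1 h1))
  have n4 : v1 * v2 ≠ v1 := fun h => n2 (mul_eq_left.1 h)
  have n5 : v1 * v2 ≠ v2 := fun h => n1 (mul_eq_right.1 h)
  have hfin : Finite V := Nat.finite_of_card_ne_zero (by rw [V4]; norm_num)
  have hcard : ((({1, v1, v2, v1 * v2} : Finset Y) : Set Y)).ncard = 4 := by
    rw [Set.ncard_coe_finset]
    rw [Finset.card_insert_of_notMem, Finset.card_insert_of_notMem, Finset.card_insert_of_notMem,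
      Finset.card_singleton]
    · simp only [Finset.mem_singleton]; exact n5.symm
    · simp only [Finset.mem_insert, Finset.mem_singleton, not_or]
      exact ⟨n12.symm, n4.symm⟩
    · simp only [Finset.mem_insert, Finset.mem_singleton, not_or]
      exact ⟨n1.symm, n2.symm, n3.symm⟩
  have hsub : (({1, v1, v2, v1 * v2} : Finset Y) : Set Y) ⊆ (V : Set Y) := by
    intro x hx
    simp only [Finset.coe_insert, Finset.coe_singleton, Set.mem_insert_iff, Set.mem_singleton_iff] at hx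
    rcases hx with rfl | rfl | rfl | rfl
    · exact V.one_mem
    · exact h1
    · exact h2
    · exact V.mul_mem h1 h2
  have heq : (({1, v1, v2, v1 * v2} : Finset Y) : Set Y) = (V : Set Y) := by
    apply Set.eq_of_subset_of_ncard_le hsub
    · rw [hcard]
      have : (V : Set Y).ncard = 4 := by
        rw [← V4]; rfl
      rw [this]
  intro z hz
  have hz' : z ∈ (({1, v1, v2, v1 * v2} : Finset Y) : Set Y) := by rw [heq]; exact hz
  simpa only [Finset.coe_insert, Finset.coe_singleton, Set.mem_insert_iff, Set.mem_singleton_iff]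
    using hz'

namespace Hyp

variable {V K B N : Subgroup Y} (h : Hyp V K B N)
include h

theorem comm {u v : Y} (hu : u ∈ V) (hv : v ∈ V) : u * v = v * u := by
  have h1 := inv_eq_of_mul_eq_one_left (h.sq _ (V.mul_mem hu hv))
  have h2 := inv_eq_of_mul_eq_one_left (h.sq _ hu)
  have h3 := inv_eq_of_mul_eq_one_left (h.sq _ hv)
  rw [← h1, mul_inv_rev, h2, h3]

theorem exists_ne : ∃ v ∈ V, v ≠ 1 := by
  by_contra hcon
  push Not at hcon
  have h5 : V = ⊥ := by rw [eq_bot_iff]; intro x hx; rw [mem_bot]; exact hcon x hx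
  have h6 := h.V4
  rw [h5, card_bot] at h6
  norm_num at h6

/-- two distinct involutions of `V` -/
theorem exists_snd {v1 : Y} (hv1 : v1 ∈ V) : ∃ v2 ∈ V, v2 ≠ 1 ∧ v2 ≠ v1 := by
  classical
  by_contra hcon
  push Not at hcon
  have hfin : Finite V := Nat.finite_of_card_ne_zero (by rw [h.V4]; norm_num)
  have : Nat.card V ≤ 2 := by
    have hf : Function.Surjective (fun i : Fin 2 => if i = 0 then (1 : V) else ⟨v1, hv1⟩) := by
      intro y
      by_cases hy : y = 1
      · exact ⟨0, by simp [hy]⟩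
      · refine ⟨1, ?_⟩
        have h1 := hcon y y.2 (fun h => hy (Subtype.ext h))
        simp only [Fin.isValue, one_ne_zero, if_false]
        exact Subtype.ext h1.symm
    have := Nat.card_le_card_of_surjective _ hf
    simpa only [_root_.ge_iff_le, _root_.Nat.card_eq_fintype_card, _root_.Fintype.card_fin] using this
  have := h.V4
  omega

variable [Finite Y]

theorem exists_rho : ∃ ρ ∈ K, ρ ∉ V ∧ ρ ^ 3 = 1 := by
  have : Fact (Nat.Prime 3) := ⟨Nat.prime_three⟩
  have h3 : 3 ∣ Nat.card K := by rw [h.K12]; norm_num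
  obtain ⟨x, hx⟩ := exists_prime_orderOf_dvd_card' 3 h3
  refine ⟨x, x.2, ?_, ?_⟩
  · intro hxV
    have h1 := h.sq _ hxV
    have h2 : orderOf (x : Y) = 3 := by rw [Subgroup.orderOf_coe, hx]
    have h4 : orderOf (x : Y) ∣ 2 := orderOf_dvd_of_pow_eq_one (by rw [pow_two]; exact h1)
    rw [h2] at h4
    norm_num at h4
  · rw [← SubmonoidClass.coe_pow, ← hx, pow_orderOf_eq_one, OneMemClass.coe_one]

omit [Finite Y] in
theorem card_B : Nat.card B = 60 := by
  obtain ⟨e⟩ := h.BA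
  rw [Nat.card_congr e.toEquiv, nat_card_alternatingGroup, Nat.card_eq_fintype_card, Fintype.card_fin]
  rfl

/-- Case 1 is impossible. -/
theorem case_one (h1 : ∀ v ∈ V, v ≠ 1 → ∀ y, y * v = v * y → y ∈ V) : False := by
  have hH : Cfsg.Agent.J2Type.FourSelfCent.Hyp V := ⟨h.V4, h.sq, h1⟩
  have hB := h.card_B
  have hle : Nat.card B ≤ Nat.card Y := Subgroup.card_le_card_group B
  rcases hH.card_cases with hc | hc | hc
  · omega
  · omega
  · apply h.ne
    apply Subgroup.eq_top_of_card_eq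
    rw [hB, hc]

omit [Finite Y] in
theorem hom_eq_one (f : Y →* ℤˣ) (y : Y) : f y = 1 := by
  have h1 : y ∈ commutator Y := by rw [h.perf]; trivial
  exact Abelianization.commutator_subset_ker f h1

/-- Case 2a: an element of `N - K` centralises `V`. -/
theorem case_two_a {a : Y} (haN : a ∈ N) (haK : a ∉ K) (haV : ∀ v ∈ V, a * v = v * a) : False := by
  classical
  have hp2 : Fact (Nat.Prime 2) := ⟨Nat.prime_two⟩
  have hp3 : Fact (Nat.Prime 3) := ⟨Nat.prime_three⟩
  obtain ⟨ρ, hρK, hρV, hρ3⟩ := h.exists_rho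
  obtain ⟨v0, hv0, hv0n⟩ := h.exists_ne
  have hρN := h.KN hρK
  -- `ρ a ρ⁻¹` commutes with `V`
  have c1 : ∀ v ∈ V, (ρ * a * ρ⁻¹) * v = v * (ρ * a * ρ⁻¹) := by
    intro v hv
    have h2 : ρ⁻¹ * v * ρ ∈ V := by
      have := h.KV _ (K.inv_mem hρK) v hv
      rwa [inv_inv] at this
    have h3 := haV _ h2
    calc ρ * a * ρ⁻¹ * v = ρ * (a * (ρ⁻¹ * v * ρ)) * ρ⁻¹ := by group
      _ = ρ * ((ρ⁻¹ * v * ρ) * a) * ρ⁻¹ := by rw [h3]
      _ = v * (ρ * a * ρ⁻¹) := by group
  have c2 : ∀ v ∈ V, a⁻¹ * v = v * a⁻¹ := by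
    intro v hv
    calc a⁻¹ * v = a⁻¹ * (v * a) * a⁻¹ := by group
      _ = a⁻¹ * (a * v) * a⁻¹ := by rw [haV v hv]
      _ = v * a⁻¹ := by group
  have h1 : a⁻¹ * (ρ * a * ρ⁻¹) ∈ V := by
    apply h.self v0 hv0 hv0n
    · apply h.N2 _ (N.inv_mem haN) _ (N.mul_mem (N.mul_mem hρN haN) (N.inv_mem hρN))
      · intro hc; exact haK (by simpa using K.inv_mem hc)
      · intro hc
        apply haK
        have := K.mul_mem (K.mul_mem (K.inv_mem hρK) hc) hρK
        have e : ρ⁻¹ * (ρ * a * ρ⁻¹) * ρ = a := by group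
        rwa [e] at this
    · rw [mul_assoc, c1 v0 hv0, ← mul_assoc, c2 v0 hv0, mul_assoc]
  obtain ⟨q, hq, hc⟩ := Cfsg.Agent.GTwoFour.Tools.exists_comm_coset (p := 3) (Q := V) (f := ρ) (y := a)
    (k := 1) (by rw [pow_one]; exact hρ3) (fun q hq => h.KV ρ hρK q hq)
    (by rw [h.V4]; norm_num) h1
  obtain ⟨e, he⟩ : ∃ e, e = a * q := ⟨_, rfl⟩
  rw [← he] at hc
  have heN : e ∈ N := by rw [he]; exact N.mul_mem haN (h.KN (h.VK hq))
  have heK : e ∉ K := by
    intro hcon
    apply haK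
    have := K.mul_mem hcon (K.inv_mem (h.VK hq))
    rwa [he, mul_inv_cancel_right] at this
  have heV : ∀ v ∈ V, e * v = v * e := by
    intro v hv
    rw [he, mul_assoc, h.comm hq hv, ← mul_assoc, haV v hv, mul_assoc]
  have hρe : ρ * e = e * ρ := hc
  have hee : e * e = 1 := by
    have h2 : e * e ∈ V := by
      apply h.self v0 hv0 hv0n _ (h.N2 _ heN _ heN heK heK)
      rw [mul_assoc, heV v0 hv0, ← mul_assoc, heV v0 hv0, mul_assoc]
    by_contra hne
    exact hρV (h.self _ h2 hne ρ hρK (by rw [← mul_assoc, hρe, mul_assoc, hρe, ← mul_assoc]))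
  have hei : e⁻¹ = e := inv_eq_of_mul_eq_one_left hee
  have hnorm : ∀ q ∈ V, e * q * e⁻¹ ∈ V := by
    intro q hq; rw [heV q hq, mul_inv_cancel_right]; exact hq
  have heVn : e ∉ V := fun hcon => heK (h.VK hcon)
  set! P := Cfsg.Agent.GTwoFour.Tools.ext e hee V hnorm with hP
  have hPc : Nat.card P = 8 := by
    rw [hP, Cfsg.Agent.GTwoFour.Tools.card_ext heVn, h.V4]
  have memP : ∀ x, x ∈ P ↔ x ∈ V ∨ e * x ∈ V := fun x => Cfsg.Agent.GTwoFour.Tools.mem_ext
  have VP : V ≤ P := Cfsg.Agent.GTwoFour.Tools.le_ext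
  have eP : e ∈ P := (memP e).2 (Or.inr (by rw [hee]; exact V.one_mem))
  -- `P = C(v)`
  have centP : ∀ v ∈ V, v ≠ 1 → ∀ y, y * v = v * y → y ∈ P := by
    intro v hv hvn y hy
    rw [memP]
    have hyN := h.cent v hv hvn y hy
    by_cases hyK : y ∈ K
    · exact Or.inl (h.self v hv hvn y hyK hy)
    · right
      apply h.self v hv hvn _ (h.N2 _ heN _ hyN heK hyK)
      rw [mul_assoc, hy, ← mul_assoc, heV v hv, mul_assoc]
  have PV : ∀ x ∈ P, ∀ v ∈ V, x * v = v * x := by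
    intro x hx v hv
    rcases (memP x).1 hx with h2 | h2
    · exact h.comm h2 hv
    · have h3 := h.comm h2 hv
      have h4 : x = e * (e * x) := by rw [← mul_assoc, hee, one_mul]
      rw [h4, mul_assoc, h3, ← mul_assoc, heV v hv, mul_assoc]
  have Pe : ∀ x ∈ P, x * e = e * x := by
    intro x hx
    rcases (memP x).1 hx with h2 | h2
    · exact (heV x h2).symm
    · have h3 := heV _ h2
      have h4 : x = e * (e * x) := by rw [← mul_assoc, hee, one_mul]
      rw [h4]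
      calc e * (e * x) * e = e * ((e * x) * e) := by group
        _ = e * (e * (e * x)) := by rw [← h3]
  have PP : ∀ x ∈ P, ∀ y ∈ P, x * y = y * x := by
    intro x hx y hy
    rcases (memP y).1 hy with h2 | h2
    · exact PV x hx y h2
    · have h4 : y = e * (e * y) := by rw [← mul_assoc, hee, one_mul]
      have h5 := PV x hx _ h2
      rw [h4]
      calc x * (e * (e * y)) = (x * e) * (e * y) := by group
        _ = e * (x * (e * y)) := by rw [Pe x hx]; group
        _ = e * ((e * y) * x) := by rw [h5]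
        _ = e * (e * y) * x := by group
  have prodP : ∀ x ∈ P, ∀ y ∈ P, x ∉ V → y ∉ V → x * y ∈ V := by
    intro x hx y hy hxV hyV
    have h2 : e * x ∈ V := ((memP x).1 hx).resolve_left hxV
    have h3 : e * y ∈ V := ((memP y).1 hy).resolve_left hyV
    have h4 := V.mul_mem h2 h3
    have h5 : e * x * (e * y) = x * y := by
      calc e * x * (e * y) = e * (x * e) * y := by group
        _ = (e * e) * (x * y) := by rw [Pe x hx]; group
        _ = x * y := by rw [hee, one_mul]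
    rwa [h5] at h4
  -- elements of order two of `N(P)/P`
  have lemS : ∀ τ : Y, (∀ x ∈ P, τ * x * τ⁻¹ ∈ P) → τ * τ ∈ P → τ ∈ P := by
    intro τ hτ hττ
    by_contra hτP
    have nofix : ∀ v ∈ V, τ * v = v * τ → v = 1 := by
      intro v hv hc
      by_contra hvn
      exact hτP (centP v hv hvn τ hc)
    have gcomm : ∀ v ∈ V, τ * (v * (τ * v * τ⁻¹)) = (v * (τ * v * τ⁻¹)) * τ := by
      intro v hv
      have h2 : (τ * τ) * v = v * (τ * τ) := PV _ hττ v hv
      have h3 := PP v (VP hv) _ (hτ v (VP hv))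
      calc τ * (v * (τ * v * τ⁻¹)) = (τ * v * τ⁻¹) * ((τ * τ) * v) * τ⁻¹ := by group
        _ = (τ * v * τ⁻¹) * v * τ := by rw [h2]; group
        _ = (v * (τ * v * τ⁻¹)) * τ := by rw [h3]
    have gne : ∀ v ∈ V, v ≠ 1 → v * (τ * v * τ⁻¹) ∉ V := by
      intro v hv hvn hcon
      have h2 := nofix _ hcon (gcomm v hv)
      apply hvn
      apply nofix v hv
      have h3 : τ * v * τ⁻¹ = v := by
        rw [← inv_eq_of_mul_eq_one_right h2]
        exact inv_eq_of_mul_eq_one_left (h.sq v hv)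
      calc τ * v = (τ * v * τ⁻¹) * τ := by group
        _ = v * τ := by rw [h3]
    obtain ⟨v2, hv2, hv2n, hv20⟩ := h.exists_snd hv0
    have h12 : v0 * v2 ≠ 1 := by
      intro hcon
      apply hv20
      rw [← inv_eq_of_mul_eq_one_right hcon]
      exact inv_eq_of_mul_eq_one_left (h.sq v0 hv0)
    have g0 := P.mul_mem (VP hv0) (hτ _ (VP hv0))
    have g2 := P.mul_mem (VP hv2) (hτ _ (VP hv2))
    have h3 := prodP _ g0 _ g2 (gne v0 hv0 hv0n) (gne v2 hv2 hv2n)
    apply gne _ (V.mul_mem hv0 hv2) h12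
    have h4 := PP _ (hτ _ (VP hv0)) v2 (VP hv2)
    have h5 : v0 * v2 * (τ * (v0 * v2) * τ⁻¹) = v0 * (τ * v0 * τ⁻¹) * (v2 * (τ * v2 * τ⁻¹)) := by
      calc v0 * v2 * (τ * (v0 * v2) * τ⁻¹)
          = v0 * (v2 * (τ * v0 * τ⁻¹)) * (τ * v2 * τ⁻¹) := by group
        _ = v0 * ((τ * v0 * τ⁻¹) * v2) * (τ * v2 * τ⁻¹) := by rw [h4]
        _ = v0 * (τ * v0 * τ⁻¹) * (v2 * (τ * v2 * τ⁻¹)) := by group
    rw [h5]
    exact h3
  -- `P` is a Sylow subgroup
  have h16 : ¬ 16 ∣ Nat.card Y := by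
    intro hdvd
    have h2 := Sylow.prime_dvd_card_quotient_normalizer (p := 2) (n := 3) (G := Y)
      (by norm_num; exact hdvd) (H := P) (by rw [hPc]; norm_num)
    have hnor : (P.subgroupOf (normalizer (P : Set Y))).Normal := Subgroup.normal_in_normalizer
    change 2 ∣ Nat.card (↥(normalizer (P : Set Y)) ⧸ P.subgroupOf (normalizer (P : Set Y))) at h2
    obtain ⟨x, hx⟩ := exists_prime_orderOf_dvd_card' 2 h2
    obtain ⟨τ, rfl⟩ := QuotientGroup.mk_surjective x
    have h3 : (τ : Y) ∉ P := by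
      intro hcon
      have : (QuotientGroup.mk τ : ↥(normalizer (P : Set Y)) ⧸ P.subgroupOf (normalizer (P : Set Y))) = 1 := by
        rw [QuotientGroup.eq_one_iff, mem_subgroupOf]; exact hcon
      rw [this, orderOf_one] at hx
      norm_num at hx
    have h4 : (τ : Y) * τ ∈ P := by
      have h5 : (QuotientGroup.mk τ : ↥(normalizer (P : Set Y)) ⧸ P.subgroupOf (normalizer (P : Set Y))) ^ 2 = 1 := by
        rw [← hx, pow_orderOf_eq_one]
      rw [← QuotientGroup.mk_pow, QuotientGroup.eq_one_iff, mem_subgroupOf, pow_two] at h5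
      exact h5
    apply h3
    apply lemS _ _ h4
    intro x hx
    exact (mem_normalizer_iff.1 τ.2 x).1 hx
  have odd_of : ∀ C : Subgroup Y, P ≤ C → Odd (P.relIndex C) := by
    intro C hC
    rw [← Nat.not_even_iff_odd]
    intro hev
    apply h16
    have h2 := Subgroup.relIndex_mul_relIndex ⊥ P C bot_le hC
    rw [relIndex_bot_left, relIndex_bot_left, hPc] at h2
    obtain ⟨k, hk⟩ := even_iff_two_dvd.1 hev
    have h3 : 16 ∣ Nat.card C := ⟨k, by rw [← h2, hk]; ring⟩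
    exact h3.trans (Subgroup.card_subgroup_dvd_card C)
  have hVP2 : V.relIndex P = 2 := by
    have h2 := Subgroup.relIndex_mul_relIndex ⊥ V P bot_le VP
    rw [relIndex_bot_left, relIndex_bot_left, hPc, h.V4] at h2
    omega
  have hPce : P ≤ centralizer {e} := by
    intro x hx
    rw [mem_centralizer_singleton_iff]
    exact Pe x hx
  obtain ⟨g, hg1, hg2, -, hg4⟩ := Cfsg.Agent.GTwoFour.TransferTL.exists_extremal_two P V hVP2 e
    (fun f => h.hom_eq_one f e) hee eP heVn (odd_of _ hPce)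
  have hne : g⁻¹ * e * g ≠ e := by
    have := hg4 1 P.one_mem
    simpa only [_root_.ne_eq, _root_.inv_one, _root_.one_mul, _root_.mul_one] using this
  have hPp : IsPGroup 2 P := IsPGroup.of_card (n := 3) (by rw [hPc]; norm_num)
  have hidx : ¬ 2 ∣ P.index := by
    have h2 := odd_of ⊤ le_top
    rw [relIndex_top_right] at h2
    exact fun hcon => (Nat.not_even_iff_odd.2 h2) (even_iff_two_dvd.2 hcon)
  let S : Sylow 2 Y := hPp.toSylow hidx
  have hSP : (S : Subgroup Y) = P := rfl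
  have hScomm : IsMulCommutative S := ⟨⟨fun x y => Subtype.ext (PP x x.2 y y.2)⟩⟩
  obtain ⟨n, hn, hne2⟩ := Sylow.conj_eq_normalizer_conj_of_mem S e g eP hg1
  rw [hne2] at hg1 hg2 hne
  -- `m = n⁻¹`, `m e m⁻¹ = e w`
  have hew : e * (n⁻¹ * e * n) ∈ V := ((memP _).1 hg1).resolve_left hg2
  obtain ⟨w, hw⟩ : ∃ w, w = e * (n⁻¹ * e * n) := ⟨_, rfl⟩
  rw [← hw] at hew
  have hwn : w ≠ 1 := by
    intro hcon
    apply hne
    have : n⁻¹ * e * n = e⁻¹ * w := by rw [hw]; group
    rw [this, hcon, mul_one, hei]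
  have hmP : ∀ x ∈ P, n⁻¹ * x * n⁻¹⁻¹ ∈ P := by
    intro x hx
    have := (mem_normalizer_iff.1 (inv_mem hn) x).1 hx
    exact this
  have hρP : ∀ x ∈ P, ρ * x * ρ⁻¹ ∈ P := by
    intro x hx
    rw [memP] at hx ⊢
    rcases hx with hx | hx
    · exact Or.inl (h.KV ρ hρK x hx)
    · right
      have := h.KV ρ hρK _ hx
      have e1 : ρ * (e * x) * ρ⁻¹ = e * (ρ * x * ρ⁻¹) := by
        rw [← mul_assoc, hρe]; group
      rwa [e1] at this
  have hρρP : ∀ k : ℕ, ∀ x ∈ P, ρ ^ k * x * (ρ ^ k)⁻¹ ∈ P := by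
    intro k
    induction k with
    | zero => intro x hx; simpa using hx
    | succ k ih =>
      intro x hx
      have e1 : ρ ^ (k + 1) * x * (ρ ^ (k + 1))⁻¹ = ρ ^ k * (ρ * x * ρ⁻¹) * (ρ ^ k)⁻¹ := by
        rw [pow_succ]; group
      rw [e1]
      exact ih _ (hρP x hx)
  have hρi : ρ⁻¹ = ρ ^ 2 := by
    rw [inv_eq_iff_mul_eq_one, ← pow_succ']; exact hρ3
  -- fixed point freeness of `ρ`
  have hρf : ∀ v ∈ V, ρ * v = v * ρ → v = 1 := by
    intro v hv hc
    by_contra hvn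
    exact hρV (h.self v hv hvn ρ hρK hc)
  let σ : Fin 3 → Y := ![1, n⁻¹, ρ * n⁻¹ * ρ⁻¹]
  let wv : Fin 3 → Y := ![1, w, ρ * w * ρ⁻¹]
  have σe : ∀ i, σ i * e * (σ i)⁻¹ = e * wv i := by
    have h1e : n⁻¹ * e * n⁻¹⁻¹ = e * w := by
      rw [hw, ← mul_assoc e e, hee, one_mul, inv_inv]
    have hρe' : ρ⁻¹ * e * ρ = e := by
      rw [mul_assoc, ← hρe, inv_mul_cancel_left]
    intro i
    fin_cases i
    · show 1 * e * 1⁻¹ = e * 1
      group
    · exact h1e
    · show ρ * n⁻¹ * ρ⁻¹ * e * (ρ * n⁻¹ * ρ⁻¹)⁻¹ = e * (ρ * w * ρ⁻¹)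
      calc ρ * n⁻¹ * ρ⁻¹ * e * (ρ * n⁻¹ * ρ⁻¹)⁻¹
          = ρ * (n⁻¹ * (ρ⁻¹ * e * ρ) * n⁻¹⁻¹) * ρ⁻¹ := by group
        _ = ρ * (e * w) * ρ⁻¹ := by rw [hρe', h1e]
        _ = (ρ * e) * w * ρ⁻¹ := by group
        _ = e * (ρ * w * ρ⁻¹) := by rw [hρe]; group
  have σP : ∀ i, ∀ x ∈ P, σ i * x * (σ i)⁻¹ ∈ P := by
    intro i x hx
    fin_cases i
    · show 1 * x * 1⁻¹ ∈ P
      simpa using hx
    · exact hmP x hx
    · show ρ * n⁻¹ * ρ⁻¹ * x * (ρ * n⁻¹ * ρ⁻¹)⁻¹ ∈ P
      have e1 : ρ * n⁻¹ * ρ⁻¹ * x * (ρ * n⁻¹ * ρ⁻¹)⁻¹ =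
          ρ * (n⁻¹ * (ρ⁻¹ * x * ρ⁻¹⁻¹) * n⁻¹⁻¹) * ρ⁻¹ := by group
      rw [e1]
      apply hρP
      apply hmP
      rw [hρi]
      exact hρρP 2 x hx
  have wV : ∀ i, wv i ∈ V := by
    intro i
    fin_cases i
    · exact V.one_mem
    · exact hew
    · exact h.KV ρ hρK w hew
  have winj : Function.Injective wv := by
    have n1 : (1 : Y) ≠ w := hwn.symm
    have n2 : (1 : Y) ≠ ρ * w * ρ⁻¹ := by
      intro hcon
      apply hwn
      have : w = ρ⁻¹ * (ρ * w * ρ⁻¹) * ρ := by group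
      rw [this, ← hcon]; group
    have n3 : w ≠ ρ * w * ρ⁻¹ := by
      intro hcon
      apply hwn
      apply hρf w hew
      calc ρ * w = (ρ * w * ρ⁻¹) * ρ := by group
        _ = w * ρ := by rw [← hcon]
    intro i j hij
    fin_cases i <;> fin_cases j
    · rfl
    · exact absurd hij n1
    · exact absurd hij n2
    · exact absurd hij.symm n1
    · rfl
    · exact absurd hij n3
    · exact absurd hij.symm n2
    · exact absurd hij.symm n3
    · rfl
  let f : Fin 3 × Fin 3 → P := fun p =>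
    ⟨σ p.1 * ρ ^ (p.2 : ℕ) * w * (σ p.1 * ρ ^ (p.2 : ℕ))⁻¹, by
      have e1 : σ p.1 * ρ ^ (p.2 : ℕ) * w * (σ p.1 * ρ ^ (p.2 : ℕ))⁻¹ =
          σ p.1 * (ρ ^ (p.2 : ℕ) * w * (ρ ^ (p.2 : ℕ))⁻¹) * (σ p.1)⁻¹ := by group
      rw [e1]
      exact σP _ _ (hρρP _ _ (VP hew))⟩
  have finj : Function.Injective f := by
    rintro ⟨i, k⟩ ⟨j, l⟩ hfe
    have h2 : σ i * ρ ^ (k : ℕ) * w * (σ i * ρ ^ (k : ℕ))⁻¹ =
        σ j * ρ ^ (l : ℕ) * w * (σ j * ρ ^ (l : ℕ))⁻¹ := congrArg Subtype.val hfe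
    set! A := σ i * ρ ^ (k : ℕ) with hA; rewrite [← hA] at h2
    set! C := σ j * ρ ^ (l : ℕ) with hC; rewrite [← hC] at h2
    have h3 : (C⁻¹ * A) * w = w * (C⁻¹ * A) := by
      calc C⁻¹ * A * w = C⁻¹ * (A * w * A⁻¹) * A := by group
        _ = C⁻¹ * (C * w * C⁻¹) * A := by rw [h2]
        _ = w * (C⁻¹ * A) := by group
    have h4 := centP w hew hwn _ h3
    have h5 := Pe _ h4
    have hρke : ∀ m : ℕ, ρ ^ m * e * (ρ ^ m)⁻¹ = e := by
      intro m
      have : Commute (ρ ^ m) e := Commute.pow_left hρe m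
      rw [this.eq, mul_inv_cancel_right]
    have h6 : A * e * A⁻¹ = C * e * C⁻¹ := by
      calc A * e * A⁻¹ = C * ((C⁻¹ * A) * e) * A⁻¹ := by group
        _ = C * (e * (C⁻¹ * A)) * A⁻¹ := by rw [h5]
        _ = C * e * C⁻¹ := by group
    have h7 : A * e * A⁻¹ = e * wv i := by
      rw [hA, ← σe i]
      calc σ i * ρ ^ (k : ℕ) * e * (σ i * ρ ^ (k : ℕ))⁻¹
          = σ i * (ρ ^ (k : ℕ) * e * (ρ ^ (k : ℕ))⁻¹) * (σ i)⁻¹ := by group
        _ = σ i * e * (σ i)⁻¹ := by rw [hρke]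
    have h8 : C * e * C⁻¹ = e * wv j := by
      rw [hC, ← σe j]
      calc σ j * ρ ^ (l : ℕ) * e * (σ j * ρ ^ (l : ℕ))⁻¹
          = σ j * (ρ ^ (l : ℕ) * e * (ρ ^ (l : ℕ))⁻¹) * (σ j)⁻¹ := by group
        _ = σ j * e * (σ j)⁻¹ := by rw [hρke]
    rw [h7, h8] at h6
    have hij : i = j := winj (mul_left_cancel h6)
    subst hij
    have h9 : C⁻¹ * A = (ρ ^ (l : ℕ))⁻¹ * ρ ^ (k : ℕ) := by rw [hA, hC]; group
    rw [h9] at h3
    have h10 : (ρ ^ (l : ℕ))⁻¹ * ρ ^ (k : ℕ) ∈ V :=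
      h.self w hew hwn _ (K.mul_mem (K.inv_mem (K.pow_mem hρK _)) (K.pow_mem hρK _)) h3
    have h11 : ∀ m : ℕ, m < 3 → ρ ^ m ∈ V → m = 0 := by
      intro m hm hmV
      interval_cases m
      · rfl
      · rw [pow_one] at hmV; exact absurd hmV hρV
      · rw [← hρi] at hmV
        exact absurd (by simpa using V.inv_mem hmV) hρV
    have hkl : (k : ℕ) = l := by
      rcases le_total (l : ℕ) (k : ℕ) with hle | hle
      · have h12 : (ρ ^ (l : ℕ))⁻¹ * ρ ^ (k : ℕ) = ρ ^ ((k : ℕ) - l) := by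
          rw [inv_mul_eq_iff_eq_mul, ← pow_add, Nat.add_sub_cancel' hle]
        rw [h12] at h10
        have := h11 _ (by omega) h10
        omega
      · have h12 : ((ρ ^ (l : ℕ))⁻¹ * ρ ^ (k : ℕ))⁻¹ = ρ ^ ((l : ℕ) - k) := by
          rw [mul_inv_rev, inv_inv, inv_mul_eq_iff_eq_mul, ← pow_add, Nat.add_sub_cancel' hle]
        have h13 := V.inv_mem h10
        rw [h12] at h13
        have := h11 _ (by omega) h13
        omega
    have hkl' : k = l := Fin.ext hkl
    rw [hkl']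
  have hfinP : Finite P := Nat.finite_of_card_ne_zero (by rw [hPc]; norm_num)
  have := Nat.card_le_card_of_injective f finj
  rw [hPc, Nat.card_prod] at this
  simp only [Nat.card_eq_fintype_card, Fintype.card_fin] at this
  omega

end Hyp

end Cfsg.Agent.StdG24.EightAbs
end

-- part: StdG24/EightSix
section
/-!
# The centraliser of `U₃(3)` in step 8 of S1767: `Y ≅ A₆`
-/

set_option autoImplicit false

namespace Cfsg.Agent.StdG24.EightAbs

open Subgroup

variable {Y : Type*} [Group Y]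

namespace Hyp

variable {V K B N : Subgroup Y} (h : Hyp V K B N)
include h

/-- an involution `e ∈ N - K` acting nontrivially on `V`. -/
theorem exists_e (hb : ∀ a ∈ N, a ∉ K → ∃ v ∈ V, a * v ≠ v * a) {a v1 : Y} (haN : a ∈ N)
    (haK : a ∉ K) (hv1 : v1 ∈ V) (n1 : v1 ≠ 1) (hav : a * v1 = v1 * a) :
    ∃ e v2, e ∈ N ∧ e ∉ K ∧ e * e = 1 ∧ v2 ∈ V ∧ v2 ≠ 1 ∧ v2 ≠ v1 ∧ e * v1 = v1 * e ∧
      e * v2 * e⁻¹ = v1 * v2 := by
  obtain ⟨v2, hv2, hne⟩ := hb a haN haK
  have n2 : v2 ≠ 1 := by rintro rfl; exact hne (by rw [mul_one, one_mul])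
  have n12 : v2 ≠ v1 := by rintro rfl; exact hne hav
  have hF := four h.V4 h.sq hv1 hv2 n1 n2 n12
  have h12 := h.comm hv1 hv2
  have hact : a * v2 * a⁻¹ = v1 * v2 := by
    rcases hF _ (h.NV a haN v2 hv2) with h1 | h1 | h1 | h1
    · exfalso; apply n2
      have : v2 = a⁻¹ * (a * v2 * a⁻¹) * a := by group
      rw [this, h1]; group
    · exfalso; apply n12
      have : v2 = a⁻¹ * (a * v2 * a⁻¹) * a := by group
      rw [this, h1, mul_assoc, ← hav, inv_mul_cancel_left]
    · exfalso; apply hne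
      calc a * v2 = (a * v2 * a⁻¹) * a := by group
        _ = v2 * a := by rw [h1]
    · exact h1
  have haa : a * a ∈ V := by
    apply h.self v1 hv1 n1 _ (h.N2 a haN a haN haK haK)
    rw [mul_assoc, hav, ← mul_assoc, hav, mul_assoc]
  have hcases : a * a = 1 ∨ a * a = v1 := by
    rcases hF _ haa with h1 | h1 | h1 | h1
    · exact Or.inl h1
    · exact Or.inr h1
    · exfalso; apply hne; rw [← h1, mul_assoc]
    · exfalso; apply hne
      have h2 : a * (v1 * v2) = v1 * v2 * a := by rw [← h1, mul_assoc]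
      have h3 : v1 * (a * v2) = v1 * (v2 * a) := by
        rw [← mul_assoc, ← hav, mul_assoc, h2, mul_assoc]
      exact mul_left_cancel h3
  have s1 := h.sq v1 hv1
  have s2 := h.sq v2 hv2
  rcases hcases with h1 | h1
  · exact ⟨a, v2, haN, haK, h1, hv2, n2, n12, hav, hact⟩
  · refine ⟨a * v2, v2, N.mul_mem haN (h.KN (h.VK hv2)), ?_, ?_, hv2, n2, n12, ?_, ?_⟩
    · intro hcon
      apply haK
      have := K.mul_mem hcon (K.inv_mem (h.VK hv2))
      rwa [mul_inv_cancel_right] at this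
    · calc a * v2 * (a * v2) = (a * v2 * a⁻¹) * (a * a) * v2 := by group
        _ = v1 * (v2 * v1) * v2 := by rw [hact, h1]; group
        _ = (v1 * v1) * (v2 * v2) := by rw [← h12]; group
        _ = 1 := by rw [s1, s2, one_mul]
    · rw [mul_assoc, ← h12, ← mul_assoc, hav, mul_assoc]
    · calc a * v2 * v2 * (a * v2)⁻¹ = a * v2 * a⁻¹ := by group
        _ = v1 * v2 := hact

variable [Finite Y]

/-- the order of `Y`. -/
theorem card_eq {e v1 v2 : Y} (heN : e ∈ N) (heK : e ∉ K) (hee : e * e = 1) (hv1 : v1 ∈ V)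
    (n1 : v1 ≠ 1) (hv2 : v2 ∈ V) (n2 : v2 ≠ 1) (n12 : v2 ≠ v1) (hev : e * v1 = v1 * e)
    (hact : e * v2 * e⁻¹ = v1 * v2) : Nat.card Y = 360 := by
  have hF := four h.V4 h.sq hv1 hv2 n1 n2 n12
  have hei : e⁻¹ = e := inv_eq_of_mul_eq_one_left hee
  have s1 := h.sq v1 hv1
  have s2 := h.sq v2 hv2
  have h12 := h.comm hv1 hv2
  have hsq : (e * v2) * (e * v2) = v1 := by
    calc (e * v2) * (e * v2) = (e * v2 * e) * v2 := by group
      _ = (e * v2 * e⁻¹) * v2 := by rw [hei]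
      _ = v1 * (v2 * v2) := by rw [hact, mul_assoc]
      _ = v1 := by rw [s2, mul_one]
  have oe : orderOf e = 2 := orderOf_eq_prime (by rw [pow_two, hee]) (fun hc => heK (hc ▸ K.one_mem))
  have o2 : orderOf v2 = 2 := orderOf_eq_prime (by rw [pow_two, s2]) n2
  have o1 : orderOf v1 = 2 := orderOf_eq_prime (by rw [pow_two, s1]) n1
  have o4 : orderOf (e * v2) = 4 := by
    have h2 : (e * v2) ^ 2 = v1 := by rw [pow_two, hsq]
    have : orderOf (e * v2) = 2 ^ (1 + 1) := by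
      apply orderOf_eq_prime_pow
      · rw [pow_one, h2]; exact n1
      · have : (e * v2) ^ 2 ^ (1 + 1) = ((e * v2) ^ 2) ^ 2 := by rw [← pow_mul]; norm_num
        rw [this, h2, pow_two, s1]
    simpa using this
  have hcl : centralizer ({v1} : Set Y) = _root_.Subgroup.closure ({e, v2} : Set Y) := by
    have me : e ∈ closure ({e, v2} : Set Y) := _root_.Subgroup.subset_closure (by simp)
    have m2 : v2 ∈ _root_.Subgroup.closure ({e, v2} : Set Y) := _root_.Subgroup.subset_closure (by simp)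
    have m1 : v1 ∈ closure ({e, v2} : Set Y) := by
      rw [← hsq]; exact mul_mem (mul_mem me m2) (mul_mem me m2)
    have mV : ∀ x ∈ V, x ∈ closure ({e, v2} : Set Y) := by
      intro x hx
      rcases hF x hx with rfl | rfl | rfl | rfl
      · exact one_mem _
      · exact m1
      · exact m2
      · exact mul_mem m1 m2
    apply le_antisymm
    · intro y hy
      rw [mem_centralizer_singleton_iff] at hy
      have hyN := h.cent v1 hv1 n1 y hy
      by_cases hyK : y ∈ K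
      · exact mV y (h.self v1 hv1 n1 y hyK hy)
      · have h3 : e * y ∈ V := by
          apply h.self v1 hv1 n1 _ (h.N2 e heN y hyN heK hyK)
          rw [mul_assoc, hy, ← mul_assoc, hev, mul_assoc]
        have h4 : y = e * (e * y) := by rw [← mul_assoc, hee, one_mul]
        rw [h4]
        exact mul_mem me (mV _ h3)
    · rw [closure_le]
      rintro x (rfl | hx)
      · exact mem_centralizer_singleton_iff.2 hev
      · rw [Set.mem_singleton_iff] at hx
        subst hx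
        exact mem_centralizer_singleton_iff.2 h12.symm
  obtain ⟨φ⟩ : Nonempty (centralizer ({v1} : Set Y) ≃* DihedralGroup 4) := by
    rw [hcl]
    exact Cfsg.Agent.SporadicB.DihedralLift.closure_pair_equiv_dihedral' oe o2 o4
  have hdvd : 60 ∣ Nat.card Y := by
    rw [← h.card_B]; exact Subgroup.card_subgroup_dvd_card B
  rcases Cfsg.Agent.S0848.result h.perf v1 o1 φ with hc | hc
  · rw [hc] at hdvd; norm_num at hdvd
  · exact hc

/-- the action on the six cosets of `B`. -/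
theorem exists_perm (hc : Nat.card Y = 360) : ∃ π : Y →* Equiv.Perm (Fin 6),
    Function.Injective π ∧ ∀ y, π y 5 = 5 ↔ y ∈ B := by
  classical
  have h6 : Nat.card (Y ⧸ B) = 6 := by
    have := card_eq_card_quotient_mul_card_subgroup B
    rw [hc, h.card_B] at this
    omega
  have e' : (Y ⧸ B) ≃ Fin 6 := by rw [← h6]; exact Finite.equivFin _
  let e : (Y ⧸ B) ≃ Fin 6 := e'.trans (Equiv.swap (e' ((1 : Y) : Y ⧸ B)) 5)
  have he1 : e ((1 : Y) : Y ⧸ B) = 5 := by
    show Equiv.swap (e' ((1 : Y) : Y ⧸ B)) 5 (e' ((1 : Y) : Y ⧸ B)) = 5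
    exact Equiv.swap_apply_left _ _
  let π : Y →* Equiv.Perm (Fin 6) :=
    (e.permCongrHom : Equiv.Perm (Y ⧸ B) ≃* Equiv.Perm (Fin 6)).toMonoidHom.comp
      (MulAction.toPermHom Y (Y ⧸ B))
  have hπ : ∀ y i, π y i = e (y • e.symm i) := fun y i => rfl
  have h5 : ∀ y, π y 5 = 5 ↔ y ∈ B := by
    intro y
    rw [hπ, ← he1, e.symm_apply_apply, e.apply_eq_iff_eq, MulAction.Quotient.smul_coe, smul_eq_mul,
      mul_one, eq_comm, QuotientGroup.eq, inv_one, one_mul]
  refine ⟨π, ?_, h5⟩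
  rw [← MonoidHom.ker_eq_bot_iff]
  obtain ⟨ψ⟩ := h.BA
  have hsB : IsSimpleGroup B := ψ.isSimpleGroup
  have hle : π.ker ≤ B := by
    intro y hy
    rw [MonoidHom.mem_ker] at hy
    rw [← h5 y, hy]; rfl
  have hnor : (π.ker.subgroupOf B).Normal := inferInstance
  rcases hnor.eq_bot_or_eq_top with hk | hk
  · rw [subgroupOf_eq_bot] at hk
    rw [eq_bot_iff]
    intro y hy
    exact (disjoint_iff_inf_le.1 hk) (mem_inf.2 ⟨hy, hle hy⟩)
  · exfalso
    rw [subgroupOf_eq_top] at hk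
    have hBk : B = π.ker := le_antisymm hk hle
    have hBn : B.Normal := by rw [hBk]; infer_instance
    have hsf : Squarefree (Nat.card (Y ⧸ B)) := by
      rw [h6]; decide +kernel
    have hz : IsZGroup (Y ⧸ B) := IsZGroup.of_squarefree hsf
    have hnt : Nontrivial (Y ⧸ B) := by
      rw [← Finite.one_lt_card_iff_nontrivial, h6]; norm_num
    have h7 := Group.IsSolvable.commutator_lt_top_of_nontrivial (Y ⧸ B)
    have h8 : commutator (Y ⧸ B) = ⊤ := by
      have h9 : (commutator Y).map (QuotientGroup.mk' B) = commutator (Y ⧸ B) := by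
        rw [_root_.commutator_def, _root_.commutator_def, map_commutator, ← MonoidHom.range_eq_map,
          QuotientGroup.range_mk']
      rw [← h9, h.perf, ← MonoidHom.range_eq_map, QuotientGroup.range_mk']
    rw [h8] at h7
    exact lt_irrefl _ h7

omit [Finite Y] in
theorem sign_eq (π : Y →* Equiv.Perm (Fin 6)) (y : Y) : Equiv.Perm.sign (π y) = 1 :=
  h.hom_eq_one (Equiv.Perm.sign.comp π) y

omit h [Finite Y] in
theorem exists_of_sign (hc : Nat.card Y = 360) (π : Y →* Equiv.Perm (Fin 6))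
    (hinj : Function.Injective π) (hs : ∀ y, Equiv.Perm.sign (π y) = 1) (p : Equiv.Perm (Fin 6))
    (hp : Equiv.Perm.sign p = 1) : ∃ y, π y = p := by
  have hle : π.range ≤ alternatingGroup (Fin 6) := by
    rintro _ ⟨y, rfl⟩
    rw [Equiv.Perm.mem_alternatingGroup]; exact hs y
  have hcr : Nat.card π.range = 360 := by
    rw [← hc]; exact (Nat.card_congr (MonoidHom.ofInjective hinj).toEquiv).symm
  have hca : Nat.card (alternatingGroup (Fin 6)) = 360 := by
    rw [nat_card_alternatingGroup, Nat.card_eq_fintype_card, Fintype.card_fin]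
    rfl
  have heq : π.range = alternatingGroup (Fin 6) :=
    Subgroup.eq_of_le_of_card_ge hle (by rw [hcr, hca])
  have : p ∈ π.range := by rw [heq, Equiv.Perm.mem_alternatingGroup]; exact hp
  exact this

end Hyp

open EightPerm

theorem sg_congr {p q : P} (h1 : p * p = 1 ↔ q * q = 1) (h2 : p * p * p = 1 ↔ q * q * q = 1) :
    sg p = sg q := by
  unfold sg
  rw [decide_eq_decide.2 h1, decide_eq_decide.2 h2]

/-- conjugating the permutation representation by `s` with `s 5 = 5`. -/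
theorem conj_perm {B : Subgroup Y} {π : Y →* P} (hinj : Function.Injective π)
    (h5 : ∀ y, π y 5 = 5 ↔ y ∈ B) {s : P} (hs : s 5 = 5) :
    ∃ π' : Y →* P, Function.Injective π' ∧ (∀ y, π' y 5 = 5 ↔ y ∈ B) ∧
      ∀ y, π' y = s * π y * s⁻¹ := by
  refine ⟨(MulAut.conj s).toMonoidHom.comp π, (MulAut.conj s).injective.comp hinj, ?_, fun y => rfl⟩
  intro y
  rw [← h5 y]
  have hs' : s⁻¹ 5 = 5 := by rw [Equiv.Perm.inv_eq_iff_eq, hs]
  show (s * π y * s⁻¹) 5 = 5 ↔ _
  rw [Equiv.Perm.mul_apply, Equiv.Perm.mul_apply, hs']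
  constructor
  · intro h
    have h1 : s (π y 5) = s 5 := h.trans hs.symm
    exact s.injective h1
  · intro h; rw [h, hs]

/-- The output of the analysis of `Y`. -/
structure Out (V K B N : Subgroup Y) (w d e : Y) : Prop where
  w_mem : w ∈ V
  w_ne : w ≠ 1
  d_mem : d ∈ B
  e_mem : e ∈ N
  e_not : e ∉ K
  d2 : d * d = 1
  e2 : e * e = 1
  wd : (w * d) ^ 3 = 1
  de : (d * e) ^ 3 = 1
  we : w * e = e * w
  rigid : ∀ β : B ≃* B, (∀ k (hk : k ∈ B), k ∈ K → ((β ⟨k, hk⟩ : B) : Y) = e * k * e⁻¹) →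
    ∀ hd : d ∈ B, ((β ⟨d, hd⟩ : B) : Y) = d

namespace Hyp

variable {V K B N : Subgroup Y} (h : Hyp V K B N)
include h

/-- normal form of the permutation representation -/
theorem exists_normal [Finite Y] {e v1 v2 : Y} (heN : e ∈ N) (heK : e ∉ K) (hee : e * e = 1)
    (hv1 : v1 ∈ V) (n1 : v1 ≠ 1) (hv2 : v2 ∈ V) (n2 : v2 ≠ 1) (n12 : v2 ≠ v1)
    (hev : e * v1 = v1 * e) (hact : e * v2 * e⁻¹ = v1 * v2) :
    ∃ π : Y →* P, Function.Injective π ∧ (∀ y, π y 5 = 5 ↔ y ∈ B) ∧ π v1 = a0 ∧ π v2 = b0 ∧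
      π e = e1 := by
  have hc := h.card_eq heN heK hee hv1 n1 hv2 n2 n12 hev hact
  obtain ⟨π0, i0, f0⟩ := h.exists_perm hc
  have hVB := h.VK.trans h.KB
  have ne0 : ∀ {π : Y →* P}, Function.Injective π → ∀ {y}, y ≠ 1 → π y ≠ 1 := by
    intro π hi y hy hcon
    exact hy (hi (by rw [hcon, map_one]))
  obtain ⟨s1, hs1, e1'⟩ := norm1 (π0 v1) ((f0 v1).2 (hVB hv1)) (h.sign_eq π0 v1) (ne0 i0 n1)
    (by rw [← map_mul, h.sq v1 hv1, map_one])
  obtain ⟨π1, i1, f1, g1⟩ := conj_perm i0 f0 hs1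
  have a1 : π1 v1 = a0 := by rw [g1, e1']
  obtain ⟨s2, hs2, e2', e2''⟩ := norm2 (π1 v2) ((f1 v2).2 (hVB hv2)) (h.sign_eq π1 v2) (ne0 i1 n2)
    (by rw [← map_mul, h.sq v2 hv2, map_one]) (by rw [← a1]; exact fun hcon => n12 (i1 hcon))
    (by rw [← a1, ← map_mul, h.comm hv1 hv2, map_mul])
  obtain ⟨π2, i2, f2, g2⟩ := conj_perm i1 f1 hs2
  have a2 : π2 v1 = a0 := by rw [g2, a1, e2']
  have b2 : π2 v2 = b0 := by rw [g2, e2'']
  obtain ⟨s3, hs3, e3', e3'', e3'''⟩ := norm3 (π2 e) (by rw [← map_mul, hee, map_one]) (h.sign_eq π2 e)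
    (by rw [← a2, ← map_inv, ← map_mul, ← map_mul, hev, mul_inv_cancel_right])
    (by rw [← a2, ← b2, ← map_inv, ← map_mul, ← map_mul, hact, map_mul])
  obtain ⟨π3, i3, f3, g3⟩ := conj_perm i2 f2 hs3
  exact ⟨π3, i3, f3, by rw [g3, a2, e3'], by rw [g3, b2, e3''], by rw [g3, e3''']⟩

/-- **Main theorem on `Y`.** -/
theorem main [Finite Y] : ∃ w d e, Out V K B N w d e := by
  classical
  -- not case 1
  have hcase : ∃ v ∈ V, v ≠ 1 ∧ ∃ a ∈ N, a ∉ K ∧ a * v = v * a := by
    by_contra hcon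
    push Not at hcon
    apply h.case_one
    intro v hv hvn y hy
    have hyN := h.cent v hv hvn y hy
    by_cases hyK : y ∈ K
    · exact h.self v hv hvn y hyK hy
    · exact absurd hy (hcon v hv hvn y hyN hyK)
  obtain ⟨v1, hv1, n1, a, haN, haK, hav⟩ := hcase
  have hb : ∀ a ∈ N, a ∉ K → ∃ v ∈ V, a * v ≠ v * a := by
    intro a haN haK
    by_contra hcon
    push Not at hcon
    exact h.case_two_a haN haK hcon
  obtain ⟨e, v2, heN, heK, hee, hv2, n2, n12, hev, hact⟩ := h.exists_e hb haN haK hv1 n1 hav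
  have hc := h.card_eq heN heK hee hv1 n1 hv2 n2 n12 hev hact
  obtain ⟨π, hinj, h5, pa, pb, pe⟩ := h.exists_normal heN heK hee hv1 n1 hv2 n2 n12 hev hact
  obtain ⟨r1, r2, r3, r4, r5, r6⟩ := rels
  obtain ⟨d, hd⟩ := exists_of_sign hc π hinj (h.sign_eq π) d1 r2
  have hdB : d ∈ B := by rw [← h5, hd]; exact r1
  have hei : e⁻¹ = e := inv_eq_of_mul_eq_one_left hee
  have hF := four h.V4 h.sq hv1 hv2 n1 n2 n12
  refine ⟨v1, d, e, hv1, n1, hdB, heN, heK, ?_, hee, ?_, ?_, hev.symm, ?_⟩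
  · apply hinj; rw [map_mul, hd, r3, map_one]
  · apply hinj
    rw [pow_succ, pow_two, map_mul, map_mul, map_mul, pa, hd, r4, map_one]
  · apply hinj
    rw [pow_succ, pow_two, map_mul, map_mul, map_mul, pe, hd, r5, map_one]
  · intro β hβ hd'
    -- `e` normalises `K`
    have hKe : ∀ k ∈ K, e * k * e⁻¹ ∈ K := by
      intro k hk
      rw [mul_assoc]
      apply h.N2 e heN _ (N.mul_mem (h.KN hk) (N.inv_mem heN)) heK
      intro hcon
      apply heK
      have := K.mul_mem (K.inv_mem hk) hcon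
      rw [inv_mul_cancel_left] at this
      simpa using K.inv_mem this
    -- the image of `K`
    have hsub : ∀ k ∈ K, π k ∈ A4L := by
      intro k hk
      have hl : ∀ v ∈ V, v ≠ 1 → π (k * v * k⁻¹) ∈ [a0, b0, a0 * b0] := by
        intro v hv hvn
        have hne : k * v * k⁻¹ ≠ 1 := by
          intro hcon; apply hvn
          have : v = k⁻¹ * (k * v * k⁻¹) * k := by group
          rw [this, hcon]; group
        rcases hF _ (h.KV k hk v hv) with h1 | h1 | h1 | h1
        · exact absurd h1 hne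
        · rw [h1, pa]; simp
        · rw [h1, pb]; simp
        · rw [h1, map_mul, pa, pb]; simp
      apply mem_A4L _ ((h5 k).2 (h.KB hk)) (h.sign_eq π k)
      · rw [← pa, ← map_inv, ← map_mul, ← map_mul, pa]; exact hl v1 hv1 n1
      · rw [← pb, ← map_inv, ← map_mul, ← map_mul, pb]; exact hl v2 hv2 n2
    have hsurj : ∀ g ∈ A4L, ∃ k ∈ K, π k = g := by
      have hfinK : Finite K := inferInstance
      have hT : (Set.range fun k : K => π k) ⊆ (A4L.toFinset : Set P) := by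
        rintro _ ⟨k, rfl⟩
        simp only [List.coe_toFinset, Set.mem_ofPred_eq]
        exact hsub k k.2
      have hcT : (Set.range fun k : K => π k).ncard = 12 := by
        rw [← h.K12, ← Nat.card_coe_set_eq]
        apply Nat.card_range_of_injective
        intro x y hxy
        exact Subtype.ext (hinj hxy)
      have hle : (A4L.toFinset : Set P).ncard ≤ 12 := by
        rw [Set.ncard_coe_finset]
        exact (List.toFinset_card_le _).trans len_A4L.le
      have heq := Set.eq_of_subset_of_ncard_le hT (by rw [hcT]; exact hle)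
      intro g hg
      have : g ∈ (A4L.toFinset : Set P) := by
        simp only [List.coe_toFinset, Set.mem_ofPred_eq]; exact hg
      rw [← heq] at this
      obtain ⟨k, hk⟩ := this
      exact ⟨k, k.2, hk⟩
    set y := β ⟨d, hd'⟩ with hy
    apply hinj
    rw [hd]
    apply uniq
    · exact (h5 _).2 y.2
    · exact h.sign_eq π _
    · intro g hg
      obtain ⟨k, hk, rfl⟩ := hsurj g hg
      have hf := (A4L_facts _ hg).2.2
      rw [← hf]
      -- `k' = e k e`
      have hk' : e * k * e⁻¹ ∈ K := hKe k hk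
      have hβk : ((β ⟨e * k * e⁻¹, h.KB hk'⟩ : B) : Y) = k := by
        rw [hβ _ _ hk', hei]
        calc e * (e * k * e) * e = (e * e) * k * (e * e) := by group
          _ = k := by rw [hee]; group
      have hprod : k * (y : Y) = ((β (⟨e * k * e⁻¹, h.KB hk'⟩ * ⟨d, hd'⟩) : B) : Y) := by
        rw [map_mul, Subgroup.coe_mul, hβk]
      have hcg : ∀ x : B, sg (π ((β x : B) : Y)) = sg (π (x : Y)) := by
        intro x
        have k2 : ((β x : B) : Y) * ((β x : B) : Y) = 1 ↔ (x : Y) * x = 1 := by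
          rw [← Subgroup.coe_mul, ← map_mul, ← Subgroup.coe_mul]
          rw [OneMemClass.coe_eq_one, OneMemClass.coe_eq_one]
          exact MulEquiv.map_eq_one_iff β
        have k3 : ((β x : B) : Y) * ((β x : B) : Y) * ((β x : B) : Y) = 1 ↔ (x : Y) * x * x = 1 := by
          rw [← Subgroup.coe_mul, ← map_mul, ← Subgroup.coe_mul, ← map_mul, ← Subgroup.coe_mul,
            ← Subgroup.coe_mul]
          rw [OneMemClass.coe_eq_one, OneMemClass.coe_eq_one]
          exact MulEquiv.map_eq_one_iff β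
        apply sg_congr
        · rw [← map_mul, ← map_mul, map_eq_one_iff π hinj, map_eq_one_iff π hinj]; exact k2
        · rw [← map_mul, ← map_mul, ← map_mul, ← map_mul, map_eq_one_iff π hinj,
            map_eq_one_iff π hinj]; exact k3
      have h1 : π k * π (y : Y) = π ((β (⟨e * k * e⁻¹, h.KB hk'⟩ * ⟨d, hd'⟩) : B) : Y) := by
        rw [← map_mul, hprod]
      have h2 : π (((⟨e * k * e⁻¹, h.KB hk'⟩ * ⟨d, hd'⟩ : B)) : Y) = e1 * π k * e1 * d1 := by
        have h3 : (((⟨e * k * e⁻¹, h.KB hk'⟩ * ⟨d, hd'⟩ : B)) : Y) = e * k * e * d := by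
          rw [Subgroup.coe_mul]
          show e * k * e⁻¹ * d = e * k * e * d
          rw [hei]
        rw [h3, map_mul, map_mul, map_mul, pe, hd]
      rw [h1, hcg, h2]

end Hyp

end Cfsg.Agent.StdG24.EightAbs
end

-- part: StdG24/Eight
section
/-!
# Step 8 of S1767: the presentation `P957`

`j : L₀ → Γ` an embedding of `G₂(4)` with `C(j L₀) ≅ A₄`, `V = O₂(C(j L₀))`, such that the centralisers of
the involutions of `V` normalise `j L₀`, and `B = C(j J_L) ≅ A₅`. Then `⟨B, B^v⟩ ≅ A₆` and we find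
`w₀, d, e` with the relations of `P957`.
-/

set_option autoImplicit false

namespace Cfsg.Agent.StdG24.Eight

open Subgroup Cfsg.Agent.StdG24.Words Cfsg.Agent.StdG24.PWords Cfsg.Agent.StdG24.CentX
  Cfsg.Agent.StdG24.GenJ Cfsg.Agent.StdG24.AutX Cfsg.Agent.CoOneType

open scoped commutatorElement

variable {G : Type*} [Group G]

/-- The input of step 8. -/
structure In (j : L0 →* G) (V B : Subgroup G) : Prop where
  inj : Function.Injective j
  V4 : Nat.card V = 4
  sq : ∀ v ∈ V, v * v = 1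
  Vj : V ≤ KK j
  cent : ∀ v ∈ V, v ≠ 1 → ∀ g, g * v = v * g → g ∈ MM j
  self : ∀ v ∈ V, v ≠ 1 → ∀ k ∈ KK j, k * v = v * k → k ∈ V
  K12 : Nat.card (KK j) = 12
  KV : ∀ k ∈ KK j, ∀ v ∈ V, k * v * k⁻¹ ∈ V
  BA : Nonempty (B ≃* alternatingGroup (Fin 5))
  mem_B : ∀ g, g ∈ B ↔ ∀ l ∈ JL, g * j l = j l * g

/-- The output of step 8. -/
structure Out (j : L0 →* G) (V B : Subgroup G) (w d e : G) : Prop where
  w_mem : w ∈ V
  w_ne : w ≠ 1
  d_mem : d ∈ B
  e_mem : e ∈ MM j
  e_not : e ∉ KK j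
  w2 : w * w = 1
  d2 : d * d = 1
  e2 : e * e = 1
  wd : (w * d) ^ 3 = 1
  de : (d * e) ^ 3 = 1
  we : Commute w e
  es : Commute e (j s)
  et : Commute e (j t)
  ex : Commute e (j x)
  ey : Commute e (j y)
  eq : Commute e (j q)
  ev : e * j v * e = (j v)⁻¹
  df : Commute d (j v * e)

/-- the automorphism of `L` induced by an element of `M` -/
theorem exists_aut {L : Type*} [Group L] {j : L →* G} (hj : Function.Injective j) {m : G} (hm : m ∈ MM j) :
    ∃ α : L ≃* L, ∀ x, j (α x) = m * j x * m⁻¹ := by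
  obtain ⟨h1, h2⟩ := mem_MM.1 hm
  choose f hf using h1
  choose f' hf' using h2
  refine ⟨{ toFun := f, invFun := f', left_inv := fun x => hj ?_, right_inv := fun x => hj ?_,
            map_mul' := fun x y => hj ?_ }, fun x => (hf x).symm⟩
  · rw [← hf', ← hf]; group
  · rw [← hf, ← hf']; group
  · rw [map_mul, ← hf, ← hf, ← hf, map_mul]; group

namespace In

variable {j : L0 →* G} {V B : Subgroup G} (h : In j V B)
include h

theorem KB : KK j ≤ B := by
  intro k hk
  rw [h.mem_B]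
  intro l _
  exact mem_KK.1 hk l

theorem VB : V ≤ B := h.Vj.trans h.KB

/-- the subgroup `⟨B, B^v⟩` -/
noncomputable def Y (_ : In j V B) : Subgroup G := B ⊔ B.map (MulAut.conj (j v)⁻¹).toMonoidHom

theorem BY : B ≤ h.Y := le_sup_left

theorem mem_conj {b : G} (hb : b ∈ B) : (j v)⁻¹ * b * j v ∈ h.Y := by
  refine (le_sup_right : _ ≤ h.Y) ⟨b, hb, ?_⟩
  simp only [_root_.map_inv, _root_.MulEquiv.toMonoidHom_eq_coe, _root_.MonoidHom.coe_coe, _root_.MulAut.inv_apply, _root_.MulAut.conj_symm_apply]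

/-- `Y` centralises `s, t, x, y, q` -/
theorem Y_cent {g : G} (hg : g ∈ h.Y) {l : L0} (hl : l ∈ JL) (hl' : v * l * v⁻¹ ∈ JL) :
    g * j l = j l * g := by
  have h1 : h.Y ≤ centralizer {j l} := by
    refine sup_le ?_ ?_
    · intro b hb
      rw [mem_centralizer_singleton_iff]
      exact (h.mem_B b).1 hb l hl
    · rintro _ ⟨b, hb, rfl⟩
      rw [mem_centralizer_singleton_iff]
      show (j v)⁻¹ * b * (j v)⁻¹⁻¹ * j l = j l * ((j v)⁻¹ * b * (j v)⁻¹⁻¹)
      have h2 := (h.mem_B b).1 hb _ hl'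
      rw [map_mul, map_mul, map_inv] at h2
      calc (j v)⁻¹ * b * (j v)⁻¹⁻¹ * j l = (j v)⁻¹ * (b * (j v * j l * (j v)⁻¹)) * j v := by group
        _ = (j v)⁻¹ * (j v * j l * (j v)⁻¹ * b) * j v := by rw [h2]
        _ = _ := by group
  exact mem_centralizer_singleton_iff.1 (h1 hg)

omit [Group G] h in
theorem _root_.Cfsg.Agent.StdG24.Eight.conj_of_comm {a : L0} (ha : a ∈ JL) (hc : v * a = a * v) : v * a * v⁻¹ ∈ JL := by
  rw [hc, mul_inv_cancel_right]; exact ha

theorem Ys {g : G} (hg : g ∈ h.Y) : g * j s = j s * g := h.Y_cent hg s_mem (conj_of_comm s_mem vs')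
theorem Yt {g : G} (hg : g ∈ h.Y) : g * j t = j t * g := h.Y_cent hg t_mem (conj_of_comm t_mem vt')
theorem Yx {g : G} (hg : g ∈ h.Y) : g * j x = j x * g := h.Y_cent hg x_mem (conj_of_comm x_mem vx')
theorem Yy {g : G} (hg : g ∈ h.Y) : g * j y = j y * g := h.Y_cent hg y_mem (conj_of_comm y_mem vy')
theorem Yq {g : G} (hg : g ∈ h.Y) : g * j q = j q * g := h.Y_cent hg q_mem vqv_mem

theorem comm_B : B ≤ ⁅B, B⁆ := by
  obtain ⟨a⟩ := h.BA
  have h1 := AutL.comm_top a
  have h2 := Subgroup.map_subtype_commutator B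
  rw [h1] at h2
  rw [← h2, ← MonoidHom.range_eq_map, Subgroup.range_subtype]

theorem comm_Y : h.Y ≤ ⁅h.Y, h.Y⁆ := by
  refine sup_le ?_ ?_
  · exact h.comm_B.trans (commutator_mono h.BY h.BY)
  · have h1 : B.map (MulAut.conj (j v)⁻¹).toMonoidHom ≤ h.Y := le_sup_right
    refine (Subgroup.map_mono h.comm_B).trans ?_
    rw [Subgroup.map_commutator]
    exact commutator_mono h1 h1

theorem perf : _root_.commutator h.Y = ⊤ := by
  have h2 := Subgroup.map_subtype_commutator h.Y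
  have h3 : (_root_.commutator h.Y).map h.Y.subtype = (⊤ : Subgroup h.Y).map h.Y.subtype := by
    rw [h2, ← MonoidHom.range_eq_map, Subgroup.range_subtype]
    refine le_antisymm ?_ h.comm_Y
    rw [Subgroup.commutator_le]
    intro a ha b hb
    rw [commutatorElement_def]
    exact h.Y.mul_mem (h.Y.mul_mem (h.Y.mul_mem ha hb) (h.Y.inv_mem ha)) (h.Y.inv_mem hb)
  exact Subgroup.map_injective h.Y.subtype_injective h3

theorem cardB : Nat.card B = 60 := by
  obtain ⟨a⟩ := h.BA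
  rw [Nat.card_congr a.toEquiv]
  have h1 := card_alternatingGroup (α := Fin 5)
  rw [Nat.card_eq_fintype_card, h1, Fintype.card_fin]
  decide

/-- `B` is not all of `Y` -/
theorem ne : B.subgroupOf h.Y ≠ ⊤ := by
  intro htop
  have hYB : h.Y ≤ B := subgroupOf_eq_top.1 htop
  have hfin : Finite B := Nat.finite_of_card_ne_zero (by rw [h.cardB]; norm_num)
  -- conjugation by `v` maps `B` to itself
  have h1 : ∀ b ∈ B, (j v)⁻¹ * b * j v ∈ B := fun b hb => hYB (h.mem_conj hb)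
  have h2 : ∀ b ∈ B, j v * b * (j v)⁻¹ ∈ B := by
    have hinj : Function.Injective (fun b : B => (⟨_, h1 b b.2⟩ : B)) := by
      intro a b hab
      have := congrArg Subtype.val hab
      apply Subtype.ext
      simpa only [_root_.SetLike.coe_eq_coe, _root_.mul_left_inj, _root_.mul_right_inj] using this
    have hsur := Finite.surjective_of_injective hinj
    intro b hb
    obtain ⟨c, hc⟩ := hsur ⟨b, hb⟩
    have hc' : (j v)⁻¹ * (c : G) * j v = b := congrArg Subtype.val hc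
    rw [← hc', show j v * ((j v)⁻¹ * (c : G) * j v) * (j v)⁻¹ = c by group]
    exact c.2
  have h3 : ∀ b ∈ B, (centralizer {b}).comap j = ⊤ := by
    intro b hb
    refine eq_top_of_JL ?_ ?_
    · intro l hl
      rw [mem_comap, mem_centralizer_singleton_iff]
      exact ((h.mem_B b).1 hb l hl).symm
    · intro l hl
      rw [mem_comap, mem_centralizer_singleton_iff]
      have h4 := (h.mem_B _).1 (h2 b hb) l hl
      rw [map_mul, map_mul, map_inv]
      calc (j v)⁻¹ * j l * j v * b = (j v)⁻¹ * (j l * (j v * b * (j v)⁻¹)) * j v := by group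
        _ = (j v)⁻¹ * (j v * b * (j v)⁻¹ * j l) * j v := by rw [h4]
        _ = _ := by group
  have h4 : B ≤ KK j := by
    intro b hb
    rw [mem_KK]
    intro l
    have h5 : l ∈ (centralizer {b}).comap j := by rw [h3 b hb]; trivial
    rw [mem_comap, mem_centralizer_singleton_iff] at h5
    exact h5.symm
  have h5 := h.cardB
  have h6 : B = KK j := le_antisymm h4 h.KB
  rw [h6, h.K12] at h5
  norm_num at h5

/-- the elements of `K` of order at most 2 lie in `V` -/
theorem mem_V {k : G} (hk : k ∈ KK j) (k2 : k * k = 1) : k ∈ V := by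
  obtain ⟨u, hu, hu1⟩ : ∃ u ∈ V, u ≠ 1 := by
    by_contra hcon
    push Not at hcon
    have h5 : V = ⊥ := by rw [eq_bot_iff]; intro x hx; rw [mem_bot]; exact hcon x hx
    have h6 := h.V4
    rw [h5, card_bot] at h6
    norm_num at h6
  have inv : ∀ {a : G}, a ∈ V → a⁻¹ = a := fun ha => inv_eq_of_mul_eq_one_left (h.sq _ ha)
  have hcm : ∀ {a b : G}, a ∈ V → b ∈ V → a * b = b * a := by
    intro a b ha hb
    have := inv (V.mul_mem ha hb)
    rw [mul_inv_rev, inv ha, inv hb] at this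
    exact this.symm
  have ki : k⁻¹ = k := inv_eq_of_mul_eq_one_left k2
  have hu' := h.KV k hk u hu
  have hw := V.mul_mem hu hu'
  by_cases h1 : u * (k * u * k⁻¹) = 1
  · apply h.self u hu hu1 k hk
    have h2 : k * u * k⁻¹ = u := by
      rw [← inv hu]
      exact (inv_eq_of_mul_eq_one_right (by rw [inv hu]; exact h1)).symm
    calc k * u = k * u * k⁻¹ * k := by group
      _ = u * k := by rw [h2]
  · apply h.self _ hw h1 k hk
    have h2 := hcm hu hu'
    calc k * (u * (k * u * k⁻¹)) = (k * u * k⁻¹) * (k * k) * u * k⁻¹ := by group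
      _ = (k * u * k⁻¹) * u * k⁻¹ := by rw [k2]; group
      _ = u * (k * u * k⁻¹) * k⁻¹ := by rw [h2]
      _ = u * (k * u * k⁻¹) * k := by rw [ki]

/-- an element of `M` in `Y` acts on `L₀` trivially or as the involution inverting `v` -/
theorem aut {a : G} (haY : a ∈ h.Y) (haM : a ∈ MM j) : ∃ α : L0 ≃* L0, (∀ l, j (α l) = a * j l * a⁻¹) ∧
    (∀ l ∈ ({s, t, x, y, q} : Set L0), α l = l) ∧ (a ∉ KK j → α v = v⁻¹ ∧ ∀ g, α (α g) = g) := by
  obtain ⟨α, hα⟩ := exists_aut h.inj haM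
  have hf : ∀ {l : L0}, a * j l = j l * a → α l = l := by
    intro l hl
    apply h.inj
    rw [hα, hl, mul_inv_cancel_right]
  have hs := hf (h.Ys haY)
  have ht := hf (h.Yt haY)
  have hx := hf (h.Yx haY)
  have hy := hf (h.Yy haY)
  have hq := hf (h.Yq haY)
  refine ⟨α, hα, ?_, ?_⟩
  · intro l hl
    simp only [Set.mem_insert_iff, Set.mem_singleton_iff] at hl
    rcases hl with rfl | rfl | rfl | rfl | rfl
    exacts [hs, ht, hx, hy, hq]
  · intro haK
    rcases aut_X α hs ht hx hy hq with h1 | h1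
    · exfalso
      apply haK
      rw [mem_KK]
      intro l
      have h2 := hα l
      rw [h1] at h2
      calc a * j l = a * j l * a⁻¹ * a := by group
        _ = j l * a := by rw [← h2]
    · exact h1

/-- `|N : K| ≤ 2` -/
theorem N2 {a b : G} (haY : a ∈ h.Y) (haM : a ∈ MM j) (hbY : b ∈ h.Y) (hbM : b ∈ MM j)
    (haK : a ∉ KK j) (hbK : b ∉ KK j) : a * b ∈ KK j := by
  obtain ⟨α, hα, fα, iα⟩ := h.aut haY haM
  obtain ⟨β, hβ, fβ, iβ⟩ := h.aut hbY hbM
  have h1 := aut_X_unique α β fα fβ (iα haK).1 (iβ hbK).1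
  rw [mem_KK]
  intro l
  have h2 : a * b * j l * (a * b)⁻¹ = j l := by
    calc a * b * j l * (a * b)⁻¹ = a * (b * j l * b⁻¹) * a⁻¹ := by group
      _ = a * j (α l) * a⁻¹ := by rw [← hβ, h1]
      _ = j l := by rw [← hα, (iα haK).2]
  calc a * b * j l = a * b * j l * (a * b)⁻¹ * (a * b) := by group
    _ = _ := by rw [h2]

/-- the abstract hypotheses for `Y` -/
theorem hyp : EightAbs.Hyp (V.subgroupOf h.Y) ((KK j).subgroupOf h.Y) (B.subgroupOf h.Y)
    ((MM j).subgroupOf h.Y) where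
  perf := h.perf
  V4 := by rw [Nat.card_congr (subgroupOfEquivOfLe (h.VB.trans h.BY)).toEquiv]; exact h.V4
  sq := fun v hv => Subtype.ext (h.sq v hv)
  VK := fun v hv => h.Vj hv
  KB := fun v hv => h.KB hv
  K12 := by rw [Nat.card_congr (subgroupOfEquivOfLe (h.KB.trans h.BY)).toEquiv]; exact h.K12
  KV := fun k hk v hv => h.KV k hk v hv
  self := fun v hv hv1 k hk hkv =>
    h.self v hv (fun hcon => hv1 (Subtype.ext hcon)) k hk (congrArg Subtype.val hkv)
  BA := by
    obtain ⟨a⟩ := h.BA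
    exact ⟨(subgroupOfEquivOfLe h.BY).trans a⟩
  ne := h.ne
  KN := fun k hk => KK_le_MM j hk
  N2 := fun a ha b hb haK hbK => h.N2 a.2 ha b.2 hb haK hbK
  NV := by
    intro a ha v hv
    refine h.mem_V (Emb.conj_KK ha (h.Vj hv)) ?_
    calc (a : G) * v * (a : G)⁻¹ * (a * v * (a : G)⁻¹) = a * (v * v) * (a : G)⁻¹ := by group
      _ = 1 := by rw [h.sq v hv]; group
  cent := fun v hv hv1 y hy =>
    h.cent v hv (fun hcon => hv1 (Subtype.ext hcon)) y (congrArg Subtype.val hy)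

/-- **Step 8**: the elements `w, d, e`. -/
theorem main [Finite G] : ∃ w d e, Out j V B w d e := by
  obtain ⟨⟨w, hwY⟩, ⟨d, hdY⟩, ⟨e, heY⟩, o⟩ := h.hyp.main
  have hd : d ∈ B := o.d_mem
  have hw : w ∈ V := o.w_mem
  have heM : e ∈ MM j := o.e_mem
  have heK : e ∉ KK j := o.e_not
  have e2 : e * e = 1 := congrArg Subtype.val o.e2
  have ei : e⁻¹ = e := inv_eq_of_mul_eq_one_left e2
  obtain ⟨α, hα, fα, iα⟩ := h.aut heY heM
  obtain ⟨hαv, -⟩ := iα heK
  have ev : e * j v * e = (j v)⁻¹ := by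
    have h1 := hα v
    rw [hαv, map_inv, ei] at h1
    exact h1.symm
  have hαs := fα s (by simp)
  have hαt := fα t (by simp)
  have hαx := fα x (by simp)
  have hαy := fα y (by simp)
  have hαq := fα q (by simp)
  have hαr := aut_r α hαs hαt hαx hαy hαq hαv
  -- the involution `f = v e`
  obtain ⟨f, hf⟩ : ∃ f, f = j v * e := ⟨_, rfl⟩
  have f2 : f * f = 1 := by
    rw [hf]
    calc j v * e * (j v * e) = j v * (e * j v * e) := by group
      _ = 1 := by rw [ev, mul_inv_cancel]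
  have fi : f⁻¹ = f := inv_eq_of_mul_eq_one_left f2
  have hfl : ∀ l, f * j l * f⁻¹ = j (v * α l * v⁻¹) := by
    intro l
    rw [map_mul, map_mul, map_inv, hα, hf]
    group
  -- `f` maps `J_L` to `J_L`
  have hJ : ∀ l ∈ JL, v * α l * v⁻¹ ∈ JL := by
    have h1 : JL ≤ JL.comap ((MulAut.conj v).toMonoidHom.comp α.toMonoidHom) := by
      refine GenJL.JL_le.trans ?_
      rw [closure_le]
      intro a ha
      show v * α a * v⁻¹ ∈ JL
      simp only [Set.mem_insert_iff, Set.mem_singleton_iff] at ha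
      rcases ha with rfl | rfl | rfl | rfl | rfl | rfl
      · rw [hαs]; exact conj_of_comm s_mem vs'
      · rw [hαt]; exact conj_of_comm t_mem vt'
      · rw [hαx]; exact conj_of_comm x_mem vx'
      · rw [hαy]; exact conj_of_comm y_mem vy'
      · rw [hαq]; exact vqv_mem
      · rw [hαr]
        have h2 : v⁻¹ = v * v := inv_eq_of_mul_eq_one_left v3'
        have h3 : v * (r * v⁻¹) * v⁻¹ = r⁻¹ := by
          have h4 : v⁻¹ * v⁻¹ = v := by
            rw [h2]
            calc v * v * (v * v) = v * v * v * v := by group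
              _ = v := by rw [v3', one_mul]
          have h5 : v * r * v * r = 1 := by
            have h6 := rv2'
            calc v * r * v * r = r⁻¹ * (r * v * r * v) * r := by group
              _ = 1 := by rw [h6]; group
          calc v * (r * v⁻¹) * v⁻¹ = v * r * (v⁻¹ * v⁻¹) := by group
            _ = v * r * v := by rw [h4]
            _ = v * r * v * r * r⁻¹ := by group
            _ = r⁻¹ := by rw [h5, one_mul]
        rw [h3]
        exact JL.inv_mem r_mem
    exact fun l hl => h1 hl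
  -- `f` normalises `B`
  have hfB : ∀ b ∈ B, f * b * f⁻¹ ∈ B := by
    intro b hb
    rw [h.mem_B]
    intro l hl
    have h1 := (h.mem_B b).1 hb _ (hJ l hl)
    rw [← hfl l, fi] at h1
    have h2 : f * (b * (f * j l * f)) * f = f * (f * j l * f * b) * f := by rw [h1]
    have h3 : f * (b * (f * j l * f)) * f = f * b * f * j l := by
      calc f * (b * (f * j l * f)) * f = f * b * f * j l * (f * f) := by group
        _ = _ := by rw [f2, mul_one]
    have h4 : f * (f * j l * f * b) * f = j l * (f * b * f) := by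
      calc f * (f * j l * f * b) * f = (f * f) * j l * (f * b * f) := by group
        _ = _ := by rw [f2, one_mul]
    rw [fi, ← h3, h2, h4]
  -- rigidity
  have hfd : f * d * f⁻¹ = d := by
    obtain ⟨β, hβ⟩ : ∃ β : B.subgroupOf h.Y ≃* B.subgroupOf h.Y,
        ∀ b, (((β b : B.subgroupOf h.Y) : h.Y) : G) = f * ((b : h.Y) : G) * f⁻¹ := by
      refine ⟨{ toFun := fun b => ⟨⟨f * ((b : h.Y) : G) * f⁻¹, h.BY (hfB _ b.2)⟩, hfB _ b.2⟩
                invFun := fun b => ⟨⟨f * ((b : h.Y) : G) * f⁻¹, h.BY (hfB _ b.2)⟩, hfB _ b.2⟩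
                left_inv := ?_, right_inv := ?_, map_mul' := ?_ }, fun b => rfl⟩
      · intro b
        refine Subtype.ext (Subtype.ext ?_)
        show f * (f * ((b : h.Y) : G) * f⁻¹) * f⁻¹ = b
        rw [fi]
        calc f * (f * ((b : h.Y) : G) * f) * f = (f * f) * b * (f * f) := by group
          _ = _ := by rw [f2]; group
      · intro b
        refine Subtype.ext (Subtype.ext ?_)
        show f * (f * ((b : h.Y) : G) * f⁻¹) * f⁻¹ = b
        rw [fi]
        calc f * (f * ((b : h.Y) : G) * f) * f = (f * f) * b * (f * f) := by group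
          _ = _ := by rw [f2]; group
      · intro a b
        refine Subtype.ext (Subtype.ext ?_)
        show f * (((a : h.Y) : G) * b) * f⁻¹ = f * a * f⁻¹ * (f * b * f⁻¹)
        group
    have h1 := o.rigid β (by
      intro k hkB hk
      apply Subtype.ext
      rw [hβ]
      show f * (k : G) * f⁻¹ = e * k * e⁻¹
      have hk' : e * (k : G) * e⁻¹ ∈ KK j := Emb.conj_KK heM hk
      rw [hf]
      calc j v * e * (k : G) * (j v * e)⁻¹ = j v * (e * k * e⁻¹) * (j v)⁻¹ := by group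
        _ = e * k * e⁻¹ * j v * (j v)⁻¹ := by rw [mem_KK.1 hk' v]
        _ = _ := by group) hd
    have h2 := congrArg Subtype.val h1
    rw [hβ] at h2
    exact h2
  refine ⟨w, d, e, ?_⟩
  have cm : ∀ {a b : G}, a * b = b * a → Commute a b := fun h => h
  exact {
    w_mem := hw
    w_ne := fun hcon => o.w_ne (Subtype.ext hcon)
    d_mem := hd
    e_mem := heM
    e_not := heK
    w2 := h.sq w hw
    d2 := congrArg Subtype.val o.d2
    e2 := e2
    wd := congrArg Subtype.val o.wd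
    de := congrArg Subtype.val o.de
    we := congrArg Subtype.val o.we
    es := h.Ys heY
    et := h.Yt heY
    ex := h.Yx heY
    ey := h.Yy heY
    eq := h.Yq heY
    ev := ev
    df := by
      rw [← hf]
      show d * f = f * d
      calc d * f = f * d * f⁻¹ * f := by rw [hfd]
        _ = f * d := by group }

/-- elements of `B` commute with `j J_L` -/
theorem B_comm {d : G} (hd : d ∈ B) {l : L0} (hl : l ∈ JL) : Commute d (j l) := (h.mem_B d).1 hd l hl

/-- **Step 8**: the presentation `P957`. -/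
theorem p957 {w d e : G} (o : Out j V B w d e) :
    P957 (j s) (j t) (j x) (j y) w d e (j v * e) (j r * (j v * e)) ((j q)⁻¹ * (j r * (j v * e))) :=
  P957Of.p957 j o.e2 o.es o.et o.ex o.ey o.eq o.ev o.w2 o.d2 o.wd o.de
    (fun l => mem_KK.1 (h.Vj o.w_mem) l) o.we (h.B_comm o.d_mem s_mem) (h.B_comm o.d_mem t_mem)
    (h.B_comm o.d_mem x_mem) (h.B_comm o.d_mem y_mem) (h.B_comm o.d_mem q_mem) (h.B_comm o.d_mem r_mem) o.df

end In

end Cfsg.Agent.StdG24.Eight
end

-- part: StdG24/EightMM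
section
/-!
# Step 8 of S1767: `N(j L₀) = C(j L₀) j(L₀) ⟨e⟩`
-/

set_option autoImplicit false

namespace Cfsg.Agent.StdG24.EightMM

open Subgroup Cfsg.Agent.StdG24.Words Cfsg.Agent.StdG24.PWords Cfsg.Agent.StdG24.CentX
  Cfsg.Agent.StdG24.GenJ Cfsg.Agent.StdG24.AutX

variable {G : Type*} [Group G]

/-- an element of `M` inducing an inner automorphism -/
theorem of_inner {L : Type*} [Group L] {j : L →* G} {m : G} {c : L}
    (h : ∀ x, m * j x * m⁻¹ = j (c * x * c⁻¹)) : ∃ k ∈ KK j, m = k * j c := by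
  refine ⟨m * (j c)⁻¹, Emb.mem_of_aut h, by group⟩

/-- the automorphism induced by `e` is not inner -/
theorem e_not_inner {j : L0 →* G} (hj : Function.Injective j) {e : G} (es : Commute e (j s))
    (et : Commute e (j t)) (ex : Commute e (j x)) (ey : Commute e (j y)) (eq : Commute e (j q))
    (ev : e * j v * e⁻¹ = (j v)⁻¹) (c : L0) (hc : ∀ l, e * j l * e⁻¹ = j (c * l * c⁻¹)) : False := by
  have h1 : ∀ {l : L0}, Commute e (j l) → c * l = l * c := by
    intro l hl
    have h2 := hc l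
    rw [hl.eq, mul_inv_cancel_right] at h2
    have h3 : l = c * l * c⁻¹ := hj h2
    calc c * l = c * l * c⁻¹ * c := by group
      _ = l * c := by rw [← h3]
  have hc1 := cent_X c (h1 es) (h1 et) (h1 ex) (h1 ey) (h1 eq)
  have h2 := hc v
  rw [ev, hc1, one_mul, inv_one, mul_one, ← map_inv] at h2
  have h3 : v⁻¹ = v := hj h2
  have h4 : v * v = 1 := by
    calc v * v = v * v⁻¹ := by rw [h3]
      _ = 1 := mul_inv_cancel v
  have h5 := v3'
  rw [h4, one_mul] at h5
  exact v_ne h5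

/-- `N(j L₀) = C(j L₀) j(L₀) ⟨e⟩` -/
theorem MM_dec {j : L0 →* G} {V B : Subgroup G} (h : Eight.In j V B) {w d e : G}
    (o : Eight.Out j V B w d e) {E : AutL.El L0} (A : AutL.Ax E) {m : G} (hm : m ∈ MM j) :
    ∃ k ∈ KK j, ∃ l : L0, m = k * j l ∨ m = k * j l * e := by
  have ei : e⁻¹ = e := inv_eq_of_mul_eq_one_left o.e2
  have ev : e * j v * e⁻¹ = (j v)⁻¹ := by rw [ei]; exact o.ev
  have hni := e_not_inner h.inj o.es o.et o.ex o.ey o.eq ev
  obtain ⟨α, hα⟩ := Eight.exists_aut h.inj hm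
  obtain ⟨β, hβ⟩ := Eight.exists_aut h.inj o.e_mem
  by_cases h1 : ∃ c : L0, ∀ x, α x = c * x * c⁻¹
  · obtain ⟨c, hc⟩ := h1
    obtain ⟨k, hk, hkm⟩ := of_inner (j := j) (m := m) (c := c) (fun x => by rw [← hα, hc])
    exact ⟨k, hk, c, Or.inl hkm⟩
  · have h2 : ¬ ∃ c : L0, ∀ x, β x = c * x * c⁻¹ := by
      rintro ⟨c, hc⟩
      exact hni c fun l => by rw [← hβ, hc]
    obtain ⟨c, hc⟩ := A.mul_inner α β h1 h2
    obtain ⟨k, hk, hkm⟩ := of_inner (j := j) (m := m * e) (c := c) (fun x => by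
      rw [← hc, hα, hβ]; group)
    refine ⟨k, hk, c, Or.inr ?_⟩
    rw [← hkm, mul_assoc, o.e2, mul_one]

end Cfsg.Agent.StdG24.EightMM
end
end

-- part: StdG24/F/A5Count
section
prune_inst 0x3010450074221000001800002200002020000000000000010000000001490041200500013260021081128c70280a806001100109423800002a008a0040040000040032c20040100001000040c804000000000000000000000000000000000000000000000
set_option linter.all false
open scoped Cfsg.Agent.FastGrp

/-!
# Counting involutions in `A₅`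
-/

set_option autoImplicit false

namespace Cfsg.Agent.StdG24.F.A5Count

open Equiv Cfsg.Agent.StdG24.AutA5

theorem conj2 : ∀ x : P, Perm.sign x = 1 → x ≠ 1 → x * x = 1 →
    ∃ s : P, Perm.sign s = 1 ∧ s * x * s⁻¹ = a0 := by (set_option synthInstance.maxSize 9000 in open scoped Cfsg.Agent.Lib.FastPerm in decide +kernel)

theorem count15 : Fintype.card {y : P // Perm.sign y = 1 ∧ y ≠ 1 ∧ y * y = 1} = 15 := by
  (set_option synthInstance.maxSize 9000 in open scoped Cfsg.Agent.Lib.FastPerm in decide +kernel)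

theorem count13 : Fintype.card {y : P // Perm.sign y = 1 ∧ y ≠ 1 ∧ y * y = 1 ∧ (a0 * y) ^ 15 = 1} = 13 := by
  (set_option synthInstance.maxSize 9000 in open scoped Cfsg.Agent.Lib.FastPerm in decide +kernel)

theorem ord : ∀ y : P, Perm.sign y = 1 → y ^ 30 = 1 := by (set_option synthInstance.maxSize 9000 in open scoped Cfsg.Agent.Lib.FastPerm in decide +kernel)

variable {A : Type*} [Group A]

theorem card_transfer (e : A ≃* alternatingGroup (Fin 5)) (s : P) (p : A → Prop) (q : P → Prop)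
    (h1 : ∀ y, p y ↔ q (emb e s y)) : Nat.card {y // p y} = Nat.card {y // Perm.sign y = 1 ∧ q y} := by
  let f : {y // p y} → {y // Perm.sign y = 1 ∧ q y} := fun y => ⟨emb e s y, sign_emb _ _ _, (h1 y).1 y.2⟩
  refine Nat.card_congr (Equiv.ofBijective f ⟨?_, ?_⟩)
  · intro y y' h
    exact Subtype.ext (emb_injective e s (congrArg Subtype.val h))
  · rintro ⟨x, hx, hx'⟩
    obtain ⟨y, rfl⟩ := exists_emb e s x hx
    exact ⟨⟨y, (h1 y).2 hx'⟩, rfl⟩

theorem emb_eq_one (e : A ≃* alternatingGroup (Fin 5)) (s : P) (y : A) : emb e s y = 1 ↔ y = 1 :=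
  ⟨fun h => emb_injective e s (by rw [h, map_one]), fun h => by rw [h, map_one]⟩

theorem card_inv (e : A ≃* alternatingGroup (Fin 5)) : Nat.card {y : A // y ≠ 1 ∧ y * y = 1} = 15 := by
  rw [card_transfer e 1 (fun y => y ≠ 1 ∧ y * y = 1) (fun y => y ≠ 1 ∧ y * y = 1), Nat.card_eq_fintype_card,
    count15]
  intro y
  rw [← map_mul, Ne, Ne, emb_eq_one, emb_eq_one]

theorem card_odd (e : A ≃* alternatingGroup (Fin 5)) {b : A} (hb : b ≠ 1) (hbb : b * b = 1) :
    Nat.card {y : A // y ≠ 1 ∧ y * y = 1 ∧ (b * y) ^ 15 = 1} = 13 := by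
  obtain ⟨s, hs⟩ := normV (emb e 1 b) (sign_emb _ _ _)
    (fun h => hb (emb_injective e 1 (by rw [h, map_one]))) (by rw [← map_mul, hbb, map_one])
  have hE1 : ∀ y, emb e s y = s * emb e 1 y * s⁻¹ := by
    intro y; rw [emb_apply, emb_apply]; group
  have ha1 : emb e s b = a0 := by rw [hE1, hs]
  rw [card_transfer e s (fun y => y ≠ 1 ∧ y * y = 1 ∧ (b * y) ^ 15 = 1)
    (fun y => y ≠ 1 ∧ y * y = 1 ∧ (a0 * y) ^ 15 = 1), Nat.card_eq_fintype_card, count13]
  intro y
  rw [← ha1, ← map_mul, ← map_mul, ← map_pow, Ne, Ne, emb_eq_one, emb_eq_one, emb_eq_one]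

theorem pow_thirty (e : A ≃* alternatingGroup (Fin 5)) (y : A) : y ^ 30 = 1 :=
  emb_injective e 1 (by rw [map_pow, ord _ (sign_emb _ _ _), map_one])

/-- the involutions of `A₅` are conjugate -/
theorem conj_inv (e : A ≃* alternatingGroup (Fin 5)) {a b : A} (ha : a ≠ 1) (haa : a * a = 1) (hb : b ≠ 1)
    (hbb : b * b = 1) : ∃ g, g * a * g⁻¹ = b := by
  obtain ⟨s, hs1, hs⟩ := conj2 (emb e 1 a) (sign_emb _ _ _)
    (fun h => ha (emb_injective e 1 (by rw [h, map_one]))) (by rw [← map_mul, haa, map_one])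
  obtain ⟨t, ht1, ht⟩ := conj2 (emb e 1 b) (sign_emb _ _ _)
    (fun h => hb (emb_injective e 1 (by rw [h, map_one]))) (by rw [← map_mul, hbb, map_one])
  obtain ⟨g, hg⟩ := exists_emb e 1 (t⁻¹ * s) (by rw [map_mul, map_inv, hs1, ht1]; rfl)
  refine ⟨g, emb_injective e 1 ?_⟩
  rw [map_mul, map_mul, map_inv, hg]
  calc t⁻¹ * s * emb e 1 a * (t⁻¹ * s)⁻¹ = t⁻¹ * (s * emb e 1 a * s⁻¹) * t := by group
    _ = t⁻¹ * (t * emb e 1 b * t⁻¹) * t := by rw [hs, ht]
    _ = emb e 1 b := by group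

end Cfsg.Agent.StdG24.F.A5Count
end

-- part: StdG24/RigidA4
section
set_option linter.all false
open scoped Cfsg.Agent.FastGrp

/-!
# Elements of `A₄`, and rigidity of `A₄ ≤ A₅`
-/

set_option autoImplicit false

namespace Cfsg.Agent.StdG24.RigidA4

open Subgroup Equiv

/-- generators of a group isomorphic to `A₄` -/
structure Gens {G : Type*} [Group G] (K : Subgroup G) (a b c : G) : Prop where
  aK : a ∈ K
  bK : b ∈ K
  cK : c ∈ K
  a1 : a ≠ 1
  b1 : b ≠ 1
  hne : a ≠ b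
  aa : a * a = 1
  bb : b * b = 1
  ab : a * b = b * a
  ca : c * a * c⁻¹ = b
  cb : c * b * c⁻¹ = a * b
  ccc : c * c * c = 1
  cent : ∀ v, (v = a ∨ v = b ∨ v = a * b) → ∀ k ∈ K, k * v = v * k → k = 1 ∨ k = a ∨ k = b ∨ k = a * b
  inv : ∀ k ∈ K, k ≠ 1 → k * k = 1 → k = a ∨ k = b ∨ k = a * b
  form : ∀ k ∈ K, ∃ i : ℕ, ∃ v : G, (v = 1 ∨ v = a ∨ v = b ∨ v = a * b) ∧ k = c ^ i * v
  card : Nat.card K = 12

section conc

abbrev P4 := Perm (Fin 4)

def a0 : P4 := swap 0 1 * swap 2 3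
def b0 : P4 := swap 0 2 * swap 1 3
def c0 : P4 := swap 1 2 * swap 2 3

theorem sgn : Perm.sign a0 = 1 ∧ Perm.sign b0 = 1 ∧ Perm.sign c0 = 1 := by decide +kernel

end conc

variable {G : Type*} [Group G]

namespace Gens

variable {K : Subgroup G} {a b c : G} (h : Gens K a b c)
include h

/-- the element of order 3 permutes the involutions transitively -/
theorem c_ab : c * (a * b) * c⁻¹ = a := by
  calc c * (a * b) * c⁻¹ = (c * a * c⁻¹) * (c * b * c⁻¹) := by group
    _ = b * (a * b) := by rw [h.ca, h.cb]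
    _ = (b * a) * b := by group
    _ = a * (b * b) := by rw [← h.ab]; group
    _ = a := by rw [h.bb, mul_one]

theorem eq_one_of_comm {v : G} (hv : v = 1 ∨ v = a ∨ v = b ∨ v = a * b) (hc : c * v = v * c) : v = 1 := by
  have h1 : c * v * c⁻¹ = v := by rw [hc]; group
  rcases hv with rfl | rfl | rfl | rfl
  · rfl
  · exact absurd (h1.symm.trans h.ca) h.hne
  · rw [h.cb] at h1
    exact absurd (mul_eq_right.1 h1) h.a1
  · rw [h.c_ab] at h1
    exact absurd (left_eq_mul.1 h1) h.b1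

theorem gen {H : Subgroup G} (ha : a ∈ H) (hb : b ∈ H) (hc : c ∈ H) : K ≤ H := by
  intro k hk
  obtain ⟨i, v, hv, rfl⟩ := h.form k hk
  apply H.mul_mem (H.pow_mem hc i)
  rcases hv with rfl | rfl | rfl | rfl
  · exact H.one_mem
  · exact ha
  · exact hb
  · exact H.mul_mem ha hb

/-- an element normalising `B ≅ A₅` and centralising `A₄ ≤ B` centralises `B` -/
theorem comm_of_norm {B : Subgroup G} (eB : B ≃* alternatingGroup (Fin 5)) (hKB : K ≤ B) {g : G}
    (hg : ∀ x, x ∈ B ↔ g * x * g⁻¹ ∈ B) (ga : g * a = a * g) (gb : g * b = b * g) (gc : g * c = c * g) :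
    ∀ x ∈ B, g * x = x * g := by
  set α : MulAut B :=
    { toFun := fun x => ⟨g * x * g⁻¹, (hg x).1 x.2⟩
      invFun := fun x => ⟨g⁻¹ * x * g, (hg _).2 (by
        rw [show g * (g⁻¹ * (x : G) * g) * g⁻¹ = x by group]; exact x.2)⟩
      left_inv := fun x => Subtype.ext (by
        show g⁻¹ * (g * (x : G) * g⁻¹) * g = x
        group)
      right_inv := fun x => Subtype.ext (by
        show g * (g⁻¹ * (x : G) * g) * g⁻¹ = x
        group)
      map_mul' := fun x y => Subtype.ext (by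
        show g * ((x : G) * y) * g⁻¹ = g * x * g⁻¹ * (g * y * g⁻¹)
        group) } with hα
  have hαx : ∀ x : B, ((α x : B) : G) = g * x * g⁻¹ := fun x => rfl
  obtain ⟨v, hv, hvx⟩ := AutA5.conj_of_fix_four eB α (a := ⟨a, hKB h.aK⟩) (b := ⟨b, hKB h.bK⟩)
    (fun h1 => h.a1 (congrArg Subtype.val h1)) (fun h1 => h.b1 (congrArg Subtype.val h1))
    (Subtype.ext h.aa) (Subtype.ext h.bb) (fun h1 => h.hne (congrArg Subtype.val h1)) (Subtype.ext h.ab)
    (Subtype.ext (by rw [hαx]; show g * a * g⁻¹ = a; rw [ga]; group))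
    (Subtype.ext (by rw [hαx]; show g * b * g⁻¹ = b; rw [gb]; group))
  have hc : c * (v : G) = v * c := by
    have h1 := congrArg Subtype.val (hvx ⟨c, hKB h.cK⟩)
    rw [hαx] at h1
    have h2 : g * c * g⁻¹ = v * c * (v : G)⁻¹ := h1
    rw [gc, mul_inv_cancel_right] at h2
    calc c * (v : G) = (v * c * (v : G)⁻¹) * v := by rw [← h2]
      _ = v * c := by group
  have hv1 : (v : G) = 1 := by
    apply h.eq_one_of_comm _ hc
    rcases hv with h1 | h1 | h1 | h1
    · left; rw [h1]; rfl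
    · right; left; rw [h1]
    · right; right; left; rw [h1]
    · right; right; right; rw [h1]; rfl
  have hv2 : v = 1 := Subtype.ext hv1
  intro x hx
  have h1 := congrArg Subtype.val (hvx ⟨x, hx⟩)
  rw [hαx, hv2] at h1
  have h2 : g * x * g⁻¹ = 1 * x * (1 : G)⁻¹ := h1
  calc g * x = g * x * g⁻¹ * g := by group
    _ = x * g := by rw [h2]; group

end Gens

end Cfsg.Agent.StdG24.RigidA4
end

-- part: StdG24/StepSevenAbs
section
set_option linter.all false
open scoped Cfsg.Agent.FastGrp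

/-!
# Standard `G₂(4)`, step 7: (n) for `u` and (J) for `w` is impossible (abstract form in `C_G(D)/Z(D)`)
-/

set_option autoImplicit false

namespace Cfsg.Agent.StdG24.StepSevenAbs

open Subgroup Cfsg.Agent.StdG24.RigidA4 Cfsg.Agent.TwoFusion.DihedralFusion
open scoped commutatorElement

variable {L : Type*} [Group L] {G : Type*} [Group G] {D : Data L} {e : L →* G}

/-- `N_L(⟨u, w⟩)` -/
def N5 (D : Data L) : Set L :=
  {x | x * D.u * x⁻¹ ∈ closure {D.u, D.w} ∧ x * D.w * x⁻¹ ∈ closure {D.u, D.w}}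

/-- The facts on `L` used in step 7 (F9) -/
structure FactsT (D : Data L) (Z T : Subgroup L) (n : L) : Prop where
  ZAl : Z ≤ D.Al
  Zsq : ∀ z ∈ Z, z * z = 1
  ZT : Z ≤ T
  ZC : ∀ z ∈ Z, ∀ t ∈ T, z * t = t * z
  cent : ∀ x, (∀ t ∈ T, x * t = t * x) → x ∈ Z
  TJ : T ≤ closure (D.Al ∪ N5 D)
  inner : ∀ α : L ≃* L, (∀ t ∈ T, α t = t) → ∃ c, ∀ x, α x = c * x * c⁻¹
  nT : ∀ t ∈ T, n * t * n⁻¹ ∈ T
  nT' : ∀ t ∈ T, n⁻¹ * t * n ∈ T
  top : closure ((D.Al : Set L) ∪ N5 D ∪ {n}) = ⊤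

/-- `A₅` is perfect -/
theorem perfect_of_equiv {B : Subgroup G} (eB : B ≃* alternatingGroup (Fin 5)) : B ≤ ⁅B, B⁆ := by
  have h1 : commutator B = ⊤ := AutL.comm_top eB
  intro x hx
  have h2 : (⟨x, hx⟩ : B) ∈ commutator B := by rw [h1]; trivial
  have h3 : B.subtype ⟨x, hx⟩ ∈ (commutator B).map B.subtype := mem_map_of_mem _ h2
  rw [commutator_def, map_commutator, ← MonoidHom.range_eq_map, range_subtype] at h3
  exact h3

/-- the centre of `A₅` is trivial -/
theorem center_of_equiv {B : Subgroup G} (eB : B ≃* alternatingGroup (Fin 5)) {x : G} (hx : x ∈ B)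
    (hc : ∀ b ∈ B, x * b = b * x) : x = 1 := by
  have h5 : IsSimpleGroup (alternatingGroup (Fin 5)) := alternatingGroup.isSimpleGroup (by simp)
  have hs : IsSimpleGroup B := eB.isSimpleGroup
  have hxc : (⟨x, hx⟩ : B) ∈ center B := by
    rw [mem_center_iff]
    intro b
    exact Subtype.ext (hc b b.2).symm
  rcases (inferInstance : (center B).Normal).eq_bot_or_eq_top with h | h
  · rw [h, mem_bot] at hxc
    exact congrArg Subtype.val hxc
  · exfalso
    have h1 : commutator B = ⊤ := AutL.comm_top eB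
    have h2 : commutator B = ⊥ := by
      rw [commutator_def, commutator_eq_bot_iff_le_centralizer]
      intro y _
      rw [mem_centralizer_iff]
      intro z _
      have : y ∈ center B := by rw [h]; trivial
      exact (mem_center_iff.1 this z)
    rw [h1] at h2
    exact absurd h2 top_ne_bot

theorem card_of_equiv {B : Subgroup G} (eB : B ≃* alternatingGroup (Fin 5)) : Nat.card B = 60 := by
  rw [Nat.card_congr eB.toEquiv, nat_card_alternatingGroup, Nat.card_fin]
  rfl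

end Cfsg.Agent.StdG24.StepSevenAbs
end

-- part: StdG24/Comm
section
set_option linter.all false
open scoped Cfsg.Agent.FastGrp

/-!
# The commutator half of S1171 supplies the hypothesis `CommHalf`
-/

set_option autoImplicit false
set_option maxHeartbeats 400000

namespace Cfsg.Agent.StdG24.Comm

open Subgroup Cfsg Cfsg.Agent.StdAlt.First

theorem commHalf_of_bot {G : Type*} [Group G] [Finite G] (hO : Cfsg.oddCore G = ⊥) : CommHalf G := by
  intro P S₁ S₂ _ hd h1 h2
  rw [eq_bot_iff, ← hO]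
  exact TwoFusion.ClosedCommutator.commutator_le P S₁ S₂ hd h1 h2

theorem commHalf_quot {G : Type*} [Group G] [Finite G] : CommHalf (G ⧸ Cfsg.oddCore G) :=
  commHalf_of_bot (Lib.Cores.pPrimeCore_quotient_pPrimeCore 2)

end Cfsg.Agent.StdG24.Comm
end
end
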