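import Cfsg.Agent.GTwoFour.RedHyp_mg_m3
import Cfsg.Agent.GTwoFour.TransferTL
import Mathlib
import Mathlib.Algebra.Group.Subgroup.Finite
import Mathlib.Tactic.Group
import Mathlib.GroupTheory.QuotientGroup.Basic
import Mathlib.GroupTheory.Coset.Card
import Mathlib.GroupTheory.Index
import Cfsg.Agent.StdL3.HeisCoord
import Mathlib.GroupTheory.Commutator.Basic
import Mathlib.GroupTheory.Subgroup.Center
import Cfsg.Agent.GTwoFour.Tools
import Cfsg.Prelude.Def_Local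
import Cfsg.Prelude.Def_CaseTheorems
import Cfsg.Prelude.Def_ChevG2
import Cfsg.Agent.GTwoFour.EmbOf_m3
import Cfsg.Agent.StdG24.Iso6
import Cfsg.Agent.StdG24.Ord6
import Cfsg.Agent.FastGrp
import Cfsg.Agent.Prune
set_option linter.all false
prune_inst 0x7ffcfefbaff8bddfffff7e7ffedfdffc39d5dfffffdffb4bfffdf1ff8fdf036f3fe52baf9de458ff9ef7e296b0b87813f97eceffeb6bdc7ffffd5ff45ffbee1fe5ffbd8c51d6ac341ffe6ffffbf27fce7f3fffffffffffffffffffffffffffffffffffffffff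
open scoped Cfsg.Agent.FastGrp

-- part: GTwoFour/LiftX
section
set_option autoImplicit false

/-!
# Passage from `G` to `X = C_G(Θ)/Z(Θ)`

`Θ = O(C_K(t))`, `N = C_G(Θ)`, `X = N/(Θ ∩ N)`. The embedding `e : L → G` gives `φ : L → X` injective, and
`Iface.Facts`, `Iface.Big` hold in `X`.
-/

namespace Cfsg.Agent.GTwoFour.Lift

open Subgroup Cfsg.Agent.GTwoFour.Red Cfsg.Agent.GTwoFour.Iface
open Cfsg.Agent.StdG24 (KK MM mem_KK mem_MM Emb)
open scoped commutatorElement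

variable {L : Type*} [Group L] {G : Type*} [Group G]

/-- The output of the reduction. -/
structure RedOut (D : Data L) (e : L →* G) (t : G) (Θ : Subgroup G) : Prop where
  emb : Emb e
  core : Core e t Θ
  t_mem : t ∈ KK e
  t_ne : t ≠ 1
  t_sq : t * t = 1
  fus : ∃ k : G, (∀ x ∈ Θ, k * x = x * k) ∧ (∀ z ∈ D.Z, k * e z = e z * k) ∧
    ∃ z0 ∈ D.Z, z0 ≠ 1 ∧ k * t * k⁻¹ = t * e z0

/-- `N = C_G(Θ)` -/
abbrev NN (Θ : Subgroup G) : Subgroup G := centralizer (Θ : Set G)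

/-- `Θ ∩ N` as a subgroup of `N` -/
abbrev ZZ (Θ : Subgroup G) : Subgroup (NN Θ) := Θ.subgroupOf (NN Θ)

theorem mem_NN {Θ : Subgroup G} {x : G} : x ∈ NN Θ ↔ ∀ y ∈ Θ, x * y = y * x := by
  rw [mem_centralizer_iff]
  exact ⟨fun h y hy => (h y hy).symm, fun h y hy => (h y hy).symm⟩

theorem ZZ_comm {Θ : Subgroup G} {z x : NN Θ} (hz : z ∈ ZZ Θ) : x * z = z * x :=
  Subtype.ext (mem_NN.1 x.2 z (mem_subgroupOf.1 hz))

instance ZZ_normal (Θ : Subgroup G) : (ZZ Θ).Normal := by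
  refine ⟨fun z hz x => ?_⟩
  rw [ZZ_comm hz, mul_inv_cancel_right]
  exact hz

/-- `X = N/Z` -/
abbrev XX (Θ : Subgroup G) : Type _ := NN Θ ⧸ ZZ Θ

variable {D : Data L} {e : L →* G} {t : G} {Θ : Subgroup G}

namespace RedOut

theorem e_mem (O : RedOut D e t Θ) (x : L) : e x ∈ NN Θ :=
  mem_NN.2 fun y hy => (mem_KK.1 (O.core.le y hy) x).symm

theorem t_mem_N (O : RedOut D e t Θ) : t ∈ NN Θ :=
  mem_NN.2 fun y hy => (O.core.comm y hy).symm

/-- the corestriction of `e` -/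
def eN (O : RedOut D e t Θ) : L →* NN Θ := e.codRestrict (NN Θ) O.e_mem

@[simp] theorem eN_coe (O : RedOut D e t Θ) (x : L) : (O.eN x : G) = e x := rfl

/-- the embedding into `X` -/
def φ (O : RedOut D e t Θ) : L →* XX Θ := (QuotientGroup.mk' (ZZ Θ)).comp O.eN

/-- the involution of `X` -/
def tX (O : RedOut D e t Θ) : XX Θ := QuotientGroup.mk' (ZZ Θ) ⟨t, O.t_mem_N⟩

theorem mk_eq_one {n : NN Θ} : QuotientGroup.mk' (ZZ Θ) n = 1 ↔ (n : G) ∈ Θ := by
  rw [QuotientGroup.mk'_apply, QuotientGroup.eq_one_iff, mem_subgroupOf]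

theorem mk_eq {m n : NN Θ} : QuotientGroup.mk' (ZZ Θ) m = QuotientGroup.mk' (ZZ Θ) n ↔
    (m : G)⁻¹ * n ∈ Θ := by
  rw [QuotientGroup.mk'_apply, QuotientGroup.mk'_apply, QuotientGroup.eq, mem_subgroupOf]
  rfl

/-- odd order -/
theorem eq_one_of_sq (O : RedOut D e t Θ) [Finite G] {x : G} (hx : x ∈ Θ) (h2 : x * x = 1) : x = 1 := by
  have h1 : orderOf x ∣ Nat.card Θ := by
    rw [← Subgroup.orderOf_mk x hx]; exact orderOf_dvd_natCard _
  have h3 : orderOf x ∣ 2 := orderOf_dvd_of_pow_eq_one (by rw [pow_two, h2])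
  have h4 : Nat.Coprime 2 (Nat.card Θ) := by
    rw [Nat.coprime_two_left]; exact O.core.odd
  have h5 : orderOf x ∣ 1 := by
    rw [← h4]; exact Nat.dvd_gcd h3 h1
  exact orderOf_eq_one_iff.1 (Nat.dvd_one.1 h5)

theorem φ_inj (O : RedOut D e t Θ) : Function.Injective O.φ := by
  rw [injective_iff_map_eq_one]
  intro x hx
  have h1 : QuotientGroup.mk' (ZZ Θ) (O.eN x) = 1 := hx
  rw [mk_eq_one] at h1
  exact O.emb.disj x (O.core.le _ h1)

theorem facts (O : RedOut D e t Θ) (F : Facts D) : Facts (D.map O.φ) :=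
  (Facts.map_iff O.φ_inj).2 F

/-- elements of `N` commuting with `t` modulo `Θ` -/
theorem comm_of_mk (O : RedOut D e t Θ) [Finite G] {n : NN Θ}
    (h : QuotientGroup.mk' (ZZ Θ) n * O.tX = O.tX * QuotientGroup.mk' (ZZ Θ) n) :
    (n : G) * t = t * n := by
  rw [tX, ← map_mul, ← map_mul, mk_eq] at h
  have h1 : ((n : G) * t)⁻¹ * (t * n) ∈ Θ := h
  -- `d = t⁻¹ n⁻¹ t n`
  set d := ((n : G) * t)⁻¹ * (t * n) with hd
  have ht : t⁻¹ = t := inv_eq_of_mul_eq_one_right O.t_sq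
  have hdt : d * t = t * d := O.core.comm d h1
  have h2 : d * d = 1 := by
    have h3 : (n : G)⁻¹ * t * n = t * d := by
      rw [hd, mul_inv_rev]
      calc (n : G)⁻¹ * t * n = t * t⁻¹ * ((n : G)⁻¹ * (t * n)) := by group
        _ = t * (t⁻¹ * (n : G)⁻¹ * (t * n)) := by group
    have h4 : t * d * (t * d) = 1 := by
      rw [← h3]
      calc (n : G)⁻¹ * t * n * ((n : G)⁻¹ * t * n) = (n : G)⁻¹ * (t * t) * n := by group
        _ = 1 := by rw [O.t_sq]; group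
    calc d * d = t * t * d * d := by rw [O.t_sq, one_mul]
      _ = t * (t * d) * d := by group
      _ = t * (d * t) * d := by rw [hdt]
      _ = t * d * (t * d) := by group
      _ = 1 := h4
  have h5 := O.eq_one_of_sq h1 h2
  rw [hd, inv_mul_eq_one] at h5
  exact h5

/-- the structure of `C_X(⟨t⟩ Z)` -/
theorem big (O : RedOut D e t Θ) [Finite G] (F : Facts D) (R : RedFacts D) (hA : D.A = ⊤) :
    Big (D.map O.φ) O.tX where
  t_ne := by
    intro h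
    rw [tX, mk_eq_one] at h
    exact O.t_ne (O.eq_one_of_sq h O.t_sq)
  t_sq := by
    rw [tX, ← map_mul, mk_eq_one]
    show t * t ∈ Θ
    rw [O.t_sq]; exact one_mem _
  comm := by
    rintro _ ⟨x, hx, rfl⟩
    show QuotientGroup.mk' (ZZ Θ) (O.eN x) * O.tX = O.tX * QuotientGroup.mk' (ZZ Θ) (O.eN x)
    rw [tX, ← map_mul, ← map_mul]
    congr 1
    exact Subtype.ext (mem_KK.1 O.t_mem x).symm
  t_notMem := by
    rintro ⟨x, hx, h⟩
    have h1 : QuotientGroup.mk' (ZZ Θ) (O.eN x) = QuotientGroup.mk' (ZZ Θ) ⟨t, O.t_mem_N⟩ := h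
    rw [mk_eq] at h1
    have h2 : (e x)⁻¹ * t ∈ Θ := h1
    have h3 : e x ∈ KK e := by
      have : e x = t * ((e x)⁻¹ * t)⁻¹ := by group
      rw [this]; exact mul_mem O.t_mem (inv_mem (O.core.le _ h2))
    have h4 := O.emb.disj x h3
    rw [h4, map_one, inv_one, one_mul] at h2
    exact O.t_ne (O.eq_one_of_sq h2 O.t_sq)
  cent := by
    intro g hg hz
    obtain ⟨n, rfl⟩ := QuotientGroup.mk'_surjective (ZZ Θ) g
    have hnt := O.comm_of_mk hg
    have hnM : (n : G) ∈ MM e := O.emb.nrm O.t_mem O.t_ne O.t_sq hnt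
    obtain ⟨α, hα⟩ := O.emb.exists_aut hnM
    have hαZ : ∀ z ∈ D.Z, α z = z := by
      intro z hzZ
      have h1 := hz (O.φ z) (mem_map_of_mem O.φ hzZ)
      have h2 : QuotientGroup.mk' (ZZ Θ) n * QuotientGroup.mk' (ZZ Θ) (O.eN z) =
          QuotientGroup.mk' (ZZ Θ) (O.eN z) * QuotientGroup.mk' (ZZ Θ) n := h1
      rw [← map_mul, ← map_mul, mk_eq] at h2
      have h3 : ((n : G) * e z)⁻¹ * (e z * n) ∈ Θ := h2
      have h4 : e (α z)⁻¹ * e z ∈ KK e := by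
        have h5 : ((n : G) * (((n : G) * e z)⁻¹ * (e z * n)) * (n : G)⁻¹) ∈ KK e :=
          Emb.conj_KK hnM (O.core.le _ h3)
        have h6 : ((n : G) * (((n : G) * e z)⁻¹ * (e z * n)) * (n : G)⁻¹) = e (α z)⁻¹ * e z := by
          rw [map_inv, hα]; group
        rwa [h6] at h5
      rw [← map_mul] at h4
      exact inv_mul_eq_one.1 (O.emb.disj _ h4)
    obtain ⟨a, ha⟩ := R.autZ α hαZ
    have hk : (n : G) * (e a)⁻¹ ∈ KK e := Emb.mem_of_aut (fun x => by rw [← hα, ha])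
    have haZ : a ∈ D.P := by
      rw [← F.cent_Z a (by rw [hA]; trivial)]
      intro z hzZ
      have h1 := hαZ z hzZ
      rw [ha] at h1
      exact mul_inv_eq_iff_eq_mul.1 h1
    set k := (n : G) * (e a)⁻¹ with hkdef
    have hkt : k * t = t * k := by
      have h1 := mem_KK.1 O.t_mem a
      have h2 : (e a)⁻¹ * t = t * (e a)⁻¹ := by
        calc (e a)⁻¹ * t = (e a)⁻¹ * (t * e a) * (e a)⁻¹ := by group
          _ = t * (e a)⁻¹ := by rw [h1]; group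
      rw [hkdef]
      calc (n : G) * (e a)⁻¹ * t = (n : G) * ((e a)⁻¹ * t) := by group
        _ = (n : G) * t * (e a)⁻¹ := by rw [h2]; group
        _ = t * (n * (e a)⁻¹) := by rw [hnt]; group
    have hkN : k ∈ NN Θ := mul_mem n.2 (inv_mem (O.e_mem a))
    have hn : n = ⟨k, hkN⟩ * O.eN a := Subtype.ext (by
      show (n : G) = k * e a
      rw [hkdef]; group)
    rcases O.core.dec k hk hkt with h1 | h1
    · left
      refine ⟨a, haZ, ?_⟩
      show QuotientGroup.mk' (ZZ Θ) (O.eN a) = QuotientGroup.mk' (ZZ Θ) n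
      rw [hn, map_mul, mk_eq_one.2 (show ((⟨k, hkN⟩ : NN Θ) : G) ∈ Θ from h1), one_mul]
    · right
      refine ⟨a, haZ, ?_⟩
      show QuotientGroup.mk' (ZZ Θ) (O.eN a) = O.tX * QuotientGroup.mk' (ZZ Θ) n
      have h2 : QuotientGroup.mk' (ZZ Θ) (⟨t, O.t_mem_N⟩ * ⟨k, hkN⟩) = 1 := mk_eq_one.2 h1
      rw [map_mul] at h2
      rw [hn, map_mul, ← mul_assoc, tX, h2, one_mul]
  fus := by
    obtain ⟨k, hk1, hk2, z0, hz0, hz1, hkt⟩ := O.fus
    have hkN : k ∈ NN Θ := mem_NN.2 hk1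
    have hc : ⁅QuotientGroup.mk' (ZZ Θ) ⟨k, hkN⟩, O.tX⁆ = O.φ z0 := by
      rw [tX, ← map_commutatorElement]
      show _ = QuotientGroup.mk' (ZZ Θ) (O.eN z0)
      congr 1
      apply Subtype.ext
      show k * t * k⁻¹ * t⁻¹ = e z0
      rw [hkt, mem_KK.1 O.t_mem z0, mul_assoc, mul_inv_cancel, mul_one]
    refine ⟨QuotientGroup.mk' (ZZ Θ) ⟨k, hkN⟩, ?_, ?_, ?_⟩
    · rintro _ ⟨z, hz, rfl⟩
      show QuotientGroup.mk' (ZZ Θ) ⟨k, hkN⟩ * QuotientGroup.mk' (ZZ Θ) (O.eN z) =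
        QuotientGroup.mk' (ZZ Θ) (O.eN z) * QuotientGroup.mk' (ZZ Θ) ⟨k, hkN⟩
      rw [← map_mul, ← map_mul]
      congr 1
      exact Subtype.ext (hk2 z hz)
    · rw [hc]; exact mem_map_of_mem O.φ hz0
    · rw [hc]
      intro h
      exact hz1 ((injective_iff_map_eq_one O.φ).1 O.φ_inj z0 h)

end RedOut

end Cfsg.Agent.GTwoFour.Lift
end

-- part: GTwoFour/Lift
section
set_option autoImplicit false

/-!
# Lifting 2-subgroups through a central extension by a group of odd order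
-/

namespace Cfsg.Agent.GTwoFour.Lift

open Subgroup

/-- a 2-element of a group of odd order -/
theorem eq_one_of_odd {N : Type*} [Group N] {Z : Subgroup N} (hZ : Odd (Nat.card Z)) {z : N}
    (hz : z ∈ Z) {k : ℕ} (hk : z ^ 2 ^ k = 1) : z = 1 := by
  have h1 : orderOf z ∣ Nat.card Z := by
    have := orderOf_dvd_natCard (⟨z, hz⟩ : Z)
    rwa [Subgroup.orderOf_mk] at this
  have h2 : orderOf z ∣ 2 ^ k := orderOf_dvd_of_pow_eq_one hk
  have h3 : Nat.Coprime (2 ^ k) (Nat.card Z) := Nat.Coprime.pow_left _ (Nat.coprime_two_left.2 hZ)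
  exact orderOf_eq_one_iff.1 (Nat.eq_one_of_dvd_coprimes h3 h2 h1)

theorem pow_pow_mul {N : Type*} [Group N] {a b : N} (hab : a * b = b * a) {k l : ℕ}
    (ha : a ^ 2 ^ k = 1) (hb : b ^ 2 ^ l = 1) : (a * b) ^ 2 ^ (k + l) = 1 := by
  rw [Commute.mul_pow (show Commute a b from hab), pow_add, pow_mul, ha, one_pow, one_mul, mul_comm,
    pow_mul, hb, one_pow]

/-- **2-subgroups lift uniquely through a central extension of odd order.** -/
theorem exists_lift {N X : Type*} [Group N] [Finite N] [Group X] (π : N →* X)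
    (hπ : Function.Surjective π) (hc : ∀ z ∈ π.ker, ∀ n, n * z = z * n) (hodd : Odd (Nat.card π.ker))
    (B : Subgroup X) (hB : IsPGroup 2 B) :
    ∃ ψ : B →* N, (∀ b, π (ψ b) = b) ∧ (∀ n : N, ∀ hn : π n ∈ B, (∃ k, n ^ 2 ^ k = 1) →
      ψ ⟨π n, hn⟩ = n) ∧ ∀ b, ∃ k, ψ b ^ 2 ^ k = 1 := by
  classical
  have hfact : Fact (Nat.Prime 2) := ⟨Nat.prime_two⟩
  set E := B.comap π with hE
  let πE : E →* B := (π.comp E.subtype).codRestrict B (fun x => x.2)
  have hπE : Function.Surjective πE := by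
    rintro ⟨b, hb⟩
    obtain ⟨n, rfl⟩ := hπ b
    exact ⟨⟨n, hb⟩, rfl⟩
  obtain ⟨P⟩ : Nonempty (Sylow 2 E) := inferInstance
  have hPtop : (P : Subgroup E).map πE = ⊤ := by
    have h1 : ((P.mapSurjective hπE : Sylow 2 B) : Subgroup B) = (P : Subgroup E).map πE := rfl
    rw [← h1]
    have hB' : IsPGroup 2 (⊤ : Subgroup B) := hB.of_injective (⊤ : Subgroup B).subtype
      Subtype.val_injective
    exact ((P.mapSurjective hπE).3 hB' le_top).symm
  -- the restriction to `P`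
  let f : (P : Subgroup E) →* B := πE.comp (P : Subgroup E).subtype
  have hf : Function.Bijective f := by
    constructor
    · rw [injective_iff_map_eq_one]
      intro p hp
      have h1 : π ((p : E) : N) = 1 := congrArg Subtype.val hp
      obtain ⟨k, hk⟩ := P.2 p
      have h2 : ((p : E) : N) ^ 2 ^ k = 1 := by
        have := congrArg (fun x : (P : Subgroup E) => ((x : E) : N)) hk
        simpa using this
      have h3 := eq_one_of_odd hodd (MonoidHom.mem_ker.2 h1) h2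
      exact Subtype.ext (Subtype.ext h3)
    · intro b
      obtain ⟨x, hx, hxb⟩ : b ∈ (P : Subgroup E).map πE := by rw [hPtop]; trivial
      exact ⟨⟨x, hx⟩, hxb⟩
  let g : B ≃* (P : Subgroup E) := (MulEquiv.ofBijective f hf).symm
  let ψ : B →* N := (E.subtype.comp (P : Subgroup E).subtype).comp g.toMonoidHom
  have hψ : ∀ b, π (ψ b) = b := by
    intro b
    have h1 : f (g b) = b := (MulEquiv.ofBijective f hf).apply_symm_apply b
    exact congrArg Subtype.val h1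
  have hψ2 : ∀ b, ∃ k, ψ b ^ 2 ^ k = 1 := by
    intro b
    obtain ⟨k, hk⟩ := hB b
    refine ⟨k, ?_⟩
    rw [← map_pow, hk, map_one]
  refine ⟨ψ, hψ, ?_, hψ2⟩
  intro n hn ⟨k, hk⟩
  obtain ⟨l, hl⟩ := hψ2 ⟨π n, hn⟩
  set m := ψ ⟨π n, hn⟩ with hm
  have h1 : π (n * m⁻¹) = 1 := by
    rw [map_mul, map_inv, hψ, mul_inv_cancel]
  have h2 : n * m⁻¹ ∈ π.ker := h1
  have h3 : m * (n * m⁻¹) = (n * m⁻¹) * m := hc _ h2 m
  have h4 : n * m⁻¹ * m = n := by group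
  have hnm : n * m⁻¹ = m⁻¹ * n := by
    rw [h4] at h3
    calc n * m⁻¹ = m⁻¹ * (m * (n * m⁻¹)) := by group
      _ = m⁻¹ * n := by rw [h3]
  have h5 : (m⁻¹) ^ 2 ^ l = 1 := by rw [inv_pow, hl, inv_one]
  have h6 := pow_pow_mul hnm hk h5
  have h7 := eq_one_of_odd hodd h2 h6
  exact (mul_inv_eq_one.1 h7).symm

variable {L : Type*} [Group L] {G : Type*} [Group G] {D : Iface.Data L} {e : L →* G} {t : G}
  {Θ : Subgroup G}

/-- **Lifting 2-subgroups of `X = C_G(Θ)/Z(Θ)` to `G`.** -/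
theorem RedOut.exists_psi (O : RedOut D e t Θ) [Finite G] (B : Subgroup (XX Θ)) (hB : IsPGroup 2 B) :
    ∃ ψ : B →* G, Function.Injective ψ ∧ (∀ b, ∀ x ∈ Θ, ψ b * x = x * ψ b) ∧
      (∀ b, ∃ h : ψ b ∈ NN Θ, QuotientGroup.mk' (ZZ Θ) ⟨ψ b, h⟩ = b) ∧
      (∀ n : NN Θ, ∀ hn : QuotientGroup.mk' (ZZ Θ) n ∈ B, (∃ k, n ^ 2 ^ k = 1) →
        ψ ⟨QuotientGroup.mk' (ZZ Θ) n, hn⟩ = n) ∧
      (∀ ht : O.tX ∈ B, ψ ⟨O.tX, ht⟩ = t) ∧
      (∀ x : L, ∀ hx : O.φ x ∈ B, (∃ k, x ^ 2 ^ k = 1) → ψ ⟨O.φ x, hx⟩ = e x) ∧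
      ∀ b, ∃ k, ψ b ^ 2 ^ k = 1 := by
  have hker : (QuotientGroup.mk' (ZZ Θ)).ker = ZZ Θ := QuotientGroup.ker_mk' _
  obtain ⟨ψ, h1, h2, h3⟩ := exists_lift (QuotientGroup.mk' (ZZ Θ)) (QuotientGroup.mk'_surjective _)
    (by
      intro z hz n
      rw [hker] at hz
      exact ZZ_comm hz)
    (by
      rw [hker]
      have h4 : Nat.card (ZZ Θ) ∣ Nat.card Θ := by
        have h5 : Nat.card (ZZ Θ) = Nat.card (Θ ⊓ NN Θ : Subgroup G) := by
          rw [← Nat.card_congr (subgroupOfEquivOfLe (inf_le_right : Θ ⊓ NN Θ ≤ NN Θ)).toEquiv]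
          congr 1
          rw [inf_subgroupOf_right]
        rw [h5]
        exact card_dvd_of_le inf_le_left
      exact O.core.odd.of_dvd_nat h4) B hB
  refine ⟨(NN Θ).subtype.comp ψ, ?_, ?_, ?_, ?_, ?_, ?_, ?_⟩
  · intro a b hab
    have h4 : ψ a = ψ b := Subtype.ext hab
    apply Subtype.ext
    rw [← h1 a, ← h1 b, h4]
  · intro b x hx
    exact mem_NN.1 (ψ b).2 x hx
  · intro b
    exact ⟨(ψ b).2, h1 b⟩
  · intro n hn hk
    exact congrArg Subtype.val (h2 n hn hk)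
  · intro ht
    have := h2 ⟨t, O.t_mem_N⟩ ht ⟨1, Subtype.ext (by
      show t ^ 2 ^ 1 = 1
      rw [pow_one, pow_two, O.t_sq])⟩
    exact congrArg Subtype.val this
  · intro x hx hk
    obtain ⟨k, hk⟩ := hk
    have := h2 (O.eN x) hx ⟨k, by rw [← map_pow, hk, map_one]⟩
    exact congrArg Subtype.val this
  · intro b
    obtain ⟨k, hk⟩ := h3 b
    exact ⟨k, congrArg Subtype.val hk⟩

end Cfsg.Agent.GTwoFour.Lift
end

-- part: GTwoFour/EndG
section
/-!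
# The end of the rank one case of S1751: transfer to `N_G(R)`

`R` is the 2-group of order `2^20` (`IfaceR`), seen in `G` (it centralises the core `D = O(C_G(t))`),
`J = Z(R)` has order 16.  Every extremal conjugate `u` of `t` in `N_G(R)` with `|C_J(u)| ≤ 4` is conjugate
to `t` in `N_G(R)`.  bb R14 #6302.
-/

set_option autoImplicit false
set_option linter.unusedSectionVars false

namespace Cfsg.Agent.GTwoFour.EndG

open Subgroup
open scoped commutatorElement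

variable {G : Type*} [Group G]

/-- The situation in `G`. -/
structure Hyp (A P Q1 U Z D J R : Subgroup G) (t : G) : Prop where
  t_sq : t * t = 1
  P_le : P ≤ A
  U_le : U ≤ P
  Q1_le : Q1 ≤ U
  Z_le : Z ≤ Q1
  comm_A : ∀ a ∈ A, a * t = t * a
  -- facts on `A`
  cent_Z : ∀ a ∈ A, (∀ z ∈ Z, a * z = z * a) → a ∈ P
  P_Z : ∀ p ∈ P, ∀ z ∈ Z, p * z = z * p
  norm_Q1 : ∀ p ∈ P, ∀ q ∈ Q1, p * q * p⁻¹ ∈ Q1
  core_P : ∀ N : Subgroup G, N ≤ P → (∀ p ∈ P, ∀ x ∈ N, p * x * p⁻¹ ∈ N) → IsPGroup 2 N → N ≤ Q1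
  comm_Q1 : ∀ q ∈ Q1, ∀ q' ∈ Q1, ⁅q, q'⁆ ∈ Z
  cent_Q1Z : ∀ p ∈ P, (∀ q ∈ Q1, ⁅p, q⁆ ∈ Z) → p ∈ Q1
  center_Q1 : ∀ q ∈ Q1, (∀ q' ∈ Q1, q * q' = q' * q) → q ∈ Z
  full_Q1 : ∀ b ∈ Q1, b ∉ Z → ∀ z ∈ Z, ∃ q ∈ Q1, ⁅b, q⁆ = z
  cent_U : ∀ u ∈ U, u ∉ Q1 → ∀ C : Subgroup G, C ≤ Q1 → (∀ q ∈ C, ⁅u, q⁆ ∈ Z) → Nat.card C < 256
  gen : ∀ K : Subgroup G, (∀ q ∈ Q1, IsConj t (t * q) → q ∈ K) → Q1 ≤ K
  card_Z : Nat.card Z = 4
  card_Q1 : Nat.card Q1 = 2 ^ 10
  card_U : Nat.card U = 2 ^ 12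
  odd_A : Odd (U.relIndex A)
  -- the centralizer of `t`
  D_A : ∀ d ∈ D, ∀ a ∈ A, d * a = a * d
  D_t : ∀ d ∈ D, d * t = t * d
  D_odd : Odd (Nat.card D)
  A_norm : ∀ c, c * t = t * c → ∀ a ∈ A, c * a * c⁻¹ ∈ A
  cent : ∀ g, g * t = t * g → (∀ z ∈ Z, g * z = z * g) →
    ∃ p ∈ P, ∃ d ∈ D, g = p * d ∨ g = t * (p * d)
  card_C : ∀ X : Subgroup G, IsPGroup 2 X → (∀ x ∈ X, x * t = t * x) → Nat.card X < 2 ^ 16
  -- the grown group
  J_le : J ≤ R
  Z_le_J : Z ≤ J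
  Q1_le_R : Q1 ≤ R
  card_R : Nat.card R = 2 ^ 20
  card_J : Nat.card J = 16
  J_sq : ∀ w ∈ J, w * w = 1
  J_comm : ∀ r ∈ R, ∀ w ∈ J, r * w = w * r
  J_t : ∀ w ∈ J, ⁅w, t⁆ ∈ Z
  J_onto : ∀ z ∈ Z, ∃ w ∈ J, ⁅w, t⁆ = z
  R_D : ∀ r ∈ R, ∀ d ∈ D, r * d = d * r
  R_comm : ∀ r ∈ R, ∀ r' ∈ R, ⁅r, r'⁆ ∈ J
  R_sq : ∀ r ∈ R, r * r ∈ J
  R_t : ∀ r ∈ R, ∃ q ∈ Q1, ∃ w ∈ J, ⁅r, t⁆ = q * w
  R_onto : ∀ q ∈ Q1, ∃ r ∈ R, ∃ w ∈ J, ⁅r, t⁆ = q * w
  R_inter : ∀ q ∈ Q1, q ∈ J → q ∈ Z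
  R_center : ∀ r ∈ R, (∀ s ∈ R, r * s = s * r) → r ∈ J

/-! ## general lemmas -/

theorem card_le_of_fib [Finite G] {X R : Subgroup G} (hXR : X ≤ R) {β : Type*} [Finite β] (f : R → β)
    (hf : ∀ s s' : R, f s = f s' → (s : G)⁻¹ * s' ∈ X) : Nat.card R ≤ Nat.card X * Nat.card β := by
  have h1 : Nat.card (X.subgroupOf R) = Nat.card X := Nat.card_congr (subgroupOfEquivOfLe hXR).toEquiv
  have h2 := Subgroup.card_mul_index (X.subgroupOf R)
  rw [h1] at h2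
  rw [← h2]
  apply Nat.mul_le_mul_left
  rw [Subgroup.index]
  -- injection of the quotient into `β`
  let g : R ⧸ X.subgroupOf R → β := fun q => f q.out
  apply Nat.card_le_card_of_injective g
  intro a b hab
  have h3 := hf _ _ hab
  have h4 : (a.out : R)⁻¹ * b.out ∈ X.subgroupOf R := by
    rw [mem_subgroupOf]
    simpa using h3
  rw [← QuotientGroup.eq] at h4
  rw [QuotientGroup.out_eq', QuotientGroup.out_eq'] at h4
  exact h4

theorem pow_two_pow {x : G} {m n : ℕ} (h : x ^ 2 ^ m = 1) (hmn : m ≤ n) : x ^ 2 ^ n = 1 := by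
  obtain ⟨k, rfl⟩ := Nat.exists_eq_add_of_le hmn
  rw [pow_add, pow_mul, h, one_pow]

/-- `d` of odd order, `b`, `bd` of 2-power order, `b d = d b`: `d = 1` -/
theorem eq_one_of_mul [Finite G] {D : Subgroup G} (hD : Odd (Nat.card D)) {b d : G} (hd : d ∈ D)
    (hbd : b * d = d * b) (hb : ∃ k, b ^ 2 ^ k = 1) (hx : ∃ k, (b * d) ^ 2 ^ k = 1) : d = 1 := by
  obtain ⟨k, hk⟩ := hb
  obtain ⟨l, hl⟩ := hx
  have h1 := pow_two_pow hk (le_max_left k l)
  have h2 := pow_two_pow hl (le_max_right k l)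
  have h3 : (b * d) ^ 2 ^ max k l = b ^ 2 ^ max k l * d ^ 2 ^ max k l :=
    (Commute.mul_pow (show Commute b d from hbd) _)
  rw [h2, h1, one_mul] at h3
  have h4 : orderOf d ∣ 2 ^ max k l := orderOf_dvd_of_pow_eq_one h3.symm
  have h5 : orderOf d ∣ Nat.card D := by
    have := orderOf_dvd_natCard (⟨d, hd⟩ : D)
    rwa [Subgroup.orderOf_mk] at this
  have h6 : Nat.Coprime (2 ^ max k l) (Nat.card D) :=
    Nat.Coprime.pow_left _ (Nat.coprime_two_left.2 hD)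
  exact orderOf_eq_one_iff.1 (Nat.eq_one_of_dvd_coprimes h6 h4 h5)

theorem exists_pow {X : Subgroup G} (hX : IsPGroup 2 X) {x : G} (hx : x ∈ X) : ∃ k, x ^ 2 ^ k = 1 := by
  obtain ⟨k, hk⟩ := hX ⟨x, hx⟩
  exact ⟨k, by simpa using congrArg Subtype.val hk⟩

theorem isPGroup_of_card {X : Subgroup G} {n : ℕ} (h : Nat.card X = 2 ^ n) : IsPGroup 2 X :=
  IsPGroup.of_card h

theorem isPGroup_map {X : Subgroup G} (hX : IsPGroup 2 X) (g : G) :
    IsPGroup 2 (X.map (MulAut.conj g).toMonoidHom) := hX.map _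

theorem mem_map_conj {X : Subgroup G} {g x : G} :
    x ∈ X.map (MulAut.conj g).toMonoidHom ↔ g⁻¹ * x * g ∈ X := by
  rw [mem_map_equiv, MulAut.conj_symm_apply]

theorem card_map_conj (X : Subgroup G) (g : G) :
    Nat.card (X.map (MulAut.conj g).toMonoidHom) = Nat.card X :=
  Nat.card_congr (X.equivMapOfInjective _ (MulAut.conj g).injective).toEquiv.symm

theorem conj_comm (g a b : G) : ⁅g * a * g⁻¹, g * b * g⁻¹⁆ = g * ⁅a, b⁆ * g⁻¹ := by
  simp only [commutatorElement_def]; group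

theorem conj_comm' (g a b : G) : ⁅g⁻¹ * a * g, g⁻¹ * b * g⁆ = g⁻¹ * ⁅a, b⁆ * g := by
  simp only [commutatorElement_def]; group

/-- a 2-group `U` normalising `N` of even order fixes a nontrivial element of `N` -/
theorem exists_fix [Finite G] {U N : Subgroup G} (hU : IsPGroup 2 U)
    (hn : ∀ u ∈ U, ∀ n ∈ N, u * n * u⁻¹ ∈ N) (hN : 2 ∣ Nat.card N) :
    ∃ v ∈ N, v ≠ 1 ∧ ∀ u ∈ U, u * v * u⁻¹ = v := by
  have : Fact (Nat.Prime 2) := ⟨Nat.prime_two⟩
  let act : MulAction U N :=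
    { smul := fun u n => ⟨(u : G) * n * (u : G)⁻¹, hn u u.2 n n.2⟩
      one_smul := fun n => Subtype.ext (by
        show (1 : G) * n * (1 : G)⁻¹ = n
        group)
      mul_smul := fun a b n => Subtype.ext (by
        show ((a : G) * b) * n * ((a : G) * b)⁻¹ = (a : G) * ((b : G) * n * (b : G)⁻¹) * (a : G)⁻¹
        group) }
  have hone : (1 : N) ∈ MulAction.fixedPoints U N := by
    intro u
    apply Subtype.ext
    show (u : G) * 1 * (u : G)⁻¹ = 1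
    group
  obtain ⟨v, hv, hv1⟩ := hU.exists_fixed_point_of_prime_dvd_card_of_fixed_point N hN hone
  refine ⟨v, v.2, fun h => hv1 (Subtype.ext h.symm), ?_⟩
  intro u hu
  exact congrArg Subtype.val (hv ⟨u, hu⟩)

/-- a 2-subgroup `U` of `C` is conjugate into a subgroup of odd index -/
theorem exists_conj_le [Finite G] {U K C : Subgroup G} (hU : IsPGroup 2 U) (hUC : U ≤ C)
    (hodd : Odd (K.relIndex C)) : ∃ c ∈ C, ∀ u ∈ U, c⁻¹ * u * c ∈ K := by
  have : Fact (Nat.Prime 2) := ⟨Nat.prime_two⟩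
  let act : MulAction U (C ⧸ K.subgroupOf C) := MulAction.compHom _ (inclusion hUC)
  have h1 : ¬ 2 ∣ Nat.card (C ⧸ K.subgroupOf C) := by
    change ¬ 2 ∣ K.relIndex C
    rw [Nat.two_dvd_ne_zero]
    exact Nat.odd_iff.1 hodd
  obtain ⟨q, hq⟩ := hU.nonempty_fixed_point_of_prime_not_dvd_card _ h1
  obtain ⟨c, rfl⟩ := QuotientGroup.mk_surjective q
  refine ⟨c, c.2, ?_⟩
  intro u hu
  have h2 : (QuotientGroup.mk (inclusion hUC ⟨u, hu⟩ * c) : C ⧸ K.subgroupOf C) = QuotientGroup.mk c :=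
    hq ⟨u, hu⟩
  rw [QuotientGroup.eq] at h2
  have h3 := K.inv_mem (mem_subgroupOf.1 h2)
  have : (((inclusion hUC ⟨u, hu⟩ * c)⁻¹ * c : C) : G)⁻¹ = (c : G)⁻¹ * u * c := by
    simp [mul_assoc]
  rwa [this] at h3

theorem le_of_odd [Finite G] {U M A : Subgroup G} (hUM : U ≤ M) (hMA : M ≤ A) (hM : IsPGroup 2 M)
    (hodd : Odd (U.relIndex A)) : M ≤ U := by
  have h1 : U.relIndex M * M.relIndex A = U.relIndex A := Subgroup.relIndex_mul_relIndex U M A hUM hMA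
  have h2 : Odd (U.relIndex M) := by
    rw [← h1] at hodd
    exact (Nat.odd_mul.1 hodd).1
  obtain ⟨n, hn⟩ := hM.exists_card_eq
  have h3 : U.relIndex M ∣ 2 ^ n := by
    rw [← hn]
    exact Subgroup.index_dvd_card _
  obtain ⟨k, _, hk⟩ := (Nat.dvd_prime_pow Nat.prime_two).1 h3
  have h4 : U.relIndex M = 1 := by
    rcases Nat.eq_zero_or_pos k with rfl | hk0
    · simpa using hk
    · exfalso
      rw [hk] at h2
      have : Even (2 ^ k) := (Nat.even_pow.2 ⟨even_two, hk0.ne'⟩)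
      exact (Nat.not_even_iff_odd.2 h2) this
  exact Subgroup.relIndex_eq_one.1 h4

/-- two commuting involutory conditions -/
theorem Tc {t : G} (ht : t * t = 1) (s : G) : t * ⁅s, t⁆ * t⁻¹ = ⁅s, t⁆⁻¹ := by
  have hi : t⁻¹ = t := inv_eq_of_mul_eq_one_right ht
  calc t * ⁅s, t⁆ * t⁻¹ = t * s * t * s⁻¹ * (t⁻¹ * t⁻¹) := by rw [commutatorElement_def]; group
    _ = t * s * t * s⁻¹ := by
        have : t⁻¹ * t⁻¹ = 1 := by rw [hi, ht]
        rw [this, mul_one]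
    _ = ⁅s, t⁆⁻¹ := by
        rw [commutatorElement_def, mul_inv_rev, mul_inv_rev, mul_inv_rev, inv_inv, inv_inv, hi]
        group

theorem mem_fix {X : Subgroup G} {t x : G} :
    x ∈ (X ⊓ centralizer {t} : Subgroup G) ↔ x ∈ X ∧ x * t = t * x := by
  rw [mem_inf, mem_centralizer_singleton_iff]

namespace Hyp

variable {A P Q1 U Z D J R : Subgroup G} {t : G}

variable (h : Hyp A P Q1 U Z D J R t)
include h

theorem ti : t⁻¹ = t := inv_eq_of_mul_eq_one_right h.t_sq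

theorem tP {p : G} (hp : p ∈ P) : p * t = t * p := h.comm_A p (h.P_le hp)

theorem Q1_leP : Q1 ≤ P := h.Q1_le.trans h.U_le

theorem Z_leP : Z ≤ P := h.Z_le.trans h.Q1_leP

theorem tQ {q : G} (hq : q ∈ Q1) : q * t = t * q := h.tP (h.Q1_leP hq)

theorem DP {d p : G} (hd : d ∈ D) (hp : p ∈ P) : d * p = p * d := h.D_A d hd p (h.P_le hp)

theorem R_two : IsPGroup 2 R := isPGroup_of_card h.card_R

/-- `Z ≠ 1` -/
theorem exists_z : ∃ z ∈ Z, z ≠ 1 := by
  by_contra hne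
  push Not at hne
  have : Z = ⊥ := (Subgroup.eq_bot_iff_forall Z).2 hne
  have h1 := h.card_Z
  rw [this] at h1
  simp at h1

theorem t_notMem_R : t ∉ R := by
  intro ht
  obtain ⟨z, hz, hz1⟩ := h.exists_z
  obtain ⟨w, hw, e⟩ := h.J_onto z hz
  apply hz1
  rw [← e, commutatorElement_def, ← h.J_comm t ht w hw]
  group

/-- `J` is not centralised by `t p`, `p ∈ Q1` -/
theorem not_cent {q : G} (hq : ∀ w ∈ J, q * w = w * q) (hc : ∀ w ∈ J, t * q * w = w * (t * q)) : False := by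
  obtain ⟨z, hz, hz1⟩ := h.exists_z
  obtain ⟨w, hw, e⟩ := h.J_onto z hz
  apply hz1
  have h1 : w * t = t * w := by
    have := hc w hw
    have h2 : w * t * q = t * w * q := by
      calc w * t * q = w * (t * q) := by group
        _ = t * q * w := this.symm
        _ = t * (q * w) := by group
        _ = t * w * q := by rw [hq w hw]; group
    exact mul_right_cancel h2
  rw [← e, commutatorElement_def, h1]
  group

theorem conj_t {w : G} (hw : w ∈ J) : w * t * w⁻¹ = t * ⁅w, t⁆ := by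
  have h1 := h.J_t w hw
  have h2 := h.tQ (h.Z_le h1)
  rw [← h2, commutatorElement_def]
  group

/-- `t z` is conjugate to `t` -/
theorem conj_tz {z : G} (hz : z ∈ Z) : IsConj t (t * z) := by
  obtain ⟨w, hw, e⟩ := h.J_onto z hz
  rw [isConj_iff]
  exact ⟨w, by rw [h.conj_t hw, e]⟩

/-- elements of `C(t) ∩ C(Q1)` -/
theorem cent_Q1 {c : G} (hct : c * t = t * c) (hcQ : ∀ q ∈ Q1, c * q = q * c) :
    ∃ z ∈ Z, ∃ d ∈ D, c = z * d ∨ c = t * (z * d) := by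
  obtain ⟨p, hp, d, hd, e⟩ := h.cent c hct (fun z hz => hcQ z (h.Z_le hz))
  have h1 : ∀ q ∈ Q1, p * q = q * p := by
    intro q hq
    have hdq := h.DP hd (h.Q1_leP hq)
    have htq := h.tQ hq
    have h2 := hcQ q hq
    rcases e with e | e
    · rw [e] at h2
      have h3 : p * q * d = q * p * d := by
        calc p * q * d = p * (q * d) := by group
          _ = p * d * q := by rw [← hdq]; group
          _ = q * (p * d) := h2
          _ = q * p * d := by group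
      exact mul_right_cancel h3
    · rw [e] at h2
      have h3 : t * (p * q * d) = t * (q * p * d) := by
        calc t * (p * q * d) = t * p * (q * d) := by group
          _ = t * (p * d) * q := by rw [← hdq]; group
          _ = q * (t * (p * d)) := h2
          _ = q * t * (p * d) := by group
          _ = t * (q * p * d) := by rw [htq]; group
      exact mul_right_cancel (mul_left_cancel h3)
  have h2 : p ∈ Q1 := by
    apply h.cent_Q1Z p hp
    intro q hq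
    rw [commutatorElement_def, h1 q hq]
    have : q * p * p⁻¹ * q⁻¹ = 1 := by group
    rw [this]
    exact Z.one_mem
  exact ⟨p, h.center_Q1 p h2 h1, d, hd, e⟩

/-- **uniqueness of `R`** -/
theorem le_R [Finite G] {X : Subgroup G} (hX : IsPGroup 2 X) (h1 : ∀ x ∈ X, ∀ w ∈ J, x * w = w * x)
    (h2 : ∀ x ∈ X, ∀ q ∈ Q1, ⁅x, q⁆ ∈ J) (h3 : ∀ x ∈ X, ∃ q ∈ Q1, ∃ w ∈ J, ⁅x, t⁆ = q * w) : X ≤ R := by
  intro x hx
  obtain ⟨q, hq, w, hw, e1⟩ := h3 x hx
  obtain ⟨r, hr, w', hw', e2⟩ := h.R_onto q hq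
  -- `y = r⁻¹ x` moves `t` to `t w3`
  have ex : x * t * x⁻¹ = q * w * t := by
    rw [← e1, commutatorElement_def]; group
  have er : r * t * r⁻¹ = q * w' * t := by
    rw [← e2, commutatorElement_def]; group
  have hJt : ∀ w ∈ J, t * w * t⁻¹ ∈ J := by
    intro w hw
    have hh := J.mul_mem (J.inv_mem (h.Z_le_J (h.J_t w hw))) hw
    have : ⁅w, t⁆⁻¹ * w = t * w * t⁻¹ := by rw [commutatorElement_def]; group
    rw [this] at hh
    exact hh
  have hw2 : w'⁻¹ * w ∈ J := J.mul_mem (J.inv_mem hw') hw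
  have hw3 : t * (w'⁻¹ * w) * t⁻¹ ∈ J := hJt _ hw2
  rw [h.ti] at hw3
  -- x t x⁻¹ = (r t r⁻¹) (t w'' t)
  have e3 : x * t * x⁻¹ = r * t * r⁻¹ * (t * (w'⁻¹ * w) * t) := by
    rw [ex, er]
    calc q * w * t = q * w' * (w'⁻¹ * w) * t := by group
      _ = q * w' * (t * t) * (w'⁻¹ * w) * t := by rw [h.t_sq]; group
      _ = q * w' * t * (t * (w'⁻¹ * w) * t) := by group
  set w3 := t * (w'⁻¹ * w) * t with hw3def
  have e4 : r⁻¹ * x * t * (r⁻¹ * x)⁻¹ = t * w3 := by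
    calc r⁻¹ * x * t * (r⁻¹ * x)⁻¹ = r⁻¹ * (x * t * x⁻¹) * r := by group
      _ = r⁻¹ * (r * t * r⁻¹ * w3) * r := by rw [e3]
      _ = t * (r⁻¹ * (w3 * r)) := by group
      _ = t * w3 := by rw [← h.J_comm r hr w3 hw3]; group
  have e5 : t * w3 * (t * w3) = 1 := by
    rw [← e4]
    calc r⁻¹ * x * t * (r⁻¹ * x)⁻¹ * (r⁻¹ * x * t * (r⁻¹ * x)⁻¹) = r⁻¹ * x * (t * t) * (r⁻¹ * x)⁻¹ := by
          group
      _ = 1 := by rw [h.t_sq]; group
  have e6 : w3 * t = t * w3 := by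
    have h4 : w3⁻¹ = w3 := inv_eq_of_mul_eq_one_right (h.J_sq _ hw3)
    have h5 : (t * w3)⁻¹ = t * w3 := inv_eq_of_mul_eq_one_right e5
    rw [mul_inv_rev, h4, h.ti] at h5
    exact h5
  -- w3 ∈ Z
  have h6 : w3 ∈ Z := by
    obtain ⟨z, hz, d, hd, e⟩ := h.cent_Q1 e6 (fun q hq => (h.J_comm q (h.Q1_le_R hq) _ hw3).symm)
    have hdz := h.DP hd (h.Z_leP hz)
    rcases e with e | e
    · have : d = 1 := by
        apply eq_one_of_mul h.D_odd hd hdz.symm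
          (exists_pow h.R_two (h.Q1_le_R (h.Z_le hz)))
        rw [← e]
        exact exists_pow h.R_two (h.J_le hw3)
      rw [e, this, mul_one]; exact hz
    · exfalso
      have hdt := h.D_t d hd
      have htz := h.tQ (h.Z_le hz)
      have : d = 1 := by
        apply eq_one_of_mul h.D_odd hd (b := t * z)
        · calc t * z * d = t * (z * d) := by group
            _ = t * d * z := by rw [← hdz]; group
            _ = d * (t * z) := by rw [← hdt]; group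
        · refine ⟨1, ?_⟩
          obtain ⟨wz, hwz, ez⟩ := h.J_onto z hz
          have h7 : z * z = 1 := h.J_sq z (h.Z_le_J hz)
          calc (t * z) ^ 2 ^ 1 = t * z * (t * z) := by simp [pow_two]
            _ = t * (z * t) * z := by group
            _ = t * t * (z * z) := by rw [htz]; group
            _ = 1 := by rw [h.t_sq, h7, one_mul]
        · have : t * z * d = w3 := by rw [e]; group
          rw [this]
          exact exists_pow h.R_two (h.J_le hw3)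
      rw [this, mul_one] at e
      apply h.t_notMem_R
      have h8 : t = w3 * z⁻¹ := by rw [e]; group
      rw [h8]
      exact R.mul_mem (h.J_le hw3) (R.inv_mem (h.J_le (h.Z_le_J hz)))
  obtain ⟨w4, hw4, e7⟩ := h.J_onto w3 h6
  have e8 : w4 * t * w4⁻¹ = t * w3 := by rw [h.conj_t hw4, e7]
  set c := w4⁻¹ * (r⁻¹ * x) with hc
  have hct : c * t = t * c := by
    have : c * t * c⁻¹ = t := by
      calc c * t * c⁻¹ = w4⁻¹ * (r⁻¹ * x * t * (r⁻¹ * x)⁻¹) * w4 := by rw [hc]; group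
        _ = w4⁻¹ * (w4 * t * w4⁻¹) * w4 := by rw [e4, e8]
        _ = t := by group
    calc c * t = c * t * c⁻¹ * c := by group
      _ = t * c := by rw [this]
  have hcJ : ∀ w ∈ J, c * w = w * c := by
    intro w hw
    have a1 := h1 x hx w hw
    have a2 := h.J_comm r⁻¹ (R.inv_mem hr) w hw
    have a3 := h.J_comm w4⁻¹ (R.inv_mem (h.J_le hw4)) w hw
    calc c * w = w4⁻¹ * (r⁻¹ * (x * w)) := by rw [hc]; group
      _ = w4⁻¹ * (r⁻¹ * w) * x := by rw [a1]; group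
      _ = w4⁻¹ * w * r⁻¹ * x := by rw [a2]; group
      _ = w * c := by rw [a3, hc]; group
  obtain ⟨p, hp, d, hd, e⟩ := h.cent c hct (fun z hz => hcJ z (h.Z_le_J hz))
  -- commutators with Q1
  have hcQ : ∀ q ∈ Q1, ⁅c, q⁆ ∈ J := by
    intro q hq
    have a1 := h2 x hx q hq
    have a2 := h.R_comm r⁻¹ (R.inv_mem hr) q (h.Q1_le_R hq)
    have hxq : x * q * x⁻¹ = ⁅x, q⁆ * q := by rw [commutatorElement_def]; group
    have hrq : r⁻¹ * q * r = ⁅r⁻¹, q⁆ * q := by rw [commutatorElement_def]; group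
    have a3 := h.J_comm r⁻¹ (R.inv_mem hr) _ a1
    have a4 := h.J_comm w4⁻¹ (R.inv_mem (h.J_le hw4)) _ a1
    have a5 := h.J_comm w4⁻¹ (R.inv_mem (h.J_le hw4)) _ a2
    have a6 := h.J_comm q (h.Q1_le_R hq) w4⁻¹ (J.inv_mem hw4)
    have : ⁅c, q⁆ = ⁅x, q⁆ * ⁅r⁻¹, q⁆ := by
      calc ⁅c, q⁆ = w4⁻¹ * (r⁻¹ * (x * q * x⁻¹) * r) * w4 * q⁻¹ := by
            rw [commutatorElement_def, hc]; group
        _ = w4⁻¹ * (r⁻¹ * ⁅x, q⁆ * q * r) * w4 * q⁻¹ := by rw [hxq]; group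
        _ = w4⁻¹ * (⁅x, q⁆ * (r⁻¹ * q * r)) * w4 * q⁻¹ := by rw [a3]; group
        _ = w4⁻¹ * ⁅x, q⁆ * ⁅r⁻¹, q⁆ * q * w4 * q⁻¹ := by rw [hrq]; group
        _ = ⁅x, q⁆ * (w4⁻¹ * ⁅r⁻¹, q⁆) * q * w4 * q⁻¹ := by rw [a4]; group
        _ = ⁅x, q⁆ * ⁅r⁻¹, q⁆ * (w4⁻¹ * q) * w4 * q⁻¹ := by rw [a5]; group
        _ = ⁅x, q⁆ * ⁅r⁻¹, q⁆ := by rw [← a6]; group
    rw [this]
    exact J.mul_mem a1 a2
  have hpQ : p ∈ Q1 := by
    apply h.cent_Q1Z p hp
    intro q hq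
    have hdq := h.DP hd (h.Q1_leP hq)
    have htq := h.tQ hq
    have a1 : ⁅c, q⁆ = ⁅p, q⁆ := by
      have hdq' : d * q * d⁻¹ = q := by rw [hdq]; group
      have htq' : ∀ y ∈ Q1, t * y * t⁻¹ = y := by
        intro y hy; rw [← h.tQ hy]; group
      rcases e with e | e
      · calc ⁅c, q⁆ = p * (d * q * d⁻¹) * p⁻¹ * q⁻¹ := by rw [commutatorElement_def, e]; group
          _ = ⁅p, q⁆ := by rw [hdq', commutatorElement_def]
      · calc ⁅c, q⁆ = t * (p * (d * q * d⁻¹) * p⁻¹) * t⁻¹ * q⁻¹ := by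
              rw [commutatorElement_def, e]; group
          _ = t * (p * q * p⁻¹) * t⁻¹ * q⁻¹ := by rw [hdq']
          _ = p * q * p⁻¹ * q⁻¹ := by rw [htq' _ (h.norm_Q1 p hp q hq)]
          _ = ⁅p, q⁆ := by rw [commutatorElement_def]
    have a2 := hcQ q hq
    rw [a1] at a2
    apply h.R_inter _ _ a2
    rw [commutatorElement_def]
    exact Q1.mul_mem (h.norm_Q1 p hp q hq) (Q1.inv_mem hq)
  -- the case `c = t p d` is impossible
  have e9 : c = p * d := by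
    rcases e with e | e
    · exact e
    · exfalso
      apply h.not_cent (q := p * d)
      · intro w hw
        have b1 := h.J_comm p (h.Q1_le_R hpQ) w hw
        have b2 := h.R_D w (h.J_le hw) d hd
        calc p * d * w = p * (d * w) := by group
          _ = p * w * d := by rw [← b2]; group
          _ = w * (p * d) := by rw [b1]; group
      · intro w hw
        have := hcJ w hw
        rw [e] at this
        exact this
  have hb : r * w4 * p ∈ R := R.mul_mem (R.mul_mem hr (h.J_le hw4)) (h.Q1_le_R hpQ)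
  have e10 : x = r * w4 * p * d := by
    have : x = r * (w4 * c) := by rw [hc]; group
    rw [this, e9]; group
  have : d = 1 := by
    apply eq_one_of_mul h.D_odd hd (h.R_D _ hb d hd) (exists_pow h.R_two hb)
    rw [← e10]
    exact exists_pow hX hx
  rw [e10, this, mul_one]
  exact hb

/-- **uniqueness of `J`** -/
theorem eq_J [Finite G] {X : Subgroup G} (hX : Nat.card X = 16)
    (hc : ∀ x ∈ X, ∀ y ∈ X, x * y = y * x) (h1 : ∀ x ∈ X, ∀ q ∈ Q1, x * q = q * x)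
    (h2 : ∀ x ∈ X, ⁅x, t⁆ ∈ Z) : X = J := by
  have hXp : IsPGroup 2 X := isPGroup_of_card (n := 4) (by rw [hX]; norm_num)
  -- every element of `X` is in `J` or `J t`
  have key : ∀ x ∈ X, x ∈ J ∨ x * t ∈ J := by
    intro x hx
    obtain ⟨w, hw, e⟩ := h.J_onto _ (h2 x hx)
    have hct : w⁻¹ * x * t = t * (w⁻¹ * x) := by
      have h3 : x * t * x⁻¹ * t⁻¹ = w * t * w⁻¹ * t⁻¹ := by
        rw [← commutatorElement_def, ← commutatorElement_def, e]
      have h4 : x * t * x⁻¹ = w * t * w⁻¹ := mul_right_cancel h3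
      calc w⁻¹ * x * t = w⁻¹ * (x * t * x⁻¹) * x := by group
        _ = t * (w⁻¹ * x) := by rw [h4]; group
    have hcQ : ∀ q ∈ Q1, w⁻¹ * x * q = q * (w⁻¹ * x) := by
      intro q hq
      have a1 := h1 x hx q hq
      have a2 := h.J_comm q (h.Q1_le_R hq) w⁻¹ (J.inv_mem hw)
      calc w⁻¹ * x * q = w⁻¹ * (x * q) := by group
        _ = w⁻¹ * q * x := by rw [a1]; group
        _ = q * (w⁻¹ * x) := by rw [← a2]; group
    obtain ⟨z, hz, d, hd, e2⟩ := h.cent_Q1 hct hcQ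
    have hdz := h.DP hd (h.Z_leP hz)
    have hdw := h.R_D w (h.J_le hw) d hd
    have hdt := h.D_t d hd
    have hwz : w * z ∈ J := J.mul_mem hw (h.Z_le_J hz)
    rcases e2 with e2 | e2
    · left
      have e3 : x = w * z * d := by
        have : x = w * (w⁻¹ * x) := by group
        rw [this, e2]; group
      have : d = 1 := by
        apply eq_one_of_mul h.D_odd hd (h.R_D _ (h.J_le hwz) d hd) (exists_pow h.R_two (h.J_le hwz))
        rw [← e3]
        exact exists_pow hXp hx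
      rw [e3, this, mul_one]; exact hwz
    · right
      have htz := h.tQ (h.Z_le hz)
      have e3 : x = w * z * t * d := by
        have : x = w * (w⁻¹ * x) := by group
        rw [this, e2]
        calc w * (t * (z * d)) = w * (t * z) * d := by group
          _ = w * z * t * d := by rw [← htz]; group
      have : d = 1 := by
        apply eq_one_of_mul h.D_odd hd (b := w * z * t)
        · calc w * z * t * d = w * z * (t * d) := by group
            _ = w * z * d * t := by rw [← hdt]; group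
            _ = d * (w * z * t) := by rw [h.R_D _ (h.J_le hwz) d hd]; group
        · -- `(w z t)^4 = 1`
          refine ⟨2, ?_⟩
          have hj := h.conj_t hwz
          have hz' := h.J_t _ hwz
          have htz' := h.tQ (h.Z_le hz')
          have hzz : ⁅w * z, t⁆ * ⁅w * z, t⁆ = 1 := h.J_sq _ (h.Z_le_J hz')
          have hww : w * z * (w * z) = 1 := h.J_sq _ hwz
          have hwi : (w * z)⁻¹ = w * z := inv_eq_of_mul_eq_one_right hww
          have h5 : w * z * t * (w * z * t) = ⁅w * z, t⁆ := by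
            rw [commutatorElement_def, h.ti, hwi]
            group
          calc (w * z * t) ^ 2 ^ 2 = (w * z * t * (w * z * t)) * (w * z * t * (w * z * t)) := by
                rw [show (2 : ℕ) ^ 2 = 2 + 2 from rfl, pow_add, pow_two]
            _ = 1 := by rw [h5, hzz]
        · rw [← e3]
          exact exists_pow hXp hx
      have e4 : x * t = w * z := by
        rw [e3, this, mul_one, mul_assoc, h.t_sq, mul_one]
      rw [e4]; exact hwz
  -- `C_J(t) = Z`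
  have hJt : ∀ w ∈ J, w * t = t * w → w ∈ Z := by
    intro w hw hwt
    obtain ⟨z, hz, d, hd, e⟩ := h.cent_Q1 hwt (fun q hq => (h.J_comm q (h.Q1_le_R hq) _ hw).symm)
    have hdz := h.DP hd (h.Z_leP hz)
    rcases e with e | e
    · have : d = 1 := by
        apply eq_one_of_mul h.D_odd hd hdz.symm
          (exists_pow h.R_two (h.Q1_le_R (h.Z_le hz)))
        rw [← e]
        exact exists_pow h.R_two (h.J_le hw)
      rw [e, this, mul_one]; exact hz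
    · exfalso
      apply h.not_cent (q := z * d)
      · intro w' hw'
        have b1 := h.J_comm z (h.Q1_le_R (h.Z_le hz)) w' hw'
        have b2 := h.R_D w' (h.J_le hw') d hd
        calc z * d * w' = z * (d * w') := by group
          _ = z * w' * d := by rw [← b2]; group
          _ = w' * (z * d) := by rw [b1]; group
      · intro w' hw'
        rw [← e]
        exact h.J_comm w (h.J_le hw) w' hw'
  have hle : X ≤ J := by
    by_contra hne
    obtain ⟨x, hx, hxJ⟩ := SetLike.not_le_iff_exists.1 hne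
    have hxt : x * t ∈ J := (key x hx).resolve_left hxJ
    -- `X ⊆ Z ∪ Z x`
    have h5 : ∀ y ∈ X, y ∈ J → y ∈ Z := by
      intro y hy hyJ
      apply hJt y hyJ
      have a1 := hc y hy x hx
      have a2 := h.J_comm y (h.J_le hyJ) _ hxt
      have : x * (y * t) = x * (t * y) := by
        calc x * (y * t) = (x * y) * t := by group
          _ = y * x * t := by rw [← a1]
          _ = y * (x * t) := by group
          _ = x * t * y := a2
          _ = x * (t * y) := by group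
      exact mul_left_cancel this
    have h6 : ∀ y ∈ X, y ∉ J → y * x⁻¹ ∈ Z := by
      intro y hy hyJ
      apply h5 _ (X.mul_mem hy (X.inv_mem hx))
      have hyt : y * t ∈ J := (key y hy).resolve_left hyJ
      have : y * x⁻¹ = y * t * (x * t)⁻¹ := by group
      rw [this]
      exact J.mul_mem hyt (J.inv_mem hxt)
    classical
    have h7 : Nat.card X ≤ Nat.card (Z ⊓ X : Subgroup G) * Nat.card Bool := by
      apply card_le_of_fib inf_le_right (fun y : X => decide ((y : G) ∈ J))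
      intro s s' hss
      have h8 : ((s : G) ∈ J) ↔ ((s' : G) ∈ J) := by simpa using hss
      refine ⟨?_, X.mul_mem (X.inv_mem s.2) s'.2⟩
      by_cases hs : (s : G) ∈ J
      · exact Z.mul_mem (Z.inv_mem (h5 _ s.2 hs)) (h5 _ s'.2 (h8.1 hs))
      · have b1 := h6 _ s.2 hs
        have b2 := h6 _ s'.2 (fun hh => hs (h8.2 hh))
        have b3 := Z.mul_mem (Z.inv_mem b1) b2
        have b4 : (s : G)⁻¹ * s' = x⁻¹ * (((s : G) * x⁻¹)⁻¹ * ((s' : G) * x⁻¹)) * x := by group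
        have b5 : (s : G)⁻¹ * s' = ((s : G) * x⁻¹)⁻¹ * ((s' : G) * x⁻¹) := by
          rw [b4]
          have b6 := h.Z_le b3
          have b7 := h1 x hx _ b6
          calc x⁻¹ * (((s : G) * x⁻¹)⁻¹ * ((s' : G) * x⁻¹)) * x
              = x⁻¹ * ((((s : G) * x⁻¹)⁻¹ * ((s' : G) * x⁻¹)) * x) := by group
            _ = _ := by rw [← b7]; group
        show (s : G)⁻¹ * s' ∈ Z
        rw [b5]; exact b3
    have h9 : Nat.card (Z ⊓ X : Subgroup G) ≤ Nat.card Z := Subgroup.card_le_of_le inf_le_left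
    rw [h.card_Z] at h9
    rw [hX] at h7
    have : Nat.card Bool = 2 := by simp
    rw [this] at h7
    omega
  exact Subgroup.eq_of_le_of_card_ge hle (by rw [h.card_J, hX])

/-- elements of `C(t)` normalising `Z` normalise `P` -/
theorem conj_P {c : G} (hct : c * t = t * c) (hcZ : ∀ z ∈ Z, c⁻¹ * z * c ∈ Z) {p : G} (hp : p ∈ P) :
    c * p * c⁻¹ ∈ P := by
  apply h.cent_Z _ (h.A_norm c hct p (h.P_le hp))
  intro z hz
  have h1 := h.P_Z p hp _ (hcZ z hz)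
  calc c * p * c⁻¹ * z = c * (p * (c⁻¹ * z * c)) * c⁻¹ := by group
    _ = z * (c * p * c⁻¹) := by rw [h1]; group

theorem conj_Q1 {c : G} (hct : c * t = t * c) (hcZ : ∀ z ∈ Z, c⁻¹ * z * c ∈ Z)
    (hcZ' : ∀ z ∈ Z, c * z * c⁻¹ ∈ Z) {q : G} (hq : q ∈ Q1) : c * q * c⁻¹ ∈ Q1 := by
  have hct' : c⁻¹ * t = t * c⁻¹ := by
    calc c⁻¹ * t = c⁻¹ * (t * c) * c⁻¹ := by group
      _ = t * c⁻¹ := by rw [← hct]; group
  have key : Q1.map (MulAut.conj c).toMonoidHom ≤ Q1 := by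
    apply h.core_P
    · intro x hx
      rw [mem_map_conj] at hx
      have := h.conj_P hct hcZ (h.Q1_leP hx)
      have e : c * (c⁻¹ * x * c) * c⁻¹ = x := by group
      rwa [e] at this
    · intro p hp x hx
      rw [mem_map_conj] at hx ⊢
      have h2 := h.conj_P hct' (c := c⁻¹) (by simpa using hcZ') hp
      have e : c⁻¹ * (p * x * p⁻¹) * c = c⁻¹ * p * c⁻¹⁻¹ * (c⁻¹ * x * c) * (c⁻¹ * p * c⁻¹⁻¹)⁻¹ := by
        group
      rw [e]
      exact h.norm_Q1 _ h2 _ hx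
    · exact isPGroup_map (isPGroup_of_card h.card_Q1) c
  apply key
  rw [mem_map_conj]
  have : c⁻¹ * (c * q * c⁻¹) * c = q := by group
  rw [this]; exact hq

/-- elements of `C(t)` normalising `Z` normalise `R` -/
theorem mem_normalizer [Finite G] {c : G} (hct : c * t = t * c) (hcZ : ∀ z ∈ Z, c⁻¹ * z * c ∈ Z)
    (hcZ' : ∀ z ∈ Z, c * z * c⁻¹ ∈ Z) : c ∈ normalizer (R : Set G) := by
  have hct' : c⁻¹ * t = t * c⁻¹ := by
    calc c⁻¹ * t = c⁻¹ * (t * c) * c⁻¹ := by group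
      _ = t * c⁻¹ := by rw [← hct]; group
  have hQ : ∀ q ∈ Q1, c * q * c⁻¹ ∈ Q1 := fun q hq => h.conj_Q1 hct hcZ hcZ' hq
  have hQ' : ∀ q ∈ Q1, c⁻¹ * q * c ∈ Q1 := by
    intro q hq
    have := h.conj_Q1 hct' (c := c⁻¹) (by simpa using hcZ') (by simpa using hcZ) hq
    simpa using this
  have ht1 : c⁻¹ * t * c = t := by rw [hct']; group
  have hJ : J.map (MulAut.conj c).toMonoidHom = J := by
    apply h.eq_J
    · rw [card_map_conj, h.card_J]
    · intro x hx y hy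
      rw [mem_map_conj] at hx hy
      have := h.J_comm _ (h.J_le hx) _ hy
      calc x * y = c * ((c⁻¹ * x * c) * (c⁻¹ * y * c)) * c⁻¹ := by group
        _ = y * x := by rw [this]; group
    · intro x hx q hq
      rw [mem_map_conj] at hx
      have := h.J_comm _ (h.Q1_le_R (hQ' q hq)) _ hx
      calc x * q = c * ((c⁻¹ * x * c) * (c⁻¹ * q * c)) * c⁻¹ := by group
        _ = q * x := by rw [← this]; group
    · intro x hx
      rw [mem_map_conj] at hx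
      have h1 := hcZ' _ (h.J_t _ hx)
      have h2 : c * ⁅c⁻¹ * x * c, t⁆ * c⁻¹ = ⁅x, t⁆ := by
        conv_lhs => rw [← ht1, conj_comm']
        group
      rwa [h2] at h1
  have hJ1 : ∀ w ∈ J, c * w * c⁻¹ ∈ J := by
    intro w hw
    rw [← hJ, mem_map_conj]
    have : c⁻¹ * (c * w * c⁻¹) * c = w := by group
    rw [this]; exact hw
  have hJ2 : ∀ w ∈ J, c⁻¹ * w * c ∈ J := by
    intro w hw
    rw [← hJ, mem_map_conj] at hw
    exact hw
  have hR : R.map (MulAut.conj c).toMonoidHom ≤ R := by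
    apply h.le_R (isPGroup_map h.R_two c)
    · intro x hx w hw
      rw [mem_map_conj] at hx
      have := h.J_comm _ hx _ (hJ2 w hw)
      calc x * w = c * ((c⁻¹ * x * c) * (c⁻¹ * w * c)) * c⁻¹ := by group
        _ = w * x := by rw [this]; group
    · intro x hx q hq
      rw [mem_map_conj] at hx
      have := hJ1 _ (h.R_comm _ hx _ (h.Q1_le_R (hQ' q hq)))
      rw [conj_comm'] at this
      have e : c * (c⁻¹ * ⁅x, q⁆ * c) * c⁻¹ = ⁅x, q⁆ := by group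
      rwa [e] at this
    · intro x hx
      rw [mem_map_conj] at hx
      obtain ⟨q, hq, w, hw, e⟩ := h.R_t _ hx
      refine ⟨_, hQ q hq, _, hJ1 w hw, ?_⟩
      have h2 : ⁅c⁻¹ * x * c, t⁆ = c⁻¹ * ⁅x, t⁆ * c := by
        conv_lhs => rw [← ht1, conj_comm']
      rw [h2] at e
      calc ⁅x, t⁆ = c * (c⁻¹ * ⁅x, t⁆ * c) * c⁻¹ := by group
        _ = c * q * c⁻¹ * (c * w * c⁻¹) := by rw [e]; group
  have hR' : R.map (MulAut.conj c).toMonoidHom = R :=
    Subgroup.eq_of_le_of_card_ge hR (by rw [card_map_conj])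
  rw [mem_normalizer_iff]
  intro r
  constructor
  · intro hr
    rw [← SetLike.mem_coe, SetLike.mem_coe] at *
    apply hR
    rw [mem_map_conj]
    have : c⁻¹ * (c * r * c⁻¹) * c = r := by group
    rw [this]; exact hr
  · intro hr
    rw [← hR', mem_map_conj] at hr
    have : c⁻¹ * (c * r * c⁻¹) * c = r := by group
    rwa [this] at hr

/-- `C_A(U) ≤ Z` -/
theorem center_U {a : G} (ha : a ∈ A) (hc : ∀ u ∈ U, a * u = u * a) : a ∈ Z := by
  have h1 : a ∈ P := h.cent_Z a ha (fun z hz => hc z (h.Q1_le (h.Z_le hz)))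
  have h2 : a ∈ Q1 := by
    apply h.cent_Q1Z a h1
    intro q hq
    have : ⁅a, q⁆ = 1 := by
      rw [commutatorElement_def, hc q (h.Q1_le hq)]; group
    rw [this]; exact Z.one_mem
  exact h.center_Q1 a h2 (fun q hq => hc q (h.Q1_le hq))

theorem U_two : IsPGroup 2 U := isPGroup_of_card h.card_U

/-- **the index of `C_{N(R)}(t)` in `C(t)` is odd** -/
theorem odd_index [Finite G] : Odd ((normalizer (R : Set G)).relIndex (centralizer {t})) := by
  have : Fact (Nat.Prime 2) := ⟨Nat.prime_two⟩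
  set C := centralizer ({t} : Set G) with hC
  have hCt : ∀ c ∈ C, c * t = t * c := by
    intro c hc
    rw [hC, mem_centralizer_singleton_iff] at hc
    exact hc
  have hUC : U ≤ C := by
    intro u hu
    rw [hC, mem_centralizer_singleton_iff]
    exact h.tP (h.U_le hu)
  have hU' : IsPGroup 2 (U.subgroupOf C) := by
    apply IsPGroup.of_card (n := 12)
    rw [← h.card_U]
    exact Nat.card_congr (subgroupOfEquivOfLe hUC).toEquiv
  obtain ⟨T, hT⟩ := hU'.exists_le_sylow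
  set T1 : Subgroup G := (T : Subgroup C).map C.subtype with hT1
  have hT1C : T1 ≤ C := by
    rintro x hx
    obtain ⟨y, _, rfl⟩ := mem_map.1 hx
    exact y.2
  have hUT : U ≤ T1 := by
    intro u hu
    exact mem_map.2 ⟨⟨u, hUC hu⟩, hT (by rw [mem_subgroupOf]; exact hu), rfl⟩
  have hT1p : IsPGroup 2 T1 := T.isPGroup'.map _
  have hTA : T1 ⊓ A ≤ U :=
    le_of_odd (le_inf hUT (h.U_le.trans h.P_le)) inf_le_right
      (hT1p.to_le inf_le_left) h.odd_A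
  have hTn : T1 ≤ normalizer (R : Set G) := by
    have key : ∀ c ∈ T1, ∀ z ∈ Z, c * z * c⁻¹ ∈ Z := by
      intro c hc z hz
      have hzU : z ∈ U := h.Q1_le (h.Z_le hz)
      have hcU : ∀ c ∈ T1, ∀ u ∈ U, c * u * c⁻¹ ∈ U := by
        intro c hc u hu
        apply hTA
        exact ⟨T1.mul_mem (T1.mul_mem hc (hUT hu)) (T1.inv_mem hc),
          h.A_norm c (hCt c (hT1C hc)) u (h.P_le (h.U_le hu))⟩
      apply h.center_U (h.A_norm c (hCt c (hT1C hc)) z (h.P_le (h.Z_leP hz)))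
      intro u hu
      have h2 := hcU c⁻¹ (T1.inv_mem hc) u hu
      rw [inv_inv] at h2
      have h3 := h.P_Z _ (h.U_le h2) z hz
      calc c * z * c⁻¹ * u = c * (z * (c⁻¹ * u * c)) * c⁻¹ := by group
        _ = u * (c * z * c⁻¹) := by rw [← h3]; group
    intro c hc
    apply h.mem_normalizer (hCt c (hT1C hc))
    · intro z hz
      have := key c⁻¹ (T1.inv_mem hc) z hz
      rwa [inv_inv] at this
    · exact key c hc
  have h1 : (normalizer (R : Set G)).relIndex C ∣ T1.relIndex C :=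
    Subgroup.relIndex_dvd_of_le_left C hTn
  have h2 : T1.relIndex C = (T : Subgroup C).index := by
    rw [Subgroup.relIndex]
    congr 1
    ext x
    rw [mem_subgroupOf, hT1, mem_map]
    constructor
    · rintro ⟨y, hy, e⟩
      have : y = x := Subtype.ext e
      rwa [← this]
    · intro hx
      exact ⟨x, hx, rfl⟩
  have h3 : Odd (T : Subgroup C).index := by
    rw [← Nat.not_even_iff_odd]
    intro he
    exact T.not_dvd_index he.two_dvd
  rw [h2] at h1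
  exact Odd.of_dvd_nat h3 h1

/-- **no conjugate of `t` lies in `R`** -/
theorem no_conj [Finite G] {r : G} (hr : r ∈ R) : ¬ IsConj t r := by
  intro hc
  obtain ⟨g, hg⟩ := isConj_iff.1 hc
  -- `C_R(r)` has order at least `2^16`
  have h1 : Nat.card R ≤ Nat.card (R ⊓ centralizer {r} : Subgroup G) * Nat.card J := by
    apply card_le_of_fib inf_le_left (fun s : R => (⟨⁅(s : G), r⁆, h.R_comm s s.2 r hr⟩ : J))
    intro s s' e
    have e1 : (s : G) * r * (s : G)⁻¹ * r⁻¹ = s' * r * (s' : G)⁻¹ * r⁻¹ := by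
      have := congrArg Subtype.val e
      simpa only [commutatorElement_def] using this
    have e2 : (s : G) * r * (s : G)⁻¹ = s' * r * (s' : G)⁻¹ := mul_right_cancel e1
    refine ⟨R.mul_mem (R.inv_mem s.2) s'.2, ?_⟩
    show (s : G)⁻¹ * s' ∈ centralizer {r}
    rw [mem_centralizer_singleton_iff]
    calc (s : G)⁻¹ * s' * r = (s : G)⁻¹ * (s' * r * (s' : G)⁻¹) * s' := by group
      _ = r * ((s : G)⁻¹ * s') := by rw [← e2]; group
  rw [h.card_R, h.card_J] at h1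
  set X := (R ⊓ centralizer {r} : Subgroup G) with hX
  have h2 : IsPGroup 2 (X.map (MulAut.conj g⁻¹).toMonoidHom) :=
    isPGroup_map (h.R_two.to_le inf_le_left) _
  have h3 := h.card_C _ h2 (by
    intro x hx
    rw [mem_map_conj] at hx
    have h4 : g⁻¹⁻¹ * x * g⁻¹ * r = r * (g⁻¹⁻¹ * x * g⁻¹) := by
      have := hx.2
      exact mem_centralizer_singleton_iff.1 this
    rw [← hg, inv_inv] at h4
    calc x * t = g⁻¹ * (g * x * g⁻¹ * (g * t * g⁻¹)) * g := by group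
      _ = t * x := by rw [h4]; group)
  rw [card_map_conj] at h3
  have : (2 : ℕ) ^ 20 = 2 ^ 16 * 16 := by norm_num
  rw [this] at h1
  have := Nat.le_of_mul_le_mul_right h1 (by norm_num)
  omega

/-- elements of 2-power order of `C(t) ∩ C(Z)` -/
theorem cent_two [Finite G] {g : G} (hgt : g * t = t * g) (hgZ : ∀ z ∈ Z, g * z = z * g)
    (hg2 : ∃ k, g ^ 2 ^ k = 1) : g ∈ P ∨ t * g ∈ P := by
  obtain ⟨p, hp, d, hd, e⟩ := h.cent g hgt hgZ
  obtain ⟨k, hk⟩ := hg2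
  have hk1 : g ^ 2 ^ (k + 1) = 1 := pow_two_pow hk (Nat.le_succ k)
  have hdp := h.DP hd hp
  have hdt := h.D_t d hd
  have htp := h.tP hp
  have e1 : g ^ 2 ^ (k + 1) = p ^ 2 ^ (k + 1) * d ^ 2 ^ (k + 1) := by
    rcases e with e | e
    · rw [e]
      exact Commute.mul_pow (show Commute p d from hdp.symm) _
    · have c1 : Commute t (p * d) := by
        show t * (p * d) = p * d * t
        calc t * (p * d) = t * p * d := by group
          _ = p * (t * d) := by rw [← htp]; group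
          _ = p * d * t := by rw [← hdt]; group
      rw [e, c1.mul_pow, Commute.mul_pow (show Commute p d from hdp.symm)]
      have : t ^ 2 ^ (k + 1) = 1 := by
        rw [pow_succ', pow_mul, pow_two, h.t_sq, one_pow]
      rw [this, one_mul]
  rw [hk1] at e1
  have e2 : p ^ 2 ^ (k + 1) = (d ^ 2 ^ (k + 1))⁻¹ := eq_inv_of_mul_eq_one_left e1.symm
  have h1 : p ^ 2 ^ (k + 1) ∈ Z := by
    apply h.center_U (A.pow_mem (h.P_le hp) _)
    intro u hu
    rw [e2]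
    exact h.D_A _ (D.inv_mem (D.pow_mem hd _)) u (h.P_le (h.U_le hu))
  have h2 : p ^ 2 ^ (k + 1) * p ^ 2 ^ (k + 1) = 1 := h.J_sq _ (h.Z_le_J h1)
  have h3 : d = 1 := by
    apply eq_one_of_mul h.D_odd hd (b := 1) (by group) ⟨0, by simp⟩
    refine ⟨k + 2, ?_⟩
    rw [one_mul, show k + 2 = k + 1 + 1 from rfl, pow_succ, pow_mul, pow_two]
    have : d ^ 2 ^ (k + 1) = (p ^ 2 ^ (k + 1))⁻¹ := by rw [e2, inv_inv]
    rw [this, ← mul_inv_rev, h2, inv_one]
  rw [h3, mul_one] at e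
  rcases e with e | e
  · left; rw [e]; exact hp
  · right
    rw [e, ← mul_assoc, h.t_sq, one_mul]
    exact hp

/-- `C_P(U)`, `p` with `[p, u]` taking at most the values `1, v` for `u ∈ U`, `v ∈ Z`, lies in `Z`. -/
theorem mem_Z_of_comm {p v : G} (hp : p ∈ P) (hv : v ∈ Z) (hpu : ∀ u ∈ U, ⁅p, u⁆ = 1 ∨ ⁅p, u⁆ = v) :
    p ∈ Z := by
  have h1 : p ∈ Q1 := by
    apply h.cent_Q1Z p hp
    intro q hq
    rcases hpu q (h.Q1_le hq) with e | e
    · rw [e]; exact Z.one_mem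
    · rw [e]; exact hv
  by_contra hpZ
  -- an element of `Z` different from `1`, `v`
  have h2 : ∃ z ∈ Z, z ≠ 1 ∧ z ≠ v := by
    by_contra hne
    push Not at hne
    have h3 : Nat.card Z ≤ 2 := by
      classical
      have : Nat.card Z ≤ Nat.card Bool := by
        have hinj : Function.Injective (fun z : Z => decide ((z : G) = 1)) := by
          intro a b hab
          have h4 : ((a : G) = 1) ↔ ((b : G) = 1) := by simpa using hab
          apply Subtype.ext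
          by_cases ha : (a : G) = 1
          · rw [ha, h4.1 ha]
          · rw [hne a a.2 ha, hne b b.2 (fun hb => ha (h4.2 hb))]
        exact Nat.card_le_card_of_injective _ hinj
      simpa using this
    have := h.card_Z
    omega
  obtain ⟨z, hz, hz1, hzv⟩ := h2
  obtain ⟨q, hq, e⟩ := h.full_Q1 p h1 hpZ z hz
  rcases hpu q (h.Q1_le hq) with e' | e'
  · exact hz1 (by rw [← e, e'])
  · exact hzv (by rw [← e, e'])

/-- an element acting on `Q1` with `[x, q] ∈ {1, v}`, `v ∈ Z`, centralises `Z` -/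
theorem comm_Z_of_comm {x v : G} (hv : v ∈ Z) (hxq : ∀ q ∈ Q1, ⁅x, q⁆ = 1 ∨ ⁅x, q⁆ = v) :
    ∀ z ∈ Z, x * z = z * x := by
  intro z hz
  -- `z` is a commutator
  by_cases hQ : ∀ b ∈ Q1, b ∈ Z
  · exfalso
    have : Nat.card Q1 ≤ Nat.card Z := by
      have hle : Q1 ≤ Z := hQ
      have : Q1 = Z := le_antisymm hle h.Z_le
      rw [this]
    rw [h.card_Q1, h.card_Z] at this
    omega
  push Not at hQ
  obtain ⟨b, hb, hbZ⟩ := hQ
  obtain ⟨q, hq, e⟩ := h.full_Q1 b hb hbZ z hz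
  have hx : ∀ y ∈ Q1, ∃ i : G, i ∈ Z ∧ x * y * x⁻¹ = i * y := by
    intro y hy
    have e0 : x * y * x⁻¹ = ⁅x, y⁆ * y := by rw [commutatorElement_def]; group
    rcases hxq y hy with e' | e'
    · exact ⟨1, Z.one_mem, by rw [e0, e']⟩
    · exact ⟨v, hv, by rw [e0, e']⟩
  obtain ⟨i, hi, ei⟩ := hx b hb
  obtain ⟨j, hj, ej⟩ := hx q hq
  have hib := h.P_Z b (h.Q1_leP hb) i hi
  have hiq := h.P_Z q (h.Q1_leP hq) i hi
  have hjb := h.P_Z b (h.Q1_leP hb) j hj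
  have hjq := h.P_Z q (h.Q1_leP hq) j hj
  have hij := h.P_Z i (h.Z_leP hi) j hj
  have e2 : x * z * x⁻¹ = z := by
    calc x * z * x⁻¹ = ⁅x * b * x⁻¹, x * q * x⁻¹⁆ := by rw [conj_comm, e]
      _ = ⁅b, q⁆ := by
        rw [ei, ej]
        have c1 : Commute i b := hib.symm
        have c2 : Commute i q := hiq.symm
        have c3 : Commute j b := hjb.symm
        have c4 : Commute j q := hjq.symm
        have c5 : Commute i j := hij
        rw [commutatorElement_def, commutatorElement_def, mul_inv_rev, mul_inv_rev]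
        calc i * b * (j * q) * (b⁻¹ * i⁻¹) * (q⁻¹ * j⁻¹)
            = i * (b * j) * q * b⁻¹ * (i⁻¹ * q⁻¹) * j⁻¹ := by group
          _ = i * (j * b) * q * b⁻¹ * (q⁻¹ * i⁻¹) * j⁻¹ := by
              rw [hjb, (c2.inv_left.inv_right).eq]
          _ = (i * j) * (b * q * b⁻¹ * q⁻¹) * i⁻¹ * j⁻¹ := by group
          _ = (b * q * b⁻¹ * q⁻¹) * (i * j) * i⁻¹ * j⁻¹ := by
              have hc : ⁅b, q⁆ ∈ Z := h.comm_Q1 b hb q hq
              rw [commutatorElement_def] at hc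
              have hQ := h.Z_leP hc
              have := h.P_Z _ hQ (i * j) (Z.mul_mem hi hj)
              rw [this]
          _ = b * q * b⁻¹ * q⁻¹ * ((i * j) * (j * i)⁻¹) := by group
          _ = b * q * b⁻¹ * q⁻¹ := by rw [hij]; group
      _ = z := e
  calc x * z = x * z * x⁻¹ * x := by group
    _ = z * x := by rw [e2]

/-- the projection of `C_S(t)` to `P` -/
def F1 (S : Subgroup G) : Subgroup G where
  carrier := {p | p ∈ P ∧ (p ∈ (S ⊓ centralizer {t} : Subgroup G) ∨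
    t * p ∈ (S ⊓ centralizer {t} : Subgroup G))}
  one_mem' := ⟨P.one_mem, Or.inl (Subgroup.one_mem _)⟩
  mul_mem' := by
    rintro a b ⟨ha, ha'⟩ ⟨hb, hb'⟩
    refine ⟨P.mul_mem ha hb, ?_⟩
    have hta := h.tP ha
    rcases ha' with ha' | ha' <;> rcases hb' with hb' | hb'
    · exact Or.inl (Subgroup.mul_mem _ ha' hb')
    · right
      have : t * (a * b) = a * (t * b) := by rw [← mul_assoc, ← hta]; group
      rw [this]
      exact Subgroup.mul_mem _ ha' hb'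
    · right
      rw [← mul_assoc]
      exact Subgroup.mul_mem _ ha' hb'
    · left
      have : a * b = t * a * (t * b) := by
        calc a * b = t * t * (a * b) := by rw [h.t_sq, one_mul]
          _ = t * (t * a) * b := by group
          _ = t * (a * t) * b := by rw [hta]
          _ = t * a * (t * b) := by group
      rw [this]
      exact Subgroup.mul_mem _ ha' hb'
  inv_mem' := by
    rintro a ⟨ha, ha'⟩
    refine ⟨P.inv_mem ha, ?_⟩
    rcases ha' with ha' | ha'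
    · exact Or.inl (Subgroup.inv_mem _ ha')
    · right
      have h1 := Subgroup.inv_mem _ ha'
      have h2 := h.tP (P.inv_mem ha)
      have : t * a⁻¹ = (t * a)⁻¹ := by rw [mul_inv_rev, h.ti, h2]
      rw [this]; exact h1

end Hyp

/-- The conjugate configuration `S = R^g`, `I = J^g`. -/
structure Conj (U J R : Subgroup G) (t : G) (S I : Subgroup G) (g : G) : Prop where
  hS : S = R.map (MulAut.conj g).toMonoidHom
  hI : I = J.map (MulAut.conj g).toMonoidHom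
  tS : ∀ s ∈ S, t * s * t⁻¹ ∈ S
  US : ∀ u ∈ U, ∀ s ∈ S, u * s * u⁻¹ ∈ S
  fix : Nat.card (I ⊓ centralizer {t} : Subgroup G) ≤ 4

namespace Conj

variable {A P Q1 U Z D J R S I : Subgroup G} {t g : G}
variable (c : Conj U J R t S I g) (h : Hyp A P Q1 U Z D J R t)
include c h

theorem mem_S {x : G} : x ∈ S ↔ g⁻¹ * x * g ∈ R := by rw [c.hS, mem_map_conj]

theorem mem_I {x : G} : x ∈ I ↔ g⁻¹ * x * g ∈ J := by rw [c.hI, mem_map_conj]

theorem card_S : Nat.card S = 2 ^ 20 := by rw [c.hS, card_map_conj, h.card_R]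

theorem card_I : Nat.card I = 16 := by rw [c.hI, card_map_conj, h.card_J]

theorem S_two : IsPGroup 2 S := isPGroup_of_card (c.card_S h)

theorem I_le : I ≤ S := by
  intro x hx
  rw [c.mem_I h] at hx
  rw [c.mem_S h]
  exact h.J_le hx

theorem S_comm {s s' : G} (hs : s ∈ S) (hs' : s' ∈ S) : ⁅s, s'⁆ ∈ I := by
  rw [c.mem_S h] at hs hs'
  rw [c.mem_I h, ← conj_comm']
  exact h.R_comm _ hs _ hs'

theorem S_sq {s : G} (hs : s ∈ S) : s * s ∈ I := by
  rw [c.mem_S h] at hs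
  rw [c.mem_I h]
  have := h.R_sq _ hs
  have e : g⁻¹ * s * g * (g⁻¹ * s * g) = g⁻¹ * (s * s) * g := by group
  rwa [e] at this

theorem I_comm {s i : G} (hs : s ∈ S) (hi : i ∈ I) : s * i = i * s := by
  rw [c.mem_S h] at hs
  rw [c.mem_I h] at hi
  have := h.J_comm _ hs _ hi
  calc s * i = g * ((g⁻¹ * s * g) * (g⁻¹ * i * g)) * g⁻¹ := by group
    _ = i * s := by rw [this]; group

theorem I_sq {i : G} (hi : i ∈ I) : i * i = 1 := by
  rw [c.mem_I h] at hi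
  have := h.J_sq _ hi
  calc i * i = g * ((g⁻¹ * i * g) * (g⁻¹ * i * g)) * g⁻¹ := by group
    _ = 1 := by rw [this]; group

theorem I_center {s : G} (hs : s ∈ S) (hc : ∀ s' ∈ S, s * s' = s' * s) : s ∈ I := by
  rw [c.mem_I h]
  rw [c.mem_S h] at hs
  apply h.R_center _ hs
  intro r hr
  have hr' : g * r * g⁻¹ ∈ S := by
    rw [c.mem_S h]
    have : g⁻¹ * (g * r * g⁻¹) * g = r := by group
    rw [this]; exact hr
  have := hc _ hr'
  calc g⁻¹ * s * g * r = g⁻¹ * (s * (g * r * g⁻¹)) * g := by group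
    _ = r * (g⁻¹ * s * g) := by rw [this]; group

theorem no_conj [Finite G] {s : G} (hs : s ∈ S) : ¬ IsConj t s := by
  intro hc
  rw [c.mem_S h] at hs
  apply h.no_conj hs
  refine hc.trans ?_
  rw [isConj_iff]
  exact ⟨g⁻¹, by rw [inv_inv]⟩

theorem conj_I {x : G} (hx : ∀ s ∈ S, x * s * x⁻¹ ∈ S) (hx' : ∀ s ∈ S, x⁻¹ * s * x ∈ S) {i : G}
    (hi : i ∈ I) : x * i * x⁻¹ ∈ I := by
  apply c.I_center h (hx _ (c.I_le h hi))
  intro s hs
  have := c.I_comm h (hx' s hs) hi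
  calc x * i * x⁻¹ * s = x * (i * (x⁻¹ * s * x)) * x⁻¹ := by group
    _ = s * (x * i * x⁻¹) := by rw [← this]; group

theorem tS' {s : G} (hs : s ∈ S) : t⁻¹ * s * t ∈ S := by
  have := c.tS s hs
  rw [h.ti] at this ⊢
  exact this

theorem tI {i : G} (hi : i ∈ I) : t * i * t⁻¹ ∈ I :=
  c.conj_I h c.tS (fun _ hs => c.tS' h hs) hi

theorem UI {u i : G} (hu : u ∈ U) (hi : i ∈ I) : u * i * u⁻¹ ∈ I := by
  apply c.conj_I h (c.US u hu) (fun s hs => ?_) hi
  have := c.US u⁻¹ (U.inv_mem hu) s hs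
  rwa [inv_inv] at this

theorem comm_t_mem {s : G} (hs : s ∈ S) : ⁅s, t⁆ ∈ S := by
  have : ⁅s, t⁆ = s * (t * s⁻¹ * t⁻¹) := by rw [commutatorElement_def]; group
  rw [this]
  exact S.mul_mem hs (c.tS _ (S.inv_mem hs))

theorem comm_t_fix {s : G} (hs : ⁅s, t⁆ ∈ I) : ⁅s, t⁆ * t = t * ⁅s, t⁆ := by
  have h1 := Tc h.t_sq s
  have h2 : ⁅s, t⁆⁻¹ = ⁅s, t⁆ := inv_eq_of_mul_eq_one_right (c.I_sq h hs)
  rw [h2] at h1
  calc ⁅s, t⁆ * t = t * ⁅s, t⁆ * t⁻¹ * t := by rw [h1]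
    _ = t * ⁅s, t⁆ := by group

/-- `C_I(t)` -/
theorem card_fix_I [Finite G] : Nat.card (I ⊓ centralizer {t} : Subgroup G) = 4 := by
  apply le_antisymm c.fix
  have h1 : Nat.card I ≤ Nat.card (I ⊓ centralizer {t} : Subgroup G) *
      Nat.card (I ⊓ centralizer {t} : Subgroup G) := by
    have hm : ∀ i ∈ I, ⁅i, t⁆ ∈ (I ⊓ centralizer {t} : Subgroup G) := by
      intro i hi
      have h2 : ⁅i, t⁆ ∈ I := by
        have : ⁅i, t⁆ = i * (t * i⁻¹ * t⁻¹) := by rw [commutatorElement_def]; group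
        rw [this]
        exact I.mul_mem hi (c.tI h (I.inv_mem hi))
      exact mem_fix.2 ⟨h2, c.comm_t_fix h h2⟩
    apply card_le_of_fib inf_le_left (fun i : I => (⟨⁅(i : G), t⁆, hm i i.2⟩ :
      (I ⊓ centralizer {t} : Subgroup G)))
    intro i i' e
    have e1 : (i : G) * t * (i : G)⁻¹ * t⁻¹ = i' * t * (i' : G)⁻¹ * t⁻¹ := by
      have := congrArg Subtype.val e
      simpa only [commutatorElement_def] using this
    have e2 := mul_right_cancel e1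
    refine ⟨I.mul_mem (I.inv_mem i.2) i'.2, ?_⟩
    show (i : G)⁻¹ * i' ∈ centralizer {t}
    rw [mem_centralizer_singleton_iff]
    calc (i : G)⁻¹ * i' * t = (i : G)⁻¹ * (i' * t * (i' : G)⁻¹) * i' := by group
      _ = t * ((i : G)⁻¹ * i') := by rw [← e2]; group
  rw [c.card_I h] at h1
  nlinarith [h1]

/-- the elements of `S` centralised by `t` modulo `I` -/
def K : Subgroup G where
  carrier := {s | s ∈ S ∧ ⁅s, t⁆ ∈ I}
  one_mem' := ⟨S.one_mem, by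
    have : ⁅(1 : G), t⁆ = 1 := by rw [commutatorElement_def]; group
    rw [this]; exact I.one_mem⟩
  mul_mem' := by
    rintro a b ⟨ha, ha'⟩ ⟨hb, hb'⟩
    refine ⟨S.mul_mem ha hb, ?_⟩
    have e : ⁅a * b, t⁆ = ⁅b, t⁆ * ⁅a, t⁆ := by
      have h1 := c.I_comm h ha hb'
      calc ⁅a * b, t⁆ = a * ⁅b, t⁆ * (t * a⁻¹ * t⁻¹) := by
            rw [commutatorElement_def, commutatorElement_def]; group
        _ = ⁅b, t⁆ * a * (t * a⁻¹ * t⁻¹) := by rw [h1]
        _ = ⁅b, t⁆ * ⁅a, t⁆ := by rw [commutatorElement_def a]; group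
    rw [e]
    exact I.mul_mem hb' ha'
  inv_mem' := by
    rintro a ⟨ha, ha'⟩
    refine ⟨S.inv_mem ha, ?_⟩
    have h1 := c.I_comm h (S.inv_mem ha) (I.inv_mem ha')
    have e : ⁅a⁻¹, t⁆ = ⁅a, t⁆⁻¹ := by
      calc ⁅a⁻¹, t⁆ = a⁻¹ * (⁅a, t⁆⁻¹ * a) := by
            rw [commutatorElement_def, commutatorElement_def]; group
        _ = ⁅a, t⁆⁻¹ := by rw [← mul_assoc, h1]; group
    rw [e]
    exact I.inv_mem ha'

theorem mem_K {s : G} : s ∈ c.K h ↔ s ∈ S ∧ ⁅s, t⁆ ∈ I := Iff.rfl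

theorem comm_t_mem_K {s : G} (hs : s ∈ S) : ⁅s, t⁆ ∈ c.K h := by
  refine ⟨c.comm_t_mem h hs, ?_⟩
  have h1 := Tc h.t_sq s
  have : ⁅⁅s, t⁆, t⁆ = ⁅s, t⁆ * ⁅s, t⁆ := by
    calc ⁅⁅s, t⁆, t⁆ = ⁅s, t⁆ * (t * ⁅s, t⁆ * t⁻¹)⁻¹ := by
          rw [commutatorElement_def ⁅s, t⁆ t]; group
      _ = ⁅s, t⁆ * ⁅s, t⁆ := by rw [h1, inv_inv]
  rw [this]
  exact c.S_sq h (c.comm_t_mem h hs)

theorem I_le_K : I ≤ c.K h := by
  intro i hi
  refine ⟨c.I_le h hi, ?_⟩
  have : ⁅i, t⁆ = i * (t * i⁻¹ * t⁻¹) := by rw [commutatorElement_def]; group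
  rw [this]
  exact I.mul_mem hi (c.tI h (I.inv_mem hi))

theorem card_K [Finite G] : 2 ^ 12 ≤ Nat.card (c.K h) := by
  have h1 : Nat.card S ≤ Nat.card (c.K h) * Nat.card (↥(c.K h) ⧸ I.subgroupOf (c.K h)) := by
    apply card_le_of_fib (X := c.K h) (fun x hx => ((c.mem_K h).1 hx).1)
      (fun s : S => (QuotientGroup.mk (⟨⁅(s : G), t⁆, c.comm_t_mem_K h s.2⟩ : c.K h) :
        ↥(c.K h) ⧸ I.subgroupOf (c.K h)))
    intro s s' e
    rw [QuotientGroup.eq, mem_subgroupOf] at e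
    have e1 : ⁅(s : G), t⁆⁻¹ * ⁅(s' : G), t⁆ ∈ I := e
    refine ⟨S.mul_mem (S.inv_mem s.2) s'.2, ?_⟩
    have hts : t * (s : G) * t⁻¹ ∈ S := c.tS _ s.2
    have h2 := c.I_comm h hts e1
    have e2 : ⁅(s : G)⁻¹ * s', t⁆ =
        (t * s * t⁻¹)⁻¹ * (⁅(s : G), t⁆⁻¹ * ⁅(s' : G), t⁆) * (t * s * t⁻¹) := by
      simp only [commutatorElement_def]; group
    have e3 : ⁅(s : G)⁻¹ * s', t⁆ = ⁅(s : G), t⁆⁻¹ * ⁅(s' : G), t⁆ := by
      rw [e2, mul_assoc, ← h2]; group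
    rw [e3]; exact e1
  have h2 : Nat.card (↥(c.K h) ⧸ I.subgroupOf (c.K h)) * 16 = Nat.card (c.K h) := by
    have h3 := Subgroup.index_mul_card (I.subgroupOf (c.K h))
    have h4 : Nat.card (I.subgroupOf (c.K h)) = 16 := by
      rw [← c.card_I h]
      exact Nat.card_congr (subgroupOfEquivOfLe (c.I_le_K h)).toEquiv
    rw [h4] at h3
    exact h3
  rw [c.card_S h] at h1
  set k := Nat.card (c.K h) with hk
  set m := Nat.card (↥(c.K h) ⧸ I.subgroupOf (c.K h)) with hm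
  by_contra hlt
  push Not at hlt
  have : k * m < 2 ^ 20 := by
    have h5 : m < 2 ^ 8 := by omega
    calc k * m ≤ 2 ^ 12 * m := Nat.mul_le_mul_right _ hlt.le
      _ < 2 ^ 12 * 2 ^ 8 := Nat.mul_lt_mul_of_pos_left h5 (by norm_num)
      _ = 2 ^ 20 := by norm_num
  omega

theorem card_F [Finite G] : 2 ^ 10 ≤ Nat.card (S ⊓ centralizer {t} : Subgroup G) := by
  have hm : ∀ s ∈ c.K h, ⁅s, t⁆ ∈ (I ⊓ centralizer {t} : Subgroup G) := by
    intro s hs
    exact mem_fix.2 ⟨hs.2, c.comm_t_fix h hs.2⟩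
  have h1 : Nat.card (c.K h) ≤ Nat.card (S ⊓ centralizer {t} : Subgroup G) *
      Nat.card (I ⊓ centralizer {t} : Subgroup G) := by
    apply card_le_of_fib _ (fun s : c.K h => (⟨⁅(s : G), t⁆, hm s s.2⟩ :
      (I ⊓ centralizer {t} : Subgroup G)))
    · intro s s' e
      have e1 : (s : G) * t * (s : G)⁻¹ * t⁻¹ = s' * t * (s' : G)⁻¹ * t⁻¹ := by
        have := congrArg Subtype.val e
        simpa only [commutatorElement_def] using this
      have e2 := mul_right_cancel e1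
      refine ⟨S.mul_mem (S.inv_mem s.2.1) s'.2.1, ?_⟩
      show (s : G)⁻¹ * s' ∈ centralizer {t}
      rw [mem_centralizer_singleton_iff]
      calc (s : G)⁻¹ * s' * t = (s : G)⁻¹ * (s' * t * (s' : G)⁻¹) * s' := by group
        _ = t * ((s : G)⁻¹ * s') := by rw [← e2]; group
    · intro s hs'
      obtain ⟨hs, hst⟩ := mem_fix.1 hs'
      refine ⟨hs, ?_⟩
      have : ⁅s, t⁆ = 1 := by rw [commutatorElement_def, hst]; group
      rw [this]; exact I.one_mem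
  rw [c.card_fix_I h] at h1
  have h2 := c.card_K h
  have : (2 : ℕ) ^ 12 = 2 ^ 10 * 4 := by norm_num
  rw [this] at h2
  exact Nat.le_of_mul_le_mul_right (h2.trans h1) (by norm_num)

theorem exists_pow_S {s : G} (hs : s ∈ S) : ∃ k, s ^ 2 ^ k = 1 := exists_pow (c.S_two h) hs

/-- `t z` and `t` are not in `S` -/
theorem tz_notMem [Finite G] {z : G} (hz : z ∈ Z) : t * z ∉ S := fun hh => c.no_conj h hh (h.conj_tz hz)

/-- **Step 1**: `C_I(t) = Z` -/
theorem fix_eq_Z [Finite G] : (I ⊓ centralizer {t} : Subgroup G) = Z := by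
  set Z' := (I ⊓ centralizer {t} : Subgroup G) with hZ'
  have hcard : Nat.card Z' = 4 := c.card_fix_I h
  have hUZ : ∀ u ∈ U, ∀ n ∈ Z', u * n * u⁻¹ ∈ Z' := by
    intro u hu n hn
    obtain ⟨hn1, hn2⟩ := mem_fix.1 hn
    refine mem_fix.2 ⟨c.UI h hu hn1, ?_⟩
    have htu := h.tP (h.U_le hu)
    calc u * n * u⁻¹ * t = u * n * (u⁻¹ * t * u) * u⁻¹ := by group
      _ = u * n * t * u⁻¹ := by
          have : u⁻¹ * t * u = t := by
            rw [mul_assoc, ← htu]; group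
          rw [this]
      _ = u * t * n * u⁻¹ := by rw [mul_assoc u n t, hn2]; group
      _ = t * (u * n * u⁻¹) := by rw [htu]; group
  obtain ⟨v, hv, hv1, hvU⟩ := exists_fix h.U_two hUZ (by rw [hcard]; norm_num)
  obtain ⟨hvI, hvt⟩ := mem_fix.1 hv
  have hvU' : ∀ u ∈ U, v * u = u * v := by
    intro u hu
    have := hvU u hu
    calc v * u = u * v * u⁻¹ * u := by rw [this]
      _ = u * v := by group
  -- `v ∈ Z`
  have hvZ : v ∈ Z := by
    have h1 := h.cent_two hvt (fun z hz => hvU' z (h.Q1_le (h.Z_le hz)))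
      (c.exists_pow_S h (c.I_le h hvI))
    rcases h1 with h1 | h1
    · exact h.center_U (h.P_le h1) hvU'
    · exfalso
      have h2 : t * v ∈ Z := by
        apply h.center_U (h.P_le h1)
        intro u hu
        have htu := h.tP (h.U_le hu)
        calc t * v * u = t * (v * u) := by group
          _ = t * u * v := by rw [hvU' u hu]; group
          _ = u * (t * v) := by rw [← htu]; group
      apply c.tz_notMem h h2
      have : t * (t * v) = v := by rw [← mul_assoc, h.t_sq, one_mul]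
      rw [this]
      exact c.I_le h hvI
  -- the values of `[u, n]`
  have hval : ∀ n ∈ Z', ∀ u ∈ U, ⁅n, u⁆ = 1 ∨ ⁅n, u⁆ = v := by
    intro n hn u hu
    have hn2 : n * n = 1 := c.I_sq h (mem_fix.1 hn).1
    have hni : n⁻¹ = n := inv_eq_of_mul_eq_one_right hn2
    have hvi : v * v = 1 := c.I_sq h hvI
    have hcomm : ∀ a ∈ Z', ∀ b ∈ Z', a * b = b * a := by
      intro a ha b hb
      exact c.I_comm h (c.I_le h (mem_fix.1 ha).1) (mem_fix.1 hb).1
    -- `Z' = {1, v, n, n v}` unless `n ∈ {1, v}`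
    by_cases hn1 : n = 1
    · left; rw [hn1, commutatorElement_def]; group
    by_cases hnv : n = v
    · left
      rw [hnv, commutatorElement_def, hvU' u hu]; group
    have hall : ∀ m ∈ Z', m = 1 ∨ m = v ∨ m = n ∨ m = n * v := by
      classical
      intro m hm
      by_contra hne
      push Not at hne
      obtain ⟨m1, m2, m3, m4⟩ := hne
      have hnv' : n * v ∈ Z' := Z'.mul_mem hn hv
      have hfin : Finite Z' := inferInstance
      have : ({⟨1, Z'.one_mem⟩, ⟨v, hv⟩, ⟨n, hn⟩, ⟨n * v, hnv'⟩, ⟨m, hm⟩} : Finset Z').card = 5 := by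
        rw [Finset.card_insert_of_notMem, Finset.card_insert_of_notMem,
          Finset.card_insert_of_notMem, Finset.card_insert_of_notMem, Finset.card_singleton]
        · simp only [Finset.mem_singleton, Subtype.mk.injEq]
          exact fun e => m4 e.symm
        · simp only [Finset.mem_insert, Finset.mem_singleton, Subtype.mk.injEq, not_or]
          refine ⟨fun e => hv1 ?_, fun e => m3 e.symm⟩
          have : n * v = n * 1 := by rw [← e, mul_one]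
          exact mul_left_cancel this
        · simp only [Finset.mem_insert, Finset.mem_singleton, Subtype.mk.injEq, not_or]
          refine ⟨fun e => hnv e.symm, fun e => hn1 ?_, fun e => m2 e.symm⟩
          have : n * v = 1 * v := by rw [← e, one_mul]
          exact mul_right_cancel this
        · simp only [Finset.mem_insert, Finset.mem_singleton, Subtype.mk.injEq, not_or]
          refine ⟨fun e => hv1 e.symm, fun e => hn1 e.symm, fun e => hnv ?_, fun e => m1 e.symm⟩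
          have h3 : n = v⁻¹ := eq_inv_of_mul_eq_one_left e.symm
          rw [h3]
          exact inv_eq_of_mul_eq_one_right hvi
      have hft : Fintype Z' := Fintype.ofFinite _
      have h4 := Finset.card_le_univ
        ({⟨1, Z'.one_mem⟩, ⟨v, hv⟩, ⟨n, hn⟩, ⟨n * v, hnv'⟩, ⟨m, hm⟩} : Finset Z')
      rw [this, ← Nat.card_eq_fintype_card, hcard] at h4
      omega
    have hvu := hvU u hu
    have h5 := hUZ u hu n hn
    have h6 : ⁅n, u⁆ = n * (u * n * u⁻¹) := by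
      calc ⁅n, u⁆ = n * (u * n⁻¹ * u⁻¹) := by rw [commutatorElement_def]; group
        _ = n * (u * n * u⁻¹) := by rw [hni]
    rw [h6]
    rcases hall _ h5 with e | e | e | e
    · exfalso
      apply hn1
      calc n = u⁻¹ * (u * n * u⁻¹) * u := by group
        _ = 1 := by rw [e]; group
    · exfalso
      apply hnv
      calc n = u⁻¹ * (u * n * u⁻¹) * u := by group
        _ = u⁻¹ * (u * v * u⁻¹) * u := by rw [e, hvu]
        _ = v := by group
    · left; rw [e, hn2]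
    · right; rw [e, ← mul_assoc, hn2, one_mul]
  -- every element of `Z'` is in `Z`
  have hle : Z' ≤ Z := by
    intro n hn
    obtain ⟨hnI, hnt⟩ := mem_fix.1 hn
    have h1 := h.comm_Z_of_comm hvZ (fun q hq => hval n hn q (h.Q1_le hq))
    rcases h.cent_two hnt h1 (c.exists_pow_S h (c.I_le h hnI)) with h2 | h2
    · exact h.mem_Z_of_comm h2 hvZ (hval n hn)
    · exfalso
      have h3 : t * n ∈ Z := by
        apply h.mem_Z_of_comm h2 hvZ
        intro u hu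
        have htu := h.tP (h.U_le hu)
        have e : ⁅t * n, u⁆ = ⁅n, u⁆ := by
          have h4 : ⁅n, u⁆ * t = t * ⁅n, u⁆ := by
            rcases hval n hn u hu with e | e
            · rw [e]; group
            · rw [e]; exact hvt
          calc ⁅t * n, u⁆ = t * (n * u * n⁻¹) * t⁻¹ * u⁻¹ := by rw [commutatorElement_def]; group
            _ = t * ⁅n, u⁆ * (u * t⁻¹) * u⁻¹ := by rw [commutatorElement_def]; group
            _ = t * ⁅n, u⁆ * (t⁻¹ * u) * u⁻¹ := by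
                rw [h.ti, htu]
            _ = ⁅n, u⁆ := by rw [← h4]; group
        rw [e]
        exact hval n hn u hu
      apply c.tz_notMem h h3
      have : t * (t * n) = n := by rw [← mul_assoc, h.t_sq, one_mul]
      rw [this]
      exact c.I_le h hnI
  exact Subgroup.eq_of_le_of_card_ge hle (by rw [hcard, h.card_Z])

theorem fix_cases [Finite G] {f : G} (hf : f ∈ (S ⊓ centralizer {t} : Subgroup G)) :
    f ∈ P ∨ t * f ∈ P := by
  obtain ⟨hfS, hft⟩ := mem_fix.1 hf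
  apply h.cent_two hft _ (c.exists_pow_S h hfS)
  intro z hz
  rw [← c.fix_eq_Z h] at hz
  exact c.I_comm h hfS (mem_fix.1 hz).1

theorem t_notMem [Finite G] : t ∉ S := fun hh => c.no_conj h hh (IsConj.refl t)

/-- every element of `F1` is `f` or `t f`, `f ∈ C_S(t)` -/
theorem exists_f {p : G} (hp : p ∈ h.F1 S) :
    ∃ f ∈ (S ⊓ centralizer {t} : Subgroup G), p = f ∨ p = t * f := by
  rcases hp.2 with hh | hh
  · exact ⟨p, hh, Or.inl rfl⟩
  · exact ⟨_, hh, Or.inr (by rw [← mul_assoc, h.t_sq, one_mul])⟩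

theorem F1_two : IsPGroup 2 (h.F1 S) := by
  rintro ⟨p, hp⟩
  obtain ⟨f, hf, e⟩ := c.exists_f h hp
  obtain ⟨hfS, hft⟩ := mem_fix.1 hf
  obtain ⟨k, hk⟩ := c.exists_pow_S h hfS
  refine ⟨k + 1, ?_⟩
  apply Subtype.ext
  rw [Subgroup.coe_pow, Subgroup.coe_one]
  show p ^ 2 ^ (k + 1) = 1
  have h1 : f ^ 2 ^ (k + 1) = 1 := pow_two_pow hk (Nat.le_succ k)
  rcases e with e | e
  · rw [e, h1]
  · rw [e, Commute.mul_pow (show Commute t f from hft.symm), h1, mul_one, pow_succ', pow_mul,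
      pow_two, h.t_sq, one_pow]

theorem F1_comm [Finite G] {p p' : G} (hp : p ∈ h.F1 S) (hp' : p' ∈ h.F1 S) : ⁅p, p'⁆ ∈ Z := by
  obtain ⟨f, hf, e⟩ := c.exists_f h hp
  obtain ⟨f', hf', e'⟩ := c.exists_f h hp'
  obtain ⟨hfS, hft⟩ := mem_fix.1 hf
  obtain ⟨hfS', hft'⟩ := mem_fix.1 hf'
  have h1 : ⁅p, p'⁆ = ⁅f, f'⁆ := by
    have c1 : Commute t f := hft.symm
    have c2 : Commute t f' := hft'.symm
    have e1 : ∀ a b : G, Commute t a → Commute t b → ⁅t * a, b⁆ = ⁅a, b⁆ := by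
      intro a b ha hb
      have c3 : Commute t (a * b * a⁻¹) := (ha.mul_right hb).mul_right ha.inv_right
      calc ⁅t * a, b⁆ = t * (a * b * a⁻¹) * t⁻¹ * b⁻¹ := by rw [commutatorElement_def]; group
        _ = ⁅a, b⁆ := by rw [c3.eq, commutatorElement_def]; group
    have e2 : ∀ a b : G, Commute t a → Commute t b → ⁅a, t * b⁆ = ⁅a, b⁆ := by
      intro a b ha hb
      rw [← commutatorElement_inv, e1 b a hb ha, commutatorElement_inv]
    rcases e with e | e <;> rcases e' with e' | e'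
    · rw [e, e']
    · rw [e, e', e2 _ _ c1 c2]
    · rw [e, e', e1 _ _ c1 c2]
    · rw [e, e', e1 _ _ c1 ((Commute.refl t).mul_right c2), e2 _ _ c1 c2]
  rw [h1, ← c.fix_eq_Z h]
  refine mem_fix.2 ⟨c.S_comm h hfS hfS', ?_⟩
  have c1 : Commute t f := hft.symm
  have c2 : Commute t f' := hft'.symm
  rw [commutatorElement_def]
  exact (((c1.mul_right c2).mul_right c1.inv_right).mul_right c2.inv_right).eq.symm

theorem F1_le_U [Finite G] : h.F1 S ≤ U := by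
  have h1 : U ≤ normalizer (h.F1 S : Set G) := by
    have key : ∀ u ∈ U, ∀ p ∈ h.F1 S, u * p * u⁻¹ ∈ h.F1 S := by
      intro u hu p hp
      refine ⟨P.mul_mem (P.mul_mem (h.U_le hu) hp.1) (P.inv_mem (h.U_le hu)), ?_⟩
      have htu := h.tP (h.U_le hu)
      have h2 : ∀ f ∈ (S ⊓ centralizer {t} : Subgroup G),
          u * f * u⁻¹ ∈ (S ⊓ centralizer {t} : Subgroup G) := by
        intro f hf
        obtain ⟨hfS, hft⟩ := mem_fix.1 hf
        refine mem_fix.2 ⟨c.US u hu f hfS, ?_⟩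
        have c1 : Commute t f := hft.symm
        have c2 : Commute t u := htu.symm
        exact ((c2.mul_right c1).mul_right c2.inv_right).eq.symm
      rcases hp.2 with hh | hh
      · exact Or.inl (h2 _ hh)
      · right
        have := h2 _ hh
        have e : u * (t * p) * u⁻¹ = t * (u * p * u⁻¹) := by
          calc u * (t * p) * u⁻¹ = (u * t) * p * u⁻¹ := by group
            _ = t * (u * p * u⁻¹) := by rw [htu]; group
        rwa [e] at this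
    intro u hu
    rw [mem_normalizer_iff]
    intro p
    constructor
    · exact key u hu p
    · intro hp
      have := key u⁻¹ (U.inv_mem hu) _ hp
      have e : u⁻¹ * (u * p * u⁻¹) * u⁻¹⁻¹ = p := by group
      rwa [e] at this
  have h2 : IsPGroup 2 (U ⊔ h.F1 S : Subgroup G) := h.U_two.to_sup_of_normal_right' (c.F1_two h) h1
  have h3 : U ⊔ h.F1 S ≤ A := sup_le (h.U_le.trans h.P_le) (fun p hp => h.P_le hp.1)
  exact le_trans le_sup_right (le_of_odd le_sup_left h3 h2 h.odd_A)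

theorem card_F1 [Finite G] : 2 ^ 10 ≤ Nat.card (h.F1 S) := by
  classical
  refine (c.card_F h).trans ?_
  have hm : ∀ f : (S ⊓ centralizer {t} : Subgroup G),
      (if (f : G) ∈ P then (f : G) else t * f) ∈ h.F1 S := by
    rintro ⟨f, hf⟩
    by_cases hfP : f ∈ P
    · rw [if_pos hfP]
      exact ⟨hfP, Or.inl hf⟩
    · rw [if_neg hfP]
      refine ⟨(c.fix_cases h hf).resolve_left hfP, Or.inr ?_⟩
      rw [← mul_assoc, h.t_sq, one_mul]
      exact hf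
  apply Nat.card_le_card_of_injective
    (fun f : (S ⊓ centralizer {t} : Subgroup G) => (⟨_, hm f⟩ : h.F1 S))
  rintro ⟨f, hf⟩ ⟨f', hf'⟩ e
  have e1 : (if f ∈ P then f else t * f) = (if f' ∈ P then f' else t * f') := congrArg Subtype.val e
  apply Subtype.ext
  have hS := (mem_fix.1 hf).1
  have hS' := (mem_fix.1 hf').1
  by_cases h1 : f ∈ P <;> by_cases h2 : f' ∈ P
  · rwa [if_pos h1, if_pos h2] at e1
  · exfalso
    rw [if_pos h1, if_neg h2] at e1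
    apply c.t_notMem h
    have : t = f * f'⁻¹ := by rw [e1]; group
    rw [this]
    exact S.mul_mem hS (S.inv_mem hS')
  · exfalso
    rw [if_neg h1, if_pos h2] at e1
    apply c.t_notMem h
    have : t = f' * f⁻¹ := by rw [← e1]; group
    rw [this]
    exact S.mul_mem hS' (S.inv_mem hS)
  · rw [if_neg h1, if_neg h2] at e1
    exact mul_left_cancel e1

theorem F1_eq [Finite G] : h.F1 S = Q1 := by
  have hle : h.F1 S ≤ Q1 := by
    by_contra hne
    obtain ⟨u, hu, huQ⟩ := SetLike.not_le_iff_exists.1 hne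
    have h1 := h.cent_U u (c.F1_le_U h hu) huQ (h.F1 S ⊓ Q1) inf_le_right
      (fun q hq => c.F1_comm h hu hq.1)
    have h2 : Nat.card (h.F1 S) ≤ Nat.card (h.F1 S ⊓ Q1 : Subgroup G) *
        Nat.card (↥U ⧸ Q1.subgroupOf U) := by
      apply card_le_of_fib inf_le_left (fun p : h.F1 S =>
        (QuotientGroup.mk (⟨p, c.F1_le_U h p.2⟩ : U) : ↥U ⧸ Q1.subgroupOf U))
      intro p p' e
      rw [QuotientGroup.eq, mem_subgroupOf] at e
      exact ⟨(h.F1 S).mul_mem ((h.F1 S).inv_mem p.2) p'.2, e⟩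
    have h3 : Nat.card (↥U ⧸ Q1.subgroupOf U) = 4 := by
      have h4 := Subgroup.index_mul_card (Q1.subgroupOf U)
      have h5 : Nat.card (Q1.subgroupOf U) = 2 ^ 10 := by
        rw [← h.card_Q1]
        exact Nat.card_congr (subgroupOfEquivOfLe h.Q1_le).toEquiv
      rw [h5, h.card_U] at h4
      have : (Q1.subgroupOf U).index = 4 := by omega
      exact this
    rw [h3] at h2
    have := c.card_F1 h
    omega
  exact Subgroup.eq_of_le_of_card_ge hle (by rw [h.card_Q1]; exact c.card_F1 h)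

/-- **Step 2**: `C_S(t) = Q1` -/
theorem fix_eq_Q1 [Finite G] : (S ⊓ centralizer {t} : Subgroup G) = Q1 := by
  have hle : Q1 ≤ (S ⊓ centralizer {t} : Subgroup G) := by
    apply h.gen
    intro q hq hqt
    have hq1 : q ∈ h.F1 S := by rw [c.F1_eq h]; exact hq
    rcases hq1.2 with hh | hh
    · exact hh
    · exact absurd hqt (c.no_conj h (mem_fix.1 hh).1)
  apply le_antisymm _ hle
  intro f hf
  rcases c.fix_cases h hf with hP | hP
  · have : f ∈ h.F1 S := ⟨hP, Or.inl hf⟩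
    rwa [c.F1_eq h] at this
  · exfalso
    have h1 : t * f ∈ h.F1 S := ⟨hP, Or.inr (by rw [← mul_assoc, h.t_sq, one_mul]; exact hf)⟩
    rw [c.F1_eq h] at h1
    have h2 := (mem_fix.1 (hle h1)).1
    apply c.t_notMem h
    have : t = t * f * f⁻¹ := by group
    rw [this]
    exact S.mul_mem h2 (S.inv_mem (mem_fix.1 hf).1)

theorem Q1_le_S [Finite G] : Q1 ≤ S := by
  rw [← c.fix_eq_Q1 h]
  exact inf_le_left

/-- **Step 3**: `I = J` -/
theorem I_eq_J [Finite G] : I = J := by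
  apply h.eq_J (c.card_I h)
  · intro x hx y hy
    exact c.I_comm h (c.I_le h hx) hy
  · intro x hx q hq
    exact (c.I_comm h (c.Q1_le_S h hq) hx).symm
  · intro x hx
    rw [← c.fix_eq_Z h]
    have h1 : ⁅x, t⁆ ∈ I := (c.I_le_K h hx).2
    exact mem_fix.2 ⟨h1, c.comm_t_fix h h1⟩

/-- **Step 4**: `S = R` -/
theorem S_eq_R [Finite G] : S = R := by
  have hle : S ≤ R := by
    apply h.le_R (c.S_two h)
    · intro s hs w hw
      rw [← c.I_eq_J h] at hw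
      exact c.I_comm h hs hw
    · intro s hs q hq
      rw [← c.I_eq_J h]
      exact c.S_comm h hs (c.Q1_le_S h hq)
    · intro s hs
      set k := ⁅s, t⁆ with hk
      have hkK := c.comm_t_mem_K h hs
      rw [← hk] at hkK
      have h1 : ⁅k, t⁆ ∈ Z := by
        rw [← c.fix_eq_Z h]
        exact mem_fix.2 ⟨hkK.2, c.comm_t_fix h hkK.2⟩
      obtain ⟨w, hw, e⟩ := h.J_onto _ h1
      have hwS : w ∈ S := c.I_le h (by rw [c.I_eq_J h]; exact hw)
      have h2 : w⁻¹ * k ∈ Q1 := by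
        rw [← c.fix_eq_Q1 h]
        refine mem_fix.2 ⟨S.mul_mem (S.inv_mem hwS) hkK.1, ?_⟩
        have e1 : w * t * w⁻¹ * t⁻¹ = k * t * k⁻¹ * t⁻¹ := by
          rw [← commutatorElement_def, ← commutatorElement_def]; exact e
        have e2 := mul_right_cancel e1
        calc w⁻¹ * k * t = w⁻¹ * (k * t * k⁻¹) * k := by group
          _ = t * (w⁻¹ * k) := by rw [← e2]; group
      refine ⟨w⁻¹ * k, h2, w, hw, ?_⟩
      have h3 := h.J_comm _ (h.Q1_le_R h2) w hw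
      rw [h3]; group
  exact Subgroup.eq_of_le_of_card_ge hle (by rw [h.card_R, c.card_S h])

end Conj

/-- **The end**: transfer to `N_G(R)`. `χ` is a homomorphism on `Aut(R)` which detects `t` and such that
involutory automorphisms `d` with `χ d ≠ 1` have at most four fixed points on `Z(R)`. -/
theorem false_of_hyp [Finite G] {A P Q1 U Z D J R : Subgroup G} {t : G}
    (h : Hyp A P Q1 U Z D J R t) (htR : ∀ r ∈ R, t * r * t⁻¹ ∈ R)
    {B : Type*} [CommGroup B] (χ : MulAut R →* B) (hG : ∀ f : G →* B, f t = 1)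
    (hχt : ∀ T : MulAut R, (∀ r : R, ((T r : R) : G) = t * r * t⁻¹) → χ T ≠ 1)
    (hχ : ∀ d : MulAut R, d * d = 1 → χ d ≠ 1 →
      Nat.card {z : Subgroup.center R // d z = z} ≤ 4) : False := by
  classical
  have htN : t ∈ normalizer (R : Set G) := by
    rw [mem_normalizer_iff]
    intro r
    constructor
    · exact htR r
    · intro hr
      have := htR _ hr
      have e : t * (t * r * t⁻¹) * t⁻¹ = r := by
        calc t * (t * r * t⁻¹) * t⁻¹ = (t * t) * r * (t * t)⁻¹ := by group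
          _ = r := by rw [h.t_sq]; group
      rwa [e] at this
  let φ : normalizer (R : Set G) →* B := χ.comp (normalizerMonoidHom R)
  have hφt : φ ⟨t, htN⟩ ≠ 1 := by
    apply hχt
    intro r
    rfl
  obtain ⟨g, hg, h1, h2, h3⟩ := TransferTL.exists_extremal (normalizer (R : Set G)) φ t hG h.t_sq htN hφt
    h.odd_index
  set u := g⁻¹ * t * g with hu
  have hut : g * u * g⁻¹ = t := by rw [hu]; group
  have huu : u * u = 1 := by
    calc u * u = g⁻¹ * (t * t) * g := by rw [hu]; group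
      _ = 1 := by rw [h.t_sq]; group
  -- fixed points of `u` on `J`
  have hfix : Nat.card (J ⊓ centralizer {u} : Subgroup G) ≤ 4 := by
    have h4 := hχ (normalizerMonoidHom R ⟨u, hg⟩) (by
      rw [← map_mul]
      have : (⟨u, hg⟩ * ⟨u, hg⟩ : normalizer (R : Set G)) = 1 := Subtype.ext huu
      rw [this, map_one]) h1
    refine le_trans ?_ h4
    have hm : ∀ x ∈ (J ⊓ centralizer {u} : Subgroup G), ∃ z : {z : Subgroup.center R //
        (normalizerMonoidHom R ⟨u, hg⟩) z = z}, (((z : Subgroup.center R) : R) : G) = x := by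
      intro x hx
      obtain ⟨hxJ, hxu⟩ := mem_fix.1 hx
      refine ⟨⟨⟨⟨x, h.J_le hxJ⟩, ?_⟩, ?_⟩, rfl⟩
      · rw [mem_center_iff]
        intro r
        apply Subtype.ext
        exact h.J_comm r r.2 x hxJ
      · apply Subtype.ext
        show u * x * u⁻¹ = x
        rw [← hxu]; group
    choose f hf using hm
    have : Nat.card (J ⊓ centralizer {u} : Subgroup G) ≤ Nat.card {z : Subgroup.center R //
        (normalizerMonoidHom R ⟨u, hg⟩) z = z} := by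
      apply Nat.card_le_card_of_injective (fun x : (J ⊓ centralizer {u} : Subgroup G) => f x x.2)
      intro x y hxy
      apply Subtype.ext
      rw [← hf x x.2, ← hf y y.2]
      exact congrArg (fun z : {z : Subgroup.center R // (normalizerMonoidHom R ⟨u, hg⟩) z = z} =>
        (((z : Subgroup.center R) : R) : G)) hxy
    exact this
  -- conjugate `U` into `N(R^g)`
  set R1 := R.map (MulAut.conj g).toMonoidHom with hR1
  have hodd1 : Odd ((normalizer (R1 : Set G)).relIndex (centralizer {t})) := by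
    have e1 : normalizer (R1 : Set G) = (normalizer (R : Set G)).map (MulAut.conj g).toMonoidHom := by
      ext x
      rw [mem_map_conj, mem_normalizer_iff, mem_normalizer_iff]
      constructor
      · intro hx r
        have := hx (g * r * g⁻¹)
        rw [hR1, mem_map_conj, mem_map_conj] at this
        have e2 : g⁻¹ * (g * r * g⁻¹) * g = r := by group
        have e3 : g⁻¹ * (x * (g * r * g⁻¹) * x⁻¹) * g = g⁻¹ * x * g * r * (g⁻¹ * x * g)⁻¹ := by group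
        rwa [e2, e3] at this
      · intro hx r
        rw [hR1, mem_map_conj, mem_map_conj]
        have := hx (g⁻¹ * r * g)
        have e3 : g⁻¹ * x * g * (g⁻¹ * r * g) * (g⁻¹ * x * g)⁻¹ = g⁻¹ * (x * r * x⁻¹) * g := by group
        rwa [e3] at this
    have e2 : centralizer ({t} : Set G) = (centralizer {u}).map (MulAut.conj g).toMonoidHom := by
      ext x
      rw [mem_map_conj, mem_centralizer_singleton_iff, mem_centralizer_singleton_iff]
      constructor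
      · intro hx
        calc g⁻¹ * x * g * u = g⁻¹ * (x * t) * g := by rw [← hut]; group
          _ = u * (g⁻¹ * x * g) := by rw [hx, ← hut]; group
      · intro hx
        calc x * t = g * (g⁻¹ * x * g * u) * g⁻¹ := by rw [← hut]; group
          _ = t * x := by rw [hx, ← hut]; group
    rw [e1, e2, relIndex_map_map_of_injective _ _ (MulAut.conj g).injective]
    exact h2
  have hUC : U ≤ centralizer ({t} : Set G) := by
    intro x hx
    rw [mem_centralizer_singleton_iff]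
    exact h.tP (h.U_le hx)
  obtain ⟨a, ha, haU⟩ := exists_conj_le h.U_two hUC hodd1
  rw [mem_centralizer_singleton_iff] at ha
  have hta : a⁻¹ * t * a = t := by rw [mul_assoc, ← ha]; group
  set k := a * g with hk
  have hku : k⁻¹ * t * k = u := by
    calc k⁻¹ * t * k = g⁻¹ * (a⁻¹ * t * a) * g := by rw [hk]; group
      _ = g⁻¹ * t * g := by rw [hta]
      _ = u := hu.symm
  have hconj : Conj U J R t (R.map (MulAut.conj k).toMonoidHom) (J.map (MulAut.conj k).toMonoidHom) k :=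
    { hS := rfl
      hI := rfl
      tS := by
        intro s hs
        rw [mem_map_conj] at hs ⊢
        have e : k⁻¹ * (t * s * t⁻¹) * k = u * (k⁻¹ * s * k) * u⁻¹ := by rw [← hku]; group
        rw [e]
        exact (mem_normalizer_iff.1 hg _).1 hs
      US := by
        intro x hx s hs
        rw [mem_map_conj] at hs ⊢
        have h5 := haU x hx
        have h6 := (mem_normalizer_iff.1 h5 (a⁻¹ * s * a)).1 (by
          rw [hR1, mem_map_conj]
          have e : g⁻¹ * (a⁻¹ * s * a) * g = k⁻¹ * s * k := by rw [hk]; group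
          rw [e]; exact hs)
        rw [hR1, mem_map_conj] at h6
        have e : g⁻¹ * (a⁻¹ * x * a * (a⁻¹ * s * a) * (a⁻¹ * x * a)⁻¹) * g =
            k⁻¹ * (x * s * x⁻¹) * k := by
          rw [hk]; group
        rw [e] at h6
        exact h6
      fix := by
        have e : (J.map (MulAut.conj k).toMonoidHom ⊓ centralizer {t} : Subgroup G) =
            (J ⊓ centralizer {u} : Subgroup G).map (MulAut.conj k).toMonoidHom := by
          ext x
          rw [mem_fix, mem_map_conj, mem_map_conj, mem_fix]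
          constructor
          · rintro ⟨hx1, hx2⟩
            refine ⟨hx1, ?_⟩
            calc k⁻¹ * x * k * u = k⁻¹ * (x * t) * k := by rw [← hku]; group
              _ = u * (k⁻¹ * x * k) := by rw [hx2, ← hku]; group
          · rintro ⟨hx1, hx2⟩
            refine ⟨hx1, ?_⟩
            have hkt : k * u * k⁻¹ = t := by rw [← hku]; group
            calc x * t = k * (k⁻¹ * x * k * u) * k⁻¹ := by rw [← hkt]; group
              _ = t * x := by rw [hx2, ← hkt]; group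
        rw [e, card_map_conj]
        exact hfix }
  have hS := hconj.S_eq_R h
  have hkN : k ∈ normalizer (R : Set G) := by
    rw [mem_normalizer_iff]
    intro r
    constructor
    · intro hr
      rw [← hS, mem_map_conj]
      have : k⁻¹ * (k * r * k⁻¹) * k = r := by group
      rw [this]; exact hr
    · intro hr
      rw [← hS, mem_map_conj] at hr
      have : k⁻¹ * (k * r * k⁻¹) * k = r := by group
      rwa [this] at hr
  exact h3 k hkN hku.symm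

end Cfsg.Agent.GTwoFour.EndG
end

-- part: GTwoFour/EndX
section
/-!
# The facts on the 2-group `⟨t⟩ R` used at the end of the rank one case (S1751)

`RT Q1 Z J R t` only speaks about elements of `⟨t⟩ R`; it is transported along injective homomorphisms.
`RT.of_facts` proves it in the group of the growth argument.
-/

set_option autoImplicit false

namespace Cfsg.Agent.GTwoFour.EndX

open Subgroup
open scoped commutatorElement

structure RT {H : Type*} [Group H] (Q1 Z J R : Subgroup H) (t : H) : Prop where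
  t_sq : t * t = 1
  t_Q1 : ∀ q ∈ Q1, q * t = t * q
  Z_le : Z ≤ Q1
  J_le : J ≤ R
  Z_le_J : Z ≤ J
  Q1_le_R : Q1 ≤ R
  card_R : Nat.card R = 2 ^ 20
  card_J : Nat.card J = 16
  J_sq : ∀ w ∈ J, w * w = 1
  J_comm : ∀ r ∈ R, ∀ w ∈ J, r * w = w * r
  J_t : ∀ w ∈ J, ⁅w, t⁆ ∈ Z
  J_onto : ∀ z ∈ Z, ∃ w ∈ J, ⁅w, t⁆ = z
  R_comm : ∀ r ∈ R, ∀ r' ∈ R, ⁅r, r'⁆ ∈ J
  R_sq : ∀ r ∈ R, r * r ∈ J
  R_t : ∀ r ∈ R, ∃ q ∈ Q1, ∃ w ∈ J, ⁅r, t⁆ = q * w
  R_onto : ∀ q ∈ Q1, ∃ r ∈ R, ∃ w ∈ J, ⁅r, t⁆ = q * w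
  R_inter : ∀ q ∈ Q1, q ∈ J → q ∈ Z
  R_center : ∀ r ∈ R, (∀ s ∈ R, r * s = s * r) → r ∈ J
  tR : ∀ r ∈ R, t * r * t⁻¹ ∈ R

namespace RT

variable {H : Type*} [Group H]

theorem map {Q1 Z J R : Subgroup H} {t : H} (h : RT Q1 Z J R t) {G : Type*} [Group G] (ψ : H →* G)
    (hψ : Function.Injective ψ) :
    RT (Q1.map ψ) (Z.map ψ) (J.map ψ) (R.map ψ) (ψ t) := by
  have hc : ∀ X : Subgroup H, Nat.card (X.map ψ) = Nat.card X := fun X =>
    Nat.card_congr (X.equivMapOfInjective ψ hψ).toEquiv.symm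
  have hm : ∀ (X : Subgroup H) (x : H), ψ x ∈ X.map ψ ↔ x ∈ X := by
    intro X x
    constructor
    · rintro ⟨y, hy, e⟩
      rwa [← hψ e]
    · exact fun hx => mem_map_of_mem ψ hx
  refine
    { t_sq := by rw [← map_mul, h.t_sq, map_one]
      t_Q1 := ?_
      Z_le := map_mono h.Z_le
      J_le := map_mono h.J_le
      Z_le_J := map_mono h.Z_le_J
      Q1_le_R := map_mono h.Q1_le_R
      card_R := by rw [hc, h.card_R]
      card_J := by rw [hc, h.card_J]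
      J_sq := ?_
      J_comm := ?_
      J_t := ?_
      J_onto := ?_
      R_comm := ?_
      R_sq := ?_
      R_t := ?_
      R_onto := ?_
      R_inter := ?_
      R_center := ?_
      tR := ?_ }
  · rintro _ ⟨q, hq, rfl⟩
    rw [← map_mul, ← map_mul, h.t_Q1 q hq]
  · rintro _ ⟨w, hw, rfl⟩
    rw [← map_mul, h.J_sq w hw, map_one]
  · rintro _ ⟨r, hr, rfl⟩ _ ⟨w, hw, rfl⟩
    rw [← map_mul, ← map_mul, h.J_comm r hr w hw]
  · rintro _ ⟨w, hw, rfl⟩
    rw [← map_commutatorElement, hm]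
    exact h.J_t w hw
  · rintro _ ⟨z, hz, rfl⟩
    obtain ⟨w, hw, e⟩ := h.J_onto z hz
    exact ⟨ψ w, mem_map_of_mem ψ hw, by rw [← map_commutatorElement, e]⟩
  · rintro _ ⟨r, hr, rfl⟩ _ ⟨r', hr', rfl⟩
    rw [← map_commutatorElement, hm]
    exact h.R_comm r hr r' hr'
  · rintro _ ⟨r, hr, rfl⟩
    rw [← map_mul, hm]
    exact h.R_sq r hr
  · rintro _ ⟨r, hr, rfl⟩
    obtain ⟨q, hq, w, hw, e⟩ := h.R_t r hr
    exact ⟨ψ q, mem_map_of_mem ψ hq, ψ w, mem_map_of_mem ψ hw, by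
      rw [← map_commutatorElement, e, map_mul]⟩
  · rintro _ ⟨q, hq, rfl⟩
    obtain ⟨r, hr, w, hw, e⟩ := h.R_onto q hq
    exact ⟨ψ r, mem_map_of_mem ψ hr, ψ w, mem_map_of_mem ψ hw, by
      rw [← map_commutatorElement, e, map_mul]⟩
  · rintro _ ⟨q, hq, rfl⟩ hqJ
    rw [hm] at hqJ ⊢
    exact h.R_inter q hq hqJ
  · rintro _ ⟨r, hr, rfl⟩ hrc
    rw [hm]
    apply h.R_center r hr
    intro s hs
    apply hψ
    rw [map_mul, map_mul]
    exact hrc _ (mem_map_of_mem ψ hs)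
  · rintro _ ⟨r, hr, rfl⟩
    rw [← map_inv, ← map_mul, ← map_mul, hm]
    exact h.tR r hr

/-- restriction to a subgroup containing `t` and `R` -/
theorem subgroupOf {Q1 Z J R : Subgroup H} {t : H} (h : RT Q1 Z J R t) (M : Subgroup H) (hR : R ≤ M)
    (ht : t ∈ M) : RT (Q1.subgroupOf M) (Z.subgroupOf M) (J.subgroupOf M) (R.subgroupOf M) ⟨t, ht⟩ := by
  have hc : ∀ X : Subgroup H, X ≤ M → Nat.card (X.subgroupOf M) = Nat.card X := fun X hX =>
    Nat.card_congr (subgroupOfEquivOfLe hX).toEquiv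
  have hQ : Q1 ≤ M := h.Q1_le_R.trans hR
  have hJ : J ≤ M := h.J_le.trans hR
  refine
    { t_sq := Subtype.ext h.t_sq
      t_Q1 := fun q hq => Subtype.ext (h.t_Q1 q hq)
      Z_le := fun x hx => h.Z_le hx
      J_le := fun x hx => h.J_le hx
      Z_le_J := fun x hx => h.Z_le_J hx
      Q1_le_R := fun x hx => h.Q1_le_R hx
      card_R := by rw [hc R hR, h.card_R]
      card_J := by rw [hc J hJ, h.card_J]
      J_sq := fun w hw => Subtype.ext (h.J_sq w hw)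
      J_comm := fun r hr w hw => Subtype.ext (h.J_comm r hr w hw)
      J_t := fun w hw => h.J_t w hw
      J_onto := ?_
      R_comm := fun r hr r' hr' => h.R_comm r hr r' hr'
      R_sq := fun r hr => h.R_sq r hr
      R_t := ?_
      R_onto := ?_
      R_inter := fun q hq hqJ => h.R_inter q hq hqJ
      R_center := ?_
      tR := fun r hr => h.tR r hr }
  · intro z hz
    obtain ⟨w, hw, e⟩ := h.J_onto z hz
    exact ⟨⟨w, hJ hw⟩, hw, Subtype.ext e⟩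
  · intro r hr
    obtain ⟨q, hq, w, hw, e⟩ := h.R_t r hr
    exact ⟨⟨q, hQ hq⟩, hq, ⟨w, hJ hw⟩, hw, Subtype.ext e⟩
  · intro q hq
    obtain ⟨r, hr, w, hw, e⟩ := h.R_onto q hq
    exact ⟨⟨r, hR hr⟩, hr, ⟨w, hJ hw⟩, hw, Subtype.ext e⟩
  · intro r hr hrc
    apply h.R_center r hr
    intro s hs
    exact congrArg Subtype.val (hrc ⟨s, hR hs⟩ hs)

open Iface in
/-- **the facts in the group of the growth argument** -/
theorem of_facts {D : Data H} {t : H} {W0 V R : Subgroup H} (F : Facts D) (B : Big D t)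
    (W : WFacts D t W0) (hV : VFacts D t W0 V) (hR : RFacts D t W0 V R) :
    RT D.Q1 D.Z W0 R t := by
  have tR' : ∀ r ∈ R, ⁅r, t⁆ ∈ R := by
    intro r hr
    obtain ⟨q, hq, w, hw, e⟩ := hR.comm_t r hr
    rw [e]
    exact R.mul_mem (hR.Q1_le hq) (hR.W0_le hw)
  have tR : ∀ r ∈ R, t * r * t⁻¹ ∈ R := by
    intro r hr
    have h1 := R.mul_mem (R.inv_mem (tR' r hr)) hr
    have e : ⁅r, t⁆⁻¹ * r = t * r * t⁻¹ := by rw [commutatorElement_def]; group
    rwa [e] at h1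
  refine
    { t_sq := B.t_sq
      t_Q1 := fun q hq => B.comm q (F.P_le (F.Q1_le hq))
      Z_le := F.Z_le
      J_le := hR.W0_le
      Z_le_J := W.Z_le
      Q1_le_R := hR.Q1_le
      card_R := hR.card
      card_J := W.card
      J_sq := fun w hw => hV.sq w (hV.le hw)
      J_comm := hR.cent_W0
      J_t := W.comm_t
      J_onto := W.onto
      R_comm := hR.comm
      R_sq := hR.sq
      R_t := hR.comm_t
      R_onto := hR.onto
      R_inter := hR.inter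
      R_center := ?_
      tR := tR }
  intro r hr hrc
  -- `t r t⁻¹` is central in `R`
  have h1 : ∀ s ∈ R, t * r⁻¹ * t⁻¹ * s = s * (t * r⁻¹ * t⁻¹) := by
    intro s hs
    have hs' : t⁻¹ * s * t ∈ R := by
      have ti : t⁻¹ = t := inv_eq_of_mul_eq_one_right B.t_sq
      have := tR s hs
      rw [ti] at this ⊢
      exact this
    have h2 := hrc _ hs'
    calc t * r⁻¹ * t⁻¹ * s = t * (r⁻¹ * (t⁻¹ * s * t * r) * r⁻¹) * t⁻¹ := by group
      _ = t * (r⁻¹ * (r * (t⁻¹ * s * t)) * r⁻¹) * t⁻¹ := by rw [h2]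
      _ = s * (t * r⁻¹ * t⁻¹) := by group
  have h3 : ∀ s ∈ R, ⁅r, t⁆ * s = s * ⁅r, t⁆ := by
    intro s hs
    calc ⁅r, t⁆ * s = r * (t * r⁻¹ * t⁻¹ * s) := by rw [commutatorElement_def]; group
      _ = r * s * (t * r⁻¹ * t⁻¹) := by rw [h1 s hs]; group
      _ = s * ⁅r, t⁆ := by rw [hrc s hs, commutatorElement_def]; group
  obtain ⟨q, hq, w, hw, e⟩ := hR.comm_t r hr
  have h4 : q ∈ D.Z := by
    apply F.center_Q1 q hq
    intro q' hq'
    have h5 := h3 q' (hR.Q1_le hq')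
    have h6 := hR.cent_W0 q' (hR.Q1_le hq') w hw
    rw [e] at h5
    have : q * q' * w = q' * q * w := by
      calc q * q' * w = q * (q' * w) := by group
        _ = q * w * q' := by rw [h6]; group
        _ = q' * (q * w) := h5
        _ = q' * q * w := by group
    exact mul_right_cancel this
  have h7 : ⁅r, t⁆ ∈ W0 := by
    rw [e]
    exact W0.mul_mem (W.Z_le h4) hw
  obtain ⟨q2, hq2, w2, hw2, e2⟩ := hR.ker r hr h7
  have h8 : q2 ∈ D.Z := by
    apply F.center_Q1 q2 hq2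
    intro q' hq'
    have h5 := hrc q' (hR.Q1_le hq')
    have h6 := hR.cent_W0 q' (hR.Q1_le hq') w2 hw2
    rw [e2] at h5
    have : q2 * q' * w2 = q' * q2 * w2 := by
      calc q2 * q' * w2 = q2 * (q' * w2) := by group
        _ = q2 * w2 * q' := by rw [h6]; group
        _ = q' * (q2 * w2) := h5
        _ = q' * q2 * w2 := by group
    exact mul_right_cancel this
  rw [e2]
  exact W0.mul_mem (W.Z_le h8) hw2

end RT

end Cfsg.Agent.GTwoFour.EndX
end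

-- part: GTwoFour/GrowR
section
/-!
# Step (3) of the growth argument: the group `R` of order `2^20`
-/

set_option autoImplicit false

namespace Cfsg.Agent.GTwoFour.GrowR

open Subgroup Iface
open scoped commutatorElement

variable {H : Type*} [Group H] {D : Data H} {t : H} {W0 V : Subgroup H}

/-! ## Generalities -/

lemma comm_mul_left (a b c : H) : ⁅a * b, c⁆ = a * ⁅b, c⁆ * a⁻¹ * ⁅a, c⁆ := by
  simp only [commutatorElement_def]; group

lemma comm_mul_right (a b c : H) : ⁅a, b * c⁆ = ⁅a, b⁆ * (b * ⁅a, c⁆ * b⁻¹) := by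
  simp only [commutatorElement_def]; group

lemma comm_inv_left (a b : H) : ⁅a⁻¹, b⁆ = a⁻¹ * ⁅a, b⁆⁻¹ * a := by
  simp only [commutatorElement_def]; group

lemma conj_comm (p a b : H) : p * ⁅a, b⁆ * p⁻¹ = ⁅p * a * p⁻¹, p * b * p⁻¹⁆ := by
  simp only [commutatorElement_def]; group

lemma conj_of_comm {p a : H} (h : p * a = a * p) : p * a * p⁻¹ = a := by
  rw [h]; group

lemma P_t (F : Facts D) (B : Big D t) {p : H} (hp : p ∈ D.P) : p * t = t * p :=
  B.comm p (F.P_le hp)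

lemma Xa_P (F : Facts D) {x : H} (hx : x ∈ D.Xa) : x ∈ D.P := (F.Q2_le (F.Xa_le hx)).1

lemma W4_Q1 (F : Facts D) : D.W4 ≤ D.Q1 := sup_le F.Z_le F.Xe_le

lemma P_Z (F : Facts D) {p : H} (hp : p ∈ D.P) {z : H} (hz : z ∈ D.Z) : p * z = z * p :=
  (F.cent_Z p (F.P_le hp)).2 hp z hz

lemma mem_W4 (F : Facts D) {x : H} (hx : x ∈ D.W4) : ∃ z ∈ D.Z, ∃ e ∈ D.Xe, x = z * e := by
  let N : Subgroup H :=
    { carrier := {x | ∃ z ∈ D.Z, ∃ e ∈ D.Xe, x = z * e}
      one_mem' := ⟨1, one_mem _, 1, one_mem _, by simp⟩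
      mul_mem' := by
        rintro _ _ ⟨z, hz, e, he, rfl⟩ ⟨z', hz', e', he', rfl⟩
        refine ⟨z * z', mul_mem hz hz', e * e', mul_mem he he', ?_⟩
        have := P_Z F (F.Q1_le (F.Xe_le he)) hz'
        calc z * e * (z' * e') = z * (e * z') * e' := by group
          _ = z * z' * (e * e') := by rw [this]; group
      inv_mem' := by
        rintro _ ⟨z, hz, e, he, rfl⟩
        refine ⟨z⁻¹, inv_mem hz, e⁻¹, inv_mem he, ?_⟩
        rw [mul_inv_rev]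
        exact P_Z F (F.Q1_le (F.Xe_le (inv_mem he))) (inv_mem hz) }
  have hle : D.W4 ≤ N :=
    sup_le (fun q hq => ⟨q, hq, 1, one_mem _, by simp⟩)
      (fun w hw => ⟨1, one_mem _, w, hw, by simp⟩)
  exact hle hx

lemma mem_N (F : Facts D) (W : WFacts D t W0) {x : H} :
    x ∈ D.Q1 ⊔ W0 ↔ ∃ q ∈ D.Q1, ∃ w ∈ W0, x = q * w := by
  constructor
  · intro hx
    let N : Subgroup H :=
      { carrier := {x | ∃ q ∈ D.Q1, ∃ w ∈ W0, x = q * w}
        one_mem' := ⟨1, one_mem _, 1, one_mem _, by simp⟩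
        mul_mem' := by
          rintro _ _ ⟨q, hq, w, hw, rfl⟩ ⟨q', hq', w', hw', rfl⟩
          refine ⟨q * q', mul_mem hq hq', w * w', mul_mem hw hw', ?_⟩
          have := W.cent_P w hw q' (F.Q1_le hq')
          calc q * w * (q' * w') = q * (w * q') * w' := by group
            _ = q * q' * (w * w') := by rw [this]; group
        inv_mem' := by
          rintro _ ⟨q, hq, w, hw, rfl⟩
          refine ⟨q⁻¹, inv_mem hq, w⁻¹, inv_mem hw, ?_⟩
          rw [mul_inv_rev]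
          exact W.cent_P _ (inv_mem hw) _ (F.Q1_le (inv_mem hq)) }
    have hle : D.Q1 ⊔ W0 ≤ N :=
      sup_le (fun q hq => ⟨q, hq, 1, one_mem _, by simp⟩)
        (fun w hw => ⟨1, one_mem _, w, hw, by simp⟩)
    exact hle hx
  · rintro ⟨q, hq, w, hw, rfl⟩
    exact mul_mem (mem_sup_left hq) (mem_sup_right hw)

/-! ## `Q1 ∩ W0 = Z` -/

/-- `w ↦ [w, t]` on `W0` -/
def tHom (W : WFacts D t W0) : W0 →* D.Z where
  toFun w := ⟨⁅(w : H), t⁆, W.comm_t w w.2⟩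
  map_one' := by ext; simp
  map_mul' a b := by
    ext
    simp only [Subgroup.coe_mul]
    rw [comm_mul_left]
    have h1 : (a : H) * ⁅(b : H), t⁆ = ⁅(b : H), t⁆ * a :=
      W.comm a a.2 _ (W.Z_le (W.comm_t b b.2))
    rw [h1, mul_inv_cancel_right]
    exact W.comm _ (W.Z_le (W.comm_t b b.2)) _ (W.Z_le (W.comm_t a a.2))

lemma tHom_surj (W : WFacts D t W0) : Function.Surjective (tHom W) := by
  rintro ⟨z, hz⟩
  obtain ⟨w, hw, h⟩ := W.onto z hz
  exact ⟨⟨w, hw⟩, Subtype.ext h⟩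

lemma cent_t_W0 [Finite H] (F : Facts D) (B : Big D t) (W : WFacts D t W0) {w : H} (hw : w ∈ W0)
    (h : w * t = t * w) : w ∈ D.Z := by
  have hle : D.Z.subgroupOf W0 ≤ (tHom W).ker := by
    intro z hz
    rw [mem_subgroupOf] at hz
    rw [MonoidHom.mem_ker]
    ext
    change ⁅(z : H), t⁆ = 1
    rw [commutatorElement_eq_one_iff_mul_comm]
    exact P_t F B (F.Q1_le (F.Z_le hz))
  have hc : Nat.card (tHom W).ker = 4 := by
    have h1 := Subgroup.card_eq_card_quotient_mul_card_subgroup (tHom W).ker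
    have h2 := Nat.card_congr
      (QuotientGroup.quotientKerEquivOfSurjective (tHom W) (tHom_surj W)).toEquiv
    rw [h2, W.card, F.card_Z] at h1
    omega
  have hcZ : Nat.card (D.Z.subgroupOf W0) = 4 := by
    rw [Nat.card_congr (Subgroup.subgroupOfEquivOfLe W.Z_le).toEquiv, F.card_Z]
  have he : D.Z.subgroupOf W0 = (tHom W).ker :=
    Subgroup.eq_of_le_of_card_ge hle (by rw [hc, hcZ])
  have : (⟨w, hw⟩ : W0) ∈ (tHom W).ker := by
    rw [MonoidHom.mem_ker]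
    ext
    change ⁅(w : H), t⁆ = 1
    rw [commutatorElement_eq_one_iff_mul_comm]
    exact h
  rw [← he, mem_subgroupOf] at this
  exact this

lemma inter [Finite H] (F : Facts D) (B : Big D t) (W : WFacts D t W0) {q : H} (hq : q ∈ D.Q1)
    (hw : q ∈ W0) : q ∈ D.Z :=
  cent_t_W0 F B W hw (P_t F B (F.Q1_le hq))

/-! ## The group `R` -/

lemma conj_N (F : Facts D) (W : WFacts D t W0) {r : H} (h1 : ∀ w ∈ W0, r * w = w * r)
    (h2 : ∀ q ∈ D.Q1, ⁅r, q⁆ ∈ W0) {n : H} (hn : n ∈ D.Q1 ⊔ W0) :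
    ∃ w ∈ W0, r * n * r⁻¹ = w * n := by
  obtain ⟨q, hq, w, hw, rfl⟩ := (mem_N F W).1 hn
  refine ⟨⁅r, q⁆, h2 q hq, ?_⟩
  have h3 := conj_of_comm (h1 w hw)
  calc r * (q * w) * r⁻¹ = (r * q * r⁻¹) * (r * w * r⁻¹) := by group
    _ = (r * q * r⁻¹) * w := by rw [h3]
    _ = ⁅r, q⁆ * (q * w) := by simp only [commutatorElement_def]; group

lemma conj_N_mem (F : Facts D) (W : WFacts D t W0) {r : H} (h1 : ∀ w ∈ W0, r * w = w * r)
    (h2 : ∀ q ∈ D.Q1, ⁅r, q⁆ ∈ W0) {n : H} (hn : n ∈ D.Q1 ⊔ W0) :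
    r * n * r⁻¹ ∈ D.Q1 ⊔ W0 := by
  obtain ⟨w, hw, h⟩ := conj_N F W h1 h2 hn
  rw [h]
  exact mul_mem (mem_sup_right hw) hn

/-- the subgroup `R` -/
def rGrp (F : Facts D) (W : WFacts D t W0) : Subgroup H where
  carrier := {r | (∀ w ∈ W0, r * w = w * r) ∧ (∀ q ∈ D.Q1, ⁅r, q⁆ ∈ W0) ∧ ⁅r, t⁆ ∈ D.Q1 ⊔ W0}
  one_mem' := by
    refine ⟨fun w _ => by simp, fun q _ => by simp, by simp⟩
  mul_mem' := by
    rintro a b ⟨a1, a2, a3⟩ ⟨b1, b2, b3⟩
    refine ⟨fun w hw => ?_, fun q hq => ?_, ?_⟩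
    · rw [mul_assoc, b1 w hw, ← mul_assoc, a1 w hw, mul_assoc]
    · rw [comm_mul_left, conj_of_comm (a1 _ (b2 q hq))]
      exact mul_mem (b2 q hq) (a2 q hq)
    · rw [comm_mul_left]
      exact mul_mem (conj_N_mem F W a1 a2 b3) a3
  inv_mem' := by
    rintro a ⟨a1, a2, a3⟩
    have i1 : ∀ w ∈ W0, a⁻¹ * w = w * a⁻¹ := fun w hw => by
      have := a1 w hw
      calc a⁻¹ * w = a⁻¹ * (w * a) * a⁻¹ := by group
        _ = w * a⁻¹ := by rw [← this]; group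
    have i2 : ∀ q ∈ D.Q1, ⁅a⁻¹, q⁆ ∈ W0 := fun q hq => by
      rw [comm_inv_left, i1 _ (inv_mem (a2 q hq)), inv_mul_cancel_right]
      exact inv_mem (a2 q hq)
    refine ⟨i1, i2, ?_⟩
    rw [comm_inv_left]
    have := conj_N_mem F W i1 i2 (inv_mem a3)
    rwa [inv_inv] at this

lemma R_conj_N (F : Facts D) (W : WFacts D t W0) {r : H} (hr : r ∈ rGrp F W) {n : H}
    (hn : n ∈ D.Q1 ⊔ W0) : ∃ w ∈ W0, r * n * r⁻¹ = w * n :=
  conj_N F W hr.1 hr.2.1 hn

lemma W0_R (F : Facts D) (W : WFacts D t W0) : W0 ≤ rGrp F W := by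
  intro w hw
  refine ⟨fun w' hw' => W.comm w hw w' hw', fun q hq => ?_, ?_⟩
  · have : ⁅w, q⁆ = 1 := by
      rw [commutatorElement_eq_one_iff_mul_comm]
      exact W.cent_P w hw q (F.Q1_le hq)
    rw [this]; exact one_mem _
  · exact mem_sup_right (W.Z_le (W.comm_t w hw))

lemma Q1_R (F : Facts D) (B : Big D t) (W : WFacts D t W0) : D.Q1 ≤ rGrp F W := by
  intro q hq
  refine ⟨fun w' hw' => (W.cent_P w' hw' q (F.Q1_le hq)).symm, fun q' hq' => ?_, ?_⟩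
  · exact W.Z_le (F.comm_Q1 q hq q' hq')
  · have : ⁅q, t⁆ = 1 := by
      rw [commutatorElement_eq_one_iff_mul_comm]
      exact P_t F B (F.Q1_le hq)
    rw [this]; exact one_mem _

lemma N_R (F : Facts D) (B : Big D t) (W : WFacts D t W0) : D.Q1 ⊔ W0 ≤ rGrp F W :=
  sup_le (Q1_R F B W) (W0_R F W)

lemma P_R (F : Facts D) (B : Big D t) (W : WFacts D t W0) {p : H} (hp : p ∈ D.P) {r : H}
    (hr : r ∈ rGrp F W) : p * r * p⁻¹ ∈ rGrp F W := by
  have hW : ∀ w ∈ W0, p * w * p⁻¹ = w := fun w hw => conj_of_comm (W.cent_P w hw p hp).symm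
  have hN : ∀ n ∈ D.Q1 ⊔ W0, p * n * p⁻¹ ∈ D.Q1 ⊔ W0 := by
    intro n hn
    obtain ⟨q, hq, w, hw, rfl⟩ := (mem_N F W).1 hn
    have : p * (q * w) * p⁻¹ = (p * q * p⁻¹) * (p * w * p⁻¹) := by group
    rw [this, hW w hw]
    exact mul_mem (mem_sup_left (F.norm_Q1 p hp q hq)) (mem_sup_right hw)
  obtain ⟨h1, h2, h3⟩ := hr
  refine ⟨fun w hw => ?_, fun q hq => ?_, ?_⟩
  · have e1 := W.cent_P w hw p hp
    have e2 := W.cent_P w hw p⁻¹ (inv_mem hp)
    calc p * r * p⁻¹ * w = p * r * (w * p⁻¹) := by rw [mul_assoc, ← e2]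
      _ = p * (w * r) * p⁻¹ := by rw [← h1 w hw]; group
      _ = w * (p * r * p⁻¹) := by rw [← mul_assoc, ← e1]; group
  · have hq' : p⁻¹ * q * p ∈ D.Q1 := by
      have := F.norm_Q1 p⁻¹ (inv_mem hp) q hq
      rwa [inv_inv] at this
    have : ⁅p * r * p⁻¹, q⁆ = p * ⁅r, p⁻¹ * q * p⁆ * p⁻¹ := by
      rw [conj_comm]; congr 1; group
    rw [this, hW _ (h2 _ hq')]
    exact h2 _ hq'
  · have : ⁅p * r * p⁻¹, t⁆ = p * ⁅r, t⁆ * p⁻¹ := by
      rw [conj_comm, conj_of_comm (P_t F B hp)]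
    rw [this]
    exact hN _ h3

lemma V_R (F : Facts D) (W : WFacts D t W0) (hV : VFacts D t W0 V) :
    V ≤ rGrp F W := by
  intro v hv
  refine ⟨fun w hw => hV.comm v hv w (hV.le hw), fun q hq => ?_, ?_⟩
  · obtain ⟨x, hx, q', hq', rfl⟩ := F.decomp_Q1 q hq
    rw [comm_mul_right]
    have h1 : ⁅v, q'⁆ = 1 := by
      rw [commutatorElement_eq_one_iff_mul_comm]
      exact hV.cent_L2 v hv q' (F.Q2_le (F.Q12_le hq'))
    rw [h1, mul_one, mul_inv_cancel, mul_one]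
    exact hV.Xb_mem x hx v hv
  · exact mem_sup_left (W4_Q1 F (hV.comm_t v hv))

lemma t_notMem_R (F : Facts D) (W : WFacts D t W0) : t ∉ rGrp F W := by
  intro h
  have h1 : D.Z = ⊥ := by
    rw [eq_bot_iff]
    intro z hz
    obtain ⟨w, hw, hwz⟩ := W.onto z hz
    rw [mem_bot, ← hwz, commutatorElement_eq_one_iff_mul_comm]
    exact (h.1 w hw).symm
  have h2 := F.card_Z
  rw [h1] at h2
  simp at h2

/-! ## Counting -/

lemma relIndex_mul_card' (N R : Subgroup H) (h : N ≤ R) :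
    N.relIndex R * Nat.card N = Nat.card R := by
  have h1 := (N.subgroupOf R).index_mul_card
  rw [Nat.card_congr (Subgroup.subgroupOfEquivOfLe h).toEquiv] at h1
  exact h1

/-- comparison of the number of cosets along a map -/
lemma relIndex_eq_of_map {R N K L : Subgroup H} (g : H → H)
    (hg : ∀ r ∈ R, g r ∈ K) (h : ∀ r ∈ R, ∀ r' ∈ R, r⁻¹ * r' ∈ N ↔ (g r)⁻¹ * g r' ∈ L)
    (hs : ∀ k ∈ K, ∃ r ∈ R, (g r)⁻¹ * k ∈ L) : N.relIndex R = L.relIndex K := by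
  let G : R → K := fun r => ⟨g r, hg r r.2⟩
  have key : ∀ a b : R, (QuotientGroup.leftRel (N.subgroupOf R)) a b ↔
      (QuotientGroup.leftRel (L.subgroupOf K)) (G a) (G b) := by
    intro a b
    rw [QuotientGroup.leftRel_apply, QuotientGroup.leftRel_apply, mem_subgroupOf, mem_subgroupOf]
    exact h a a.2 b b.2
  let Φ : (R ⧸ N.subgroupOf R) → (K ⧸ L.subgroupOf K) :=
    Quotient.map' G (fun a b hab => (key a b).1 hab)
  have hΦ : Function.Bijective Φ := by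
    constructor
    · intro a b
      refine Quotient.inductionOn₂' a b ?_
      intro a b hab
      exact Quotient.sound' ((key a b).2 (Quotient.exact' hab))
    · intro k
      refine Quotient.inductionOn' k ?_
      rintro ⟨k, hk⟩
      obtain ⟨r, hr, hrk⟩ := hs k hk
      refine ⟨Quotient.mk'' ⟨r, hr⟩, ?_⟩
      refine Quotient.sound' ?_
      rw [QuotientGroup.leftRel_apply, mem_subgroupOf]
      exact hrk
  exact Nat.card_congr (Equiv.ofBijective Φ hΦ)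

lemma relIndex_Z_Q1 [Finite H] (F : Facts D) : D.Z.relIndex D.Q1 = 256 := by
  have h := relIndex_mul_card' D.Z D.Q1 F.Z_le
  rw [F.card_Z, F.card_Q1] at h
  omega

lemma relIndex_W0_N [Finite H] (F : Facts D) (B : Big D t) (W : WFacts D t W0) :
    W0.relIndex (D.Q1 ⊔ W0) = 256 := by
  rw [← relIndex_Z_Q1 F]
  symm
  refine relIndex_eq_of_map id (fun r hr => mem_sup_left hr) ?_ ?_
  · intro r hr r' hr'
    exact ⟨fun h => W.Z_le h, fun h => inter F B W (mul_mem (inv_mem hr) hr') h⟩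
  · intro k hk
    obtain ⟨q, hq, w, hw, rfl⟩ := (mem_N F W).1 hk
    exact ⟨q, hq, by simpa using hw⟩

lemma card_N [Finite H] (F : Facts D) (B : Big D t) (W : WFacts D t W0) :
    Nat.card (D.Q1 ⊔ W0 : Subgroup H) = 4096 := by
  have h := relIndex_mul_card' W0 (D.Q1 ⊔ W0) le_sup_right
  rw [relIndex_W0_N F B W, W.card] at h
  omega

/-! ## The kernel of `r ↦ [r, t] W0` -/

lemma ker_of_mem_N (F : Facts D) (B : Big D t) (W : WFacts D t W0) {n : H}
    (hn : n ∈ D.Q1 ⊔ W0) : ⁅n, t⁆ ∈ W0 := by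
  obtain ⟨q, hq, w, hw, rfl⟩ := (mem_N F W).1 hn
  rw [comm_mul_left]
  have h1 : ⁅q, t⁆ = 1 := by
    rw [commutatorElement_eq_one_iff_mul_comm]
    exact P_t F B (F.Q1_le hq)
  rw [h1, mul_one]
  have h2 := W.cent_P _ (W.Z_le (W.comm_t w hw)) q (F.Q1_le hq)
  rw [conj_of_comm h2.symm]
  exact W.Z_le (W.comm_t w hw)

lemma ker_R [Finite H] (F : Facts D) (B : Big D t) (W : WFacts D t W0) (hV : VFacts D t W0 V)
    {r : H} (hr : r ∈ rGrp F W) (h : ⁅r, t⁆ ∈ W0) : r ∈ D.Q1 ⊔ W0 := by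
  -- `w := [r,t]` is inverted by `t`, so centralised by `t`
  set w := ⁅r, t⁆ with hw
  have e1 : r * t * r⁻¹ = w * t := by
    rw [hw, commutatorElement_def]; group
  have e2 : (w * t) * (w * t) = 1 := by
    rw [← e1]
    calc r * t * r⁻¹ * (r * t * r⁻¹) = r * (t * t) * r⁻¹ := by group
      _ = 1 := by rw [B.t_sq]; group
  have e3 : w * w = 1 := hV.sq w (hV.le h)
  have e4 : w * t = t * w := by
    have ht : t⁻¹ = t := inv_eq_of_mul_eq_one_right B.t_sq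
    have hw' : w⁻¹ = w := inv_eq_of_mul_eq_one_right e3
    have : (w * t)⁻¹ = w * t := inv_eq_of_mul_eq_one_right e2
    rw [← this, mul_inv_rev, ht, hw']
  have e5 : w ∈ D.Z := cent_t_W0 F B W h e4
  obtain ⟨w', hw', hww⟩ := W.onto w e5
  -- `g := w'⁻¹ r` commutes with `t`
  have e6 : w' * t * w'⁻¹ = w * t := by
    rw [← hww, commutatorElement_def]; group
  have e7 : (w'⁻¹ * r) * t = t * (w'⁻¹ * r) := by
    have : r * t = w' * t * w'⁻¹ * r := by
      rw [e6, ← e1]; group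
    calc w'⁻¹ * r * t = w'⁻¹ * (r * t) := by group
      _ = t * (w'⁻¹ * r) := by rw [this]; group
  have hgR : w'⁻¹ * r ∈ rGrp F W := mul_mem (inv_mem (W0_R F W hw')) hr
  have e8 : ∀ z ∈ D.Z, (w'⁻¹ * r) * z = z * (w'⁻¹ * r) := fun z hz => hgR.1 z (W.Z_le hz)
  have e9 : w'⁻¹ * r ∈ D.P := by
    rcases B.cent _ e7 e8 with h | h
    · exact h
    · exfalso
      refine t_notMem_R F W ?_
      have h1 : t = (t * (w'⁻¹ * r)) * (w'⁻¹ * r)⁻¹ := by group
      have hcent : ∀ w ∈ W0, t * w = w * t := by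
        intro w1 hw1
        have a1 := (W.cent_P w1 hw1 _ h)
        have a2 := ((inv_mem hgR) : (w'⁻¹ * r)⁻¹ ∈ rGrp F W).1 w1 hw1
        rw [h1]
        calc t * (w'⁻¹ * r) * (w'⁻¹ * r)⁻¹ * w1 = t * (w'⁻¹ * r) * ((w'⁻¹ * r)⁻¹ * w1) := by group
          _ = (t * (w'⁻¹ * r) * w1) * (w'⁻¹ * r)⁻¹ := by rw [a2]; group
          _ = w1 * (t * (w'⁻¹ * r) * (w'⁻¹ * r)⁻¹) := by rw [← a1]; group
      exfalso
      have hZ : D.Z = ⊥ := by
        rw [eq_bot_iff]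
        intro z hz
        obtain ⟨w, hw, hwz⟩ := W.onto z hz
        rw [mem_bot, ← hwz, commutatorElement_eq_one_iff_mul_comm]
        exact (hcent w hw).symm
      have h2 := F.card_Z
      rw [hZ] at h2
      simp at h2
  have e10 : w'⁻¹ * r ∈ D.Q1 := by
    refine F.cent_Q1Z _ e9 (fun q hq => ?_)
    refine inter F B W ?_ (hgR.2.1 q hq)
    rw [commutatorElement_def]
    exact mul_mem (F.norm_Q1 _ e9 q hq) (inv_mem hq)
  have : r = w' * (w'⁻¹ * r) := by group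
  rw [this]
  exact mul_mem (mem_sup_right hw') (mem_sup_left e10)

/-! ## Surjectivity, generation -/

/-- elements of `Q1` which are hit by `K ≤ R` -/
lemma onto_of [Finite H] (F : Facts D) (B : Big D t) (W : WFacts D t W0) (hV : VFacts D t W0 V)
    (K : Subgroup H) (hK : K ≤ rGrp F W) (hW : W0 ≤ K)
    (hP : ∀ p ∈ D.P, ∀ v ∈ V, p * v * p⁻¹ ∈ K) :
    ∀ q ∈ D.Q1, ∃ r ∈ K, ∃ w ∈ W0, ⁅r, t⁆ = q * w := by
  let M : Subgroup H :=
    { carrier := {q | q ∈ D.Q1 ∧ ∃ r ∈ K, ∃ w ∈ W0, ⁅r, t⁆ = q * w}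
      one_mem' := ⟨one_mem _, 1, one_mem _, 1, one_mem _, by simp⟩
      mul_mem' := by
        rintro q q' ⟨hq, r, hr, w, hw, h⟩ ⟨hq', r', hr', w', hw', h'⟩
        refine ⟨mul_mem hq hq', ?_⟩
        refine ⟨r * r', mul_mem hr hr', ?_⟩
        obtain ⟨w1, hw1, h1⟩ := R_conj_N F W (hK hr)
          (mul_mem (mem_sup_left hq') (mem_sup_right hw') : q' * w' ∈ D.Q1 ⊔ W0)
        rw [comm_mul_left, h, h', h1]
        have hc : ⁅q', q⁆ ∈ W0 := W.Z_le (F.comm_Q1 q' hq' q hq)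
        refine ⟨w1 * w' * w * ⁅q', q⁆, mul_mem (mul_mem (mul_mem hw1 hw') hw) hc, ?_⟩
        have c1 := W.cent_P _ hc (q * q') (mul_mem (F.Q1_le hq) (F.Q1_le hq'))
        have c2 := W.cent_P _ (mul_mem hw1 hw') (q' * q) (mul_mem (F.Q1_le hq') (F.Q1_le hq))
        have c3 := W.cent_P _ hw' q (F.Q1_le hq)
        have c4 := W.comm _ (mul_mem (mul_mem hw1 hw') hw) _ hc
        have c5 : q' * q = ⁅q', q⁆ * (q * q') := by
          rw [commutatorElement_def]; group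
        calc w1 * (q' * w') * (q * w) = w1 * q' * (w' * q) * w := by group
          _ = w1 * (q' * q) * w' * w := by rw [c3]; group
          _ = w1 * (⁅q', q⁆ * (q * q')) * w' * w := by rw [c5]
          _ = (w1 * ((q * q') * ⁅q', q⁆)) * w' * w := by rw [c1]
          _ = (w1 * (q * q')) * ⁅q', q⁆ * w' * w := by group
          _ = ((q * q') * w1) * ⁅q', q⁆ * w' * w := by
            rw [W.cent_P _ hw1 (q * q') (mul_mem (F.Q1_le hq) (F.Q1_le hq'))]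
          _ = (q * q') * (w1 * (⁅q', q⁆ * (w' * w))) := by group
          _ = (q * q') * (w1 * ((w' * w) * ⁅q', q⁆)) := by
            rw [W.comm _ hc _ (mul_mem hw' hw)]
          _ = q * q' * (w1 * w' * w * ⁅q', q⁆) := by group
      inv_mem' := by
        rintro q ⟨hq, r, hr, w, hw, h⟩
        refine ⟨inv_mem hq, r⁻¹, inv_mem hr, ?_⟩
        have hn : (q * w)⁻¹ ∈ D.Q1 ⊔ W0 := inv_mem (mul_mem (mem_sup_left hq) (mem_sup_right hw))
        obtain ⟨w1, hw1, h1⟩ := R_conj_N F W (inv_mem (hK hr)) hn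
        rw [inv_inv] at h1
        refine ⟨w1 * w⁻¹, mul_mem hw1 (inv_mem hw), ?_⟩
        rw [comm_inv_left, h, h1]
        have c1 := W.cent_P _ (mul_mem hw1 (inv_mem hw)) q⁻¹ (F.Q1_le (inv_mem hq))
        rw [← c1, mul_inv_rev]; group }
  have hle : D.Q1 ≤ M := by
    refine F.gen_Q1 M ?_ ?_
    · intro z hz
      obtain ⟨w, hw, h⟩ := W.onto z hz
      exact ⟨F.Z_le hz, w, hW hw, 1, one_mem _, by rw [h, mul_one]⟩
    · intro p hp e he
      obtain ⟨v, hv, h⟩ := hV.onto e (mem_sup_right he)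
      refine ⟨F.norm_Q1 p hp e (F.Xe_le he), p * v * p⁻¹, hP p hp v hv, 1, one_mem _, ?_⟩
      have : ⁅p * v * p⁻¹, t⁆ = p * ⁅v, t⁆ * p⁻¹ := by
        rw [conj_comm, conj_of_comm (P_t F B hp)]
      rw [this, h, mul_one]
  exact fun q hq => (hle hq).2

lemma gen_R [Finite H] (F : Facts D) (B : Big D t) (W : WFacts D t W0) (hV : VFacts D t W0 V)
    (K : Subgroup H) (hQ : D.Q1 ≤ K) (hW : W0 ≤ K)
    (hP : ∀ p ∈ D.P, ∀ v ∈ V, p * v * p⁻¹ ∈ K) : rGrp F W ≤ K := by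
  intro r hr
  obtain ⟨q, hq, w, hw, h⟩ := (mem_N F W).1 hr.2.2
  obtain ⟨s, ⟨hs, hsR⟩, w', hw', h'⟩ := onto_of F B W hV (K ⊓ rGrp F W) inf_le_right
    (le_inf hW (W0_R F W)) (fun p hp v hv => ⟨hP p hp v hv, P_R F B W hp (V_R F W hV hv)⟩) q hq
  have hN : s⁻¹ * r ∈ D.Q1 ⊔ W0 := by
    refine ker_R F B W hV (mul_mem (inv_mem hsR) hr) ?_
    have hn : q * w ∈ D.Q1 ⊔ W0 := mul_mem (mem_sup_left hq) (mem_sup_right hw)
    have hn' : (q * w')⁻¹ ∈ D.Q1 ⊔ W0 :=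
      inv_mem (mul_mem (mem_sup_left hq) (mem_sup_right hw'))
    obtain ⟨w1, hw1, h1⟩ := R_conj_N F W (inv_mem hsR) hn
    obtain ⟨w2, hw2, h2⟩ := R_conj_N F W (inv_mem hsR) hn'
    rw [inv_inv] at h1 h2
    rw [comm_mul_left, comm_inv_left, h, h', inv_inv, h1, h2]
    have : w1 * (q * w) * (w2 * (q * w')⁻¹) = w1 * (w2 * (w * w'⁻¹)) := by
      have c3 : (q * w) * w2 = w2 * (q * w) := by
        have := W.cent_P _ hw2 q (F.Q1_le hq)
        have := W.comm _ hw2 _ hw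
        grind
      have c4 : q * (w * w'⁻¹) * q⁻¹ = w * w'⁻¹ :=
        conj_of_comm (W.cent_P _ (mul_mem hw (inv_mem hw')) q (F.Q1_le hq)).symm
      calc w1 * (q * w) * (w2 * (q * w')⁻¹) = w1 * ((q * w) * w2) * (w'⁻¹ * q⁻¹) := by
            rw [mul_inv_rev]; group
        _ = w1 * (w2 * (q * (w * w'⁻¹) * q⁻¹)) := by rw [c3]; group
        _ = w1 * (w2 * (w * w'⁻¹)) := by rw [c4]
    rw [this]
    exact mul_mem hw1 (mul_mem hw2 (mul_mem hw (inv_mem hw')))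
  have hle : D.Q1 ⊔ W0 ≤ K := sup_le hQ hW
  have : r = s * (s⁻¹ * r) := by group
  rw [this]
  exact mul_mem hs (hle hN)

lemma card_R [Finite H] (F : Facts D) (B : Big D t) (W : WFacts D t W0) (hV : VFacts D t W0 V) :
    Nat.card (rGrp F W) = 2 ^ 20 := by
  have h1 : (D.Q1 ⊔ W0).relIndex (rGrp F W) = 256 := by
    rw [← relIndex_W0_N F B W]
    refine relIndex_eq_of_map (fun r => ⁅r, t⁆) (fun r hr => hr.2.2) ?_ ?_
    · intro r hr r' hr'
      have hs : r⁻¹ * r' ∈ rGrp F W := mul_mem (inv_mem hr) hr'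
      have e1 : ⁅r', t⁆ = r * ⁅r⁻¹ * r', t⁆ * r⁻¹ * ⁅r, t⁆ := by
        rw [← comm_mul_left]; congr 1; group
      obtain ⟨w, hw, e2⟩ := R_conj_N F W hr hs.2.2
      have hcent : ∀ n ∈ D.Q1 ⊔ W0, ∀ w ∈ W0, n⁻¹ * w * n = w := by
        intro n hn w hw
        have := ((inv_mem (N_R F B W hn)) : n⁻¹ ∈ rGrp F W).1 w hw
        rw [this]; group
      change r⁻¹ * r' ∈ D.Q1 ⊔ W0 ↔ ⁅r, t⁆⁻¹ * ⁅r', t⁆ ∈ W0
      rw [e1, e2]
      constructor
      · intro h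
        have h3 := ker_of_mem_N F B W h
        rw [← mul_assoc, hcent _ hr.2.2 _ (mul_mem hw h3)]
        exact mul_mem hw h3
      · intro h
        refine ker_R F B W hV hs ?_
        have h4 := hcent _ (inv_mem hr.2.2) _ h
        have h5 : (⁅r, t⁆⁻¹)⁻¹ * (⁅r, t⁆⁻¹ * (w * ⁅r⁻¹ * r', t⁆ * ⁅r, t⁆)) * ⁅r, t⁆⁻¹
            = w * ⁅r⁻¹ * r', t⁆ := by group
        rw [h5] at h4
        rw [← h4] at h
        exact (mul_mem_cancel_left hw).1 h
    · intro k hk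
      obtain ⟨q, hq, w, hw, rfl⟩ := (mem_N F W).1 hk
      obtain ⟨r, hr, w', hw', h'⟩ := onto_of F B W hV (rGrp F W) le_rfl (W0_R F W)
        (fun p hp v hv => P_R F B W hp (V_R F W hV hv)) q hq
      refine ⟨r, hr, ?_⟩
      rw [h']
      have : (q * w')⁻¹ * (q * w) = w'⁻¹ * w := by group
      rw [this]
      exact mul_mem (inv_mem hw') hw
  have h2 := relIndex_mul_card' (D.Q1 ⊔ W0) (rGrp F W) (N_R F B W)
  rw [h1, card_N F B W] at h2
  omega

/-! ## Commutators -/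

lemma comm_R_N (F : Facts D) (W : WFacts D t W0) {r : H} (hr : r ∈ rGrp F W) {n : H}
    (hn : n ∈ D.Q1 ⊔ W0) : ⁅r, n⁆ ∈ W0 := by
  obtain ⟨w, hw, h⟩ := R_conj_N F W hr hn
  rw [commutatorElement_def, h, mul_inv_cancel_right]
  exact hw

lemma comm_N_R (F : Facts D) (W : WFacts D t W0) {r : H} (hr : r ∈ rGrp F W) {n : H}
    (hn : n ∈ D.Q1 ⊔ W0) : ⁅n, r⁆ ∈ W0 := by
  rw [← commutatorElement_inv]
  exact inv_mem (comm_R_N F W hr hn)

lemma comm_mem_N [Finite H] (F : Facts D) (B : Big D t) (W : WFacts D t W0)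
    (hV : VFacts D t W0 V) {r s : H} (hr : r ∈ rGrp F W) (hs : s ∈ rGrp F W) :
    ⁅r, s⁆ ∈ D.Q1 ⊔ W0 := by
  -- `[rs, t]` and `[sr, t]` agree mod `W0`
  have key : ∀ a ∈ rGrp F W, ∀ b ∈ rGrp F W, ∃ w ∈ W0, ⁅a * b, t⁆ = w * (⁅b, t⁆ * ⁅a, t⁆) := by
    intro a ha b hb
    obtain ⟨w, hw, h⟩ := R_conj_N F W ha hb.2.2
    exact ⟨w, hw, by rw [comm_mul_left, h]; group⟩
  have e : r * s = ⁅r, s⁆ * (s * r) := by rw [commutatorElement_def]; group
  have hsr : s * r ∈ rGrp F W := mul_mem hs hr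
  have hc : ⁅r, s⁆ ∈ rGrp F W := by
    rw [commutatorElement_def]
    exact mul_mem (mul_mem (mul_mem hr hs) (inv_mem hr)) (inv_mem hs)
  refine ker_R F B W hV hc ?_
  obtain ⟨w1, hw1, h1⟩ := key r hr s hs
  obtain ⟨w2, hw2, h2⟩ := key s hs r hr
  obtain ⟨w3, hw3, h3⟩ := key _ hc _ hsr
  rw [← e, h1, h2] at h3
  -- w1 [s,t][r,t] = w3 w2 [r,t][s,t] [c,t]
  set x := ⁅r, t⁆ with hx
  set y := ⁅s, t⁆ with hy
  have hxy : ⁅y, x⁆ ∈ W0 := comm_N_R F W (N_R F B W hr.2.2) hs.2.2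
  have h4 : ⁅⁅r, s⁆, t⁆ = (x * y)⁻¹ * ((w3 * w2)⁻¹ * w1 * ⁅y, x⁆) * (x * y) := by
    have h5 : y * x = ⁅y, x⁆ * (x * y) := by rw [commutatorElement_def]; group
    rw [h5] at h3
    calc ⁅⁅r, s⁆, t⁆ = (x * y)⁻¹ * (w3 * w2)⁻¹ * (w3 * (w2 * (x * y) * ⁅⁅r, s⁆, t⁆)) := by group
      _ = (x * y)⁻¹ * (w3 * w2)⁻¹ * (w1 * (⁅y, x⁆ * (x * y))) := by rw [h3]
      _ = _ := by group
  have hn : (x * y)⁻¹ ∈ rGrp F W := inv_mem (mul_mem (N_R F B W hr.2.2) (N_R F B W hs.2.2))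
  have hw : (w3 * w2)⁻¹ * w1 * ⁅y, x⁆ ∈ W0 := mul_mem (mul_mem (inv_mem (mul_mem hw3 hw2)) hw1) hxy
  rw [h4, hn.1 _ hw, inv_mul_cancel_right]
  exact hw

/-- commutators are bimultiplicative mod `W0` -/
lemma comm_mul_right_R [Finite H] (F : Facts D) (B : Big D t) (W : WFacts D t W0)
    (hV : VFacts D t W0 V) {r s s' : H} (hr : r ∈ rGrp F W) (hs : s ∈ rGrp F W)
    (hs' : s' ∈ rGrp F W) : ∃ w ∈ W0, ⁅r, s * s'⁆ = w * (⁅r, s⁆ * ⁅r, s'⁆) := by
  obtain ⟨w, hw, h⟩ := R_conj_N F W hs (comm_mem_N F B W hV hr hs')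
  refine ⟨w, hw, ?_⟩
  rw [comm_mul_right, h]
  have := (N_R F B W (comm_mem_N F B W hV hr hs)).1 w hw
  rw [← mul_assoc, this, mul_assoc]

/-- the subgroup of elements of `R` commuting with `s` mod `W0` -/
def centMod [Finite H] (F : Facts D) (B : Big D t) (W : WFacts D t W0)
    (hV : VFacts D t W0 V) (s : H) (hs : s ∈ rGrp F W) : Subgroup H where
  carrier := {r | r ∈ rGrp F W ∧ ⁅s, r⁆ ∈ W0}
  one_mem' := ⟨one_mem _, by simp⟩
  mul_mem' := by
    rintro a b ⟨ha, ha'⟩ ⟨hb, hb'⟩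
    refine ⟨mul_mem ha hb, ?_⟩
    obtain ⟨w, hw, h⟩ := comm_mul_right_R F B W hV hs ha hb
    rw [h]
    exact mul_mem hw (mul_mem ha' hb')
  inv_mem' := by
    rintro a ⟨ha, ha'⟩
    refine ⟨inv_mem ha, ?_⟩
    have : ⁅s, a⁻¹⁆ = a⁻¹ * ⁅s, a⁆⁻¹ * a := by simp only [commutatorElement_def]; group
    rw [this, ((inv_mem ha) : a⁻¹ ∈ rGrp F W).1 _ (inv_mem ha'), inv_mul_cancel_right]
    exact inv_mem ha'

lemma centMod_le [Finite H] (F : Facts D) (B : Big D t) (W : WFacts D t W0)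
    (hV : VFacts D t W0 V) {s : H} (hs : s ∈ rGrp F W)
    (h : ∀ p ∈ D.P, ∀ v ∈ V, ⁅s, p * v * p⁻¹⁆ ∈ W0) {r : H} (hr : r ∈ rGrp F W) : ⁅s, r⁆ ∈ W0 := by
  have hle : rGrp F W ≤ centMod F B W hV s hs := by
    refine gen_R F B W hV _ ?_ ?_ ?_
    · exact fun q hq => ⟨Q1_R F B W hq, comm_R_N F W hs (mem_sup_left hq)⟩
    · exact fun q hq => ⟨W0_R F W hq, comm_R_N F W hs (mem_sup_right hq)⟩
    · exact fun p hp v hv => ⟨P_R F B W hp (V_R F W hV hv), h p hp v hv⟩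
  exact (hle hr).2

/-- `r ↦ [r,t]` is multiplicative mod `W0` -/
lemma tau_mul (F : Facts D) (B : Big D t) (W : WFacts D t W0) {a b : H}
    (ha : a ∈ rGrp F W) (hb : b ∈ rGrp F W) : ∃ w ∈ W0, ⁅a * b, t⁆ = w * (⁅a, t⁆ * ⁅b, t⁆) := by
  obtain ⟨w, hw, h⟩ := R_conj_N F W ha hb.2.2
  have hc : ⁅⁅b, t⁆, ⁅a, t⁆⁆ ∈ W0 := comm_N_R F W (N_R F B W ha.2.2) hb.2.2
  refine ⟨w * ⁅⁅b, t⁆, ⁅a, t⁆⁆, mul_mem hw hc, ?_⟩
  rw [comm_mul_left, h]
  have : ⁅b, t⁆ * ⁅a, t⁆ = ⁅⁅b, t⁆, ⁅a, t⁆⁆ * (⁅a, t⁆ * ⁅b, t⁆) := by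
    rw [commutatorElement_def ⁅b, t⁆]; group
  rw [mul_assoc w, this]; group

/-- conjugates of an element by `Xa` -/
lemma conj_Xa_P (F : Facts D) : D.a1 ∈ D.P ∧ D.a2 ∈ D.P ∧ D.a1 * D.a2 ∈ D.P :=
  ⟨Xa_P F F.a1_mem, Xa_P F F.a2_mem, mul_mem (Xa_P F F.a1_mem) (Xa_P F F.a2_mem)⟩

/-- if `σ` is multiplicative mod `W0` on `R` and commutes with the action of `Xa`, then it commutes
with the norm mod `W0` -/
lemma nrm_of_mul (F : Facts D) (B : Big D t) (W : WFacts D t W0) (σ : H → H)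
    (h : ∀ r ∈ rGrp F W, ∀ s ∈ rGrp F W, ∃ w ∈ W0, σ (r * s) = w * (σ r * σ s))
    (ha : ∀ a ∈ D.Xa, ∀ r ∈ rGrp F W, σ (a * r * a⁻¹) = a * σ r * a⁻¹) {u : H}
    (hu : u ∈ rGrp F W) : ∃ w ∈ W0, σ (D.nrm u) = w * D.nrm (σ u) := by
  obtain ⟨p1, p2, p3⟩ := conj_Xa_P F
  have u1 := P_R F B W p1 hu
  have u2 := P_R F B W p2 hu
  have u3 := P_R F B W p3 hu
  obtain ⟨w1, hw1, h1⟩ := h _ (mul_mem (mul_mem hu u1) u2) _ u3
  obtain ⟨w2, hw2, h2⟩ := h _ (mul_mem hu u1) _ u2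
  obtain ⟨w3, hw3, h3⟩ := h _ hu _ u1
  refine ⟨w1 * (w2 * w3), mul_mem hw1 (mul_mem hw2 hw3), ?_⟩
  rw [Data.nrm, h1, h2, h3, ha _ F.a1_mem _ hu, ha _ F.a2_mem _ hu,
    ha _ (mul_mem F.a1_mem F.a2_mem) _ hu, Data.nrm]
  group

lemma nrm_mul (F : Facts D) (B : Big D t) (W : WFacts D t W0) {x m : H} (hx : x ∈ D.Q1)
    (hm : m ∈ rGrp F W) (h1 : ∀ a ∈ D.Xa, a * m = m * a) (h2 : m * m ∈ W0) :
    ∃ w ∈ W0, D.nrm (x * m) = w * D.nrm x := by
  obtain ⟨p1, p2, p3⟩ := conj_Xa_P F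
  have q1 := F.norm_Q1 _ p1 _ hx
  have q2 := F.norm_Q1 _ p2 _ hx
  have q3 := F.norm_Q1 _ p3 _ hx
  have hc : ∀ a ∈ D.Xa, a * (x * m) * a⁻¹ = a * x * a⁻¹ * m := by
    intro a ha
    have := conj_of_comm (h1 a ha)
    calc a * (x * m) * a⁻¹ = a * x * a⁻¹ * (a * m * a⁻¹) := by group
      _ = _ := by rw [this]
  rw [Data.nrm, Data.nrm, hc _ F.a1_mem, hc _ F.a2_mem, hc _ (mul_mem F.a1_mem F.a2_mem)]
  set x1 := D.a1 * x * D.a1⁻¹
  set x2 := D.a2 * x * D.a2⁻¹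
  set x3 := D.a1 * D.a2 * x * (D.a1 * D.a2)⁻¹
  have c1 : ⁅m, x1⁆ ∈ W0 := hm.2.1 _ q1
  have c3 : ⁅m, x3⁆ ∈ W0 := hm.2.1 _ q3
  have e1 : m * x1 = ⁅m, x1⁆ * x1 * m := by rw [commutatorElement_def]; group
  have e3 : m * x3 = ⁅m, x3⁆ * x3 * m := by rw [commutatorElement_def]; group
  have k1 := (Q1_R F B W hx).1
  have k2 := (mul_mem (mul_mem (Q1_R F B W hx) (Q1_R F B W q1)) (Q1_R F B W q2)).1
  have k3 := (mul_mem (mul_mem (mul_mem (Q1_R F B W hx) (Q1_R F B W q1)) (Q1_R F B W q2))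
    (Q1_R F B W q3)).1
  have k4 := (mul_mem (Q1_R F B W hx) (Q1_R F B W q1)).1
  refine ⟨⁅m, x1⁆ * (m * m) * ⁅m, x3⁆ * (m * m),
    mul_mem (mul_mem (mul_mem c1 h2) c3) h2, ?_⟩
  calc x * m * (x1 * m) * (x2 * m) * (x3 * m)
      = x * (m * x1) * m * x2 * (m * x3) * m := by group
    _ = (x * ⁅m, x1⁆) * x1 * m * m * x2 * (⁅m, x3⁆ * x3 * m) * m := by rw [e1, e3]; group
    _ = ⁅m, x1⁆ * (x * x1 * (m * m)) * x2 * ⁅m, x3⁆ * x3 * (m * m) := by rw [k1 _ c1]; group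
    _ = ⁅m, x1⁆ * (m * m) * ((x * x1 * x2) * ⁅m, x3⁆) * x3 * (m * m) := by rw [k4 _ h2]; group
    _ = ⁅m, x1⁆ * (m * m) * ⁅m, x3⁆ * ((x * x1 * x2 * x3) * (m * m)) := by rw [k2 _ c3]; group
    _ = _ := by rw [k3 _ h2]; group

/-- `[V, V^ns] ≤ W4 W0` -/
lemma comm_V_ns_aux [Finite H] (F : Facts D) (B : Big D t) (W : WFacts D t W0)
    (hV : VFacts D t W0 V) {v u0 : H} (hv : v ∈ V) (hu0 : u0 ∈ V) :
    ∃ m ∈ D.W4, ∃ w ∈ W0, ⁅v, D.ns * u0 * D.ns⁻¹⁆ = m * w := by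
  set u := D.ns * u0 * D.ns⁻¹ with hu
  have huR : u ∈ rGrp F W := P_R F B W F.ns_mem (V_R F W hV hu0)
  have hvR : v ∈ rGrp F W := V_R F W hV hv
  set c := ⁅v, u⁆ with hc
  have hcN : c ∈ D.Q1 ⊔ W0 := comm_mem_N F B W hV hvR huR
  -- `y` centralises `c`
  have hyP : D.y ∈ D.P := F.y_mem.1
  have hyv : D.y * v * D.y⁻¹ = v := conj_of_comm (hV.cent_L2 v hv _ F.y_mem).symm
  have hyu : D.y * u * D.y⁻¹ = u := by
    have e1 : D.y * D.ns = D.ns * D.y⁻¹ := by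
      have := F.ns_y
      have hns : D.ns⁻¹ = D.ns := inv_eq_of_mul_eq_one_right F.ns_sq
      calc D.y * D.ns = (D.ns * D.ns) * D.y * D.ns⁻¹ := by rw [F.ns_sq, hns]; group
        _ = D.ns * (D.ns * D.y * D.ns⁻¹) := by group
        _ = D.ns * D.y⁻¹ := by rw [this]
    have e2 : D.y⁻¹ * u0 * D.y = u0 := by
      have := hV.cent_L2 u0 hu0 _ (inv_mem F.y_mem)
      rw [← this]; group
    have e3 : D.ns⁻¹ * D.y⁻¹ = D.y * D.ns⁻¹ := by
      rw [← mul_inv_rev, e1, mul_inv_rev, inv_inv]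
    calc D.y * u * D.y⁻¹ = D.y * D.ns * u0 * (D.ns⁻¹ * D.y⁻¹) := by rw [hu]; group
      _ = D.ns * (D.y⁻¹ * u0 * D.y) * D.ns⁻¹ := by rw [e1, e3]; group
      _ = u := by rw [e2]
  have hyc : D.y * c * D.y⁻¹ = c := by rw [hc, conj_comm, hyv, hyu]
  obtain ⟨q, hq, w, hw, hqw⟩ := (mem_N F W).1 hcN
  have hyw : D.y * w * D.y⁻¹ = w := conj_of_comm (W.cent_P w hw _ hyP).symm
  have hyq : ⁅q, D.y⁆ = 1 := by
    rw [commutatorElement_eq_one_iff_mul_comm]
    have e : D.y * q * D.y⁻¹ = q := by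
      have h1 : q = c * w⁻¹ := by rw [hqw]; group
      calc D.y * q * D.y⁻¹ = (D.y * c * D.y⁻¹) * (D.y * w * D.y⁻¹)⁻¹ := by rw [h1]; group
        _ = q := by rw [hyc, hyw, h1]
    calc q * D.y = D.y * q * D.y⁻¹ * D.y := by rw [e]
      _ = D.y * q := by group
  obtain ⟨x, hx, m, hm, hxm⟩ := F.cent_y q hq (by rw [hyq]; exact one_mem _)
  -- the norm of `c`
  have hXa : ∀ a ∈ D.Xa, a * v * a⁻¹ = v := fun a ha =>
    conj_of_comm (hV.cent_L2 v hv _ (F.Q2_le (F.Xa_le ha))).symm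
  obtain ⟨w1, hw1, h1⟩ := nrm_of_mul F B W (fun r => ⁅v, r⁆)
    (fun r hr s hs => comm_mul_right_R F B W hV hvR hr hs)
    (fun a ha r _ => by rw [conj_comm, hXa a ha]) huR
  obtain ⟨w2, hw2, h2⟩ := nrm_of_mul F B W (fun r => ⁅r, t⁆)
    (fun r hr s hs => tau_mul F B W hr hs)
    (fun a ha r _ => by rw [conj_comm, conj_of_comm (P_t F B (Xa_P F ha))]) huR
  -- `[u, t] = x' z`
  obtain ⟨z, hz, e, he, hze⟩ := mem_W4 F (hV.comm_t u0 hu0)
  have hut : ⁅u, t⁆ = (D.ns * e * D.ns⁻¹) * z := by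
    have h3 : ⁅u, t⁆ = D.ns * ⁅u0, t⁆ * D.ns⁻¹ := by
      rw [conj_comm, conj_of_comm (P_t F B F.ns_mem)]
    have h4 : D.ns * z * D.ns⁻¹ = z := conj_of_comm (P_Z F F.ns_mem hz)
    rw [h3, hze]
    calc D.ns * (z * e) * D.ns⁻¹ = (D.ns * z * D.ns⁻¹) * (D.ns * e * D.ns⁻¹) := by group
      _ = _ := by
        rw [h4]
        exact (P_Z F (F.Q1_le (F.Xb_le (F.ns_Xe e he))) hz).symm
  obtain ⟨w3, hw3, h3⟩ := nrm_mul F B W (x := D.ns * e * D.ns⁻¹) (m := z)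
    (F.Xb_le (F.ns_Xe e he)) (W0_R F W (W.Z_le hz)) (fun a ha => P_Z F (Xa_P F ha) hz)
    (by rw [F.sq_Z z hz]; exact one_mem _)
  rw [hut, h3] at h2
  obtain ⟨v1, hv1, h4⟩ := hV.onto _ (F.nrm_Xb _ (F.ns_Xe e he)).1
  have hnu : D.nrm u ∈ rGrp F W := by
    obtain ⟨p1, p2, p3⟩ := conj_Xa_P F
    exact mul_mem (mul_mem (mul_mem huR (P_R F B W p1 huR)) (P_R F B W p2 huR))
      (P_R F B W p3 huR)
  have hv1R : v1 ∈ rGrp F W := V_R F W hV hv1
  have hn : v1⁻¹ * D.nrm u ∈ D.Q1 ⊔ W0 := by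
    refine ker_R F B W hV (mul_mem (inv_mem hv1R) hnu) ?_
    obtain ⟨w5, hw5, h5⟩ := tau_mul F B W (inv_mem hv1R) hnu
    obtain ⟨w6, hw6, h6⟩ := tau_mul F B W (inv_mem hv1R) hv1R
    have h7 : ⁅v1⁻¹, t⁆ = w6⁻¹ * ⁅v1, t⁆⁻¹ := by
      rw [inv_mul_cancel, commutatorElement_one_left] at h6
      calc ⁅v1⁻¹, t⁆ = w6⁻¹ * (w6 * (⁅v1⁻¹, t⁆ * ⁅v1, t⁆)) * ⁅v1, t⁆⁻¹ := by group
        _ = _ := by rw [← h6]; group
    rw [h5, h7, h2, ← h4]
    have h8 : ⁅v1, t⁆⁻¹ * (w2 * w3) = (w2 * w3) * ⁅v1, t⁆⁻¹ :=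
      (inv_mem (N_R F B W hv1R.2.2) : ⁅v1, t⁆⁻¹ ∈ rGrp F W).1 _ (mul_mem hw2 hw3)
    have h9 : w5 * (w6⁻¹ * ⁅v1, t⁆⁻¹ * (w2 * (w3 * ⁅v1, t⁆))) = w5 * (w6⁻¹ * (w2 * w3)) := by
      calc w5 * (w6⁻¹ * ⁅v1, t⁆⁻¹ * (w2 * (w3 * ⁅v1, t⁆)))
          = w5 * (w6⁻¹ * (⁅v1, t⁆⁻¹ * (w2 * w3)) * ⁅v1, t⁆) := by group
        _ = _ := by rw [h8]; group
    rw [h9]
    exact mul_mem hw5 (mul_mem (inv_mem hw6) (mul_mem hw2 hw3))
  -- so `[v, nrm u] ∈ W0`
  have h10 : ⁅v, D.nrm u⁆ ∈ W0 := by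
    have e1 : D.nrm u = v1 * (v1⁻¹ * D.nrm u) := by group
    rw [e1, comm_mul_right]
    have e2 : ⁅v, v1⁆ = 1 := by
      rw [commutatorElement_eq_one_iff_mul_comm]; exact hV.comm v hv v1 hv1
    have e3 := comm_R_N F W hvR hn
    rw [e2, one_mul, conj_of_comm (hv1R.1 _ e3)]
    exact e3
  have h11 : D.nrm c ∈ W0 := by
    rw [h1] at h10
    exact (mul_mem_cancel_left hw1).1 h10
  -- `nrm c ≡ nrm x`
  have hmR : m * w ∈ rGrp F W := mul_mem (Q1_R F B W (W4_Q1 F hm)) (W0_R F W hw)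
  have hmL : ∀ a ∈ D.Xa, a * m = m * a := by
    intro a ha
    obtain ⟨z, hz, e, he, rfl⟩ := mem_W4 F hm
    have c1 := P_Z F (Xa_P F ha) hz
    have c2 : e * a = a * e := (F.Q2_le (F.Xa_le ha)).2 e he
    calc a * (z * e) = (a * z) * e := by group
      _ = z * (a * e) := by rw [c1]; group
      _ = z * e * a := by rw [← c2]; group
  have hmm : m * m = 1 := by
    obtain ⟨z, hz, e, he, rfl⟩ := mem_W4 F hm
    have c1 := P_Z F (F.Q1_le (F.Xe_le he)) hz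
    calc z * e * (z * e) = z * (e * z) * e := by group
      _ = (z * z) * (e * e) := by rw [c1]; group
      _ = 1 := by rw [F.sq_Z z hz, F.sq_Xe e he, one_mul]
  obtain ⟨w4, hw4, h12⟩ := nrm_mul F B W (x := x) (m := m * w) (F.Xb_le hx) hmR
    (fun a ha => by
      have c1 := hmL a ha
      have c2 := W.cent_P w hw a (Xa_P F ha)
      calc a * (m * w) = (a * m) * w := by group
        _ = m * (a * w) := by rw [c1]; group
        _ = m * w * a := by rw [← c2]; group)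
    (by
      have c1 := (Q1_R F B W (W4_Q1 F hm)).1 w hw
      have : m * w * (m * w) = (m * m) * (w * w) := by
        calc m * w * (m * w) = m * (w * m) * w := by group
          _ = (m * m) * (w * w) := by rw [← c1]; group
      rw [this, hmm, one_mul]
      exact mul_mem hw hw)
  have hcx : c = x * (m * w) := by rw [hqw, hxm]; group
  rw [hcx, h12] at h11
  have h13 : D.nrm x ∈ W0 := (mul_mem_cancel_left hw4).1 h11
  obtain ⟨hn1, hn2⟩ := F.nrm_Xb x hx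
  have hx1 : x = 1 := hn2 (inter F B W (W4_Q1 F hn1) h13)
  exact ⟨m, hm, w, hw, by rw [hcx, hx1, one_mul]⟩

/-- `[V, V^ns] ≤ W0` -/
lemma comm_V_ns [Finite H] (F : Facts D) (B : Big D t) (W : WFacts D t W0)
    (hV : VFacts D t W0 V) {v u0 : H} (hv : v ∈ V) (hu0 : u0 ∈ V) :
    ⁅v, D.ns * u0 * D.ns⁻¹⁆ ∈ W0 := by
  have hns : D.ns⁻¹ = D.ns := inv_eq_of_mul_eq_one_right F.ns_sq
  obtain ⟨m, hm, w, hw, h⟩ := comm_V_ns_aux F B W hV hv hu0
  obtain ⟨m', hm', w', hw', h'⟩ := comm_V_ns_aux F B W hV hu0 hv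
  -- conjugate by `ns`
  have e1 : ⁅v, D.ns * u0 * D.ns⁻¹⁆ = D.ns * (m' * w')⁻¹ * D.ns⁻¹ := by
    rw [← h', commutatorElement_inv, conj_comm]
    congr 1
    rw [hns]
    calc v = (D.ns * D.ns) * v * (D.ns * D.ns) := by rw [F.ns_sq]; group
      _ = D.ns * (D.ns * v * D.ns) * D.ns := by group
  obtain ⟨z, hz, e, he, rfl⟩ := mem_W4 F hm
  obtain ⟨z', hz', e', he', rfl⟩ := mem_W4 F hm'
  have hW : ∀ w ∈ W0, D.ns * w * D.ns⁻¹ = w := fun w hw =>
    conj_of_comm (W.cent_P w hw _ F.ns_mem).symm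
  have hx : D.ns * e'⁻¹ * D.ns⁻¹ ∈ D.Xb := F.ns_Xe _ (inv_mem he')
  -- `e = x * w1`
  have hzw : z' * w' ∈ W0 := mul_mem (W.Z_le hz') hw'
  have e2 : D.ns * (z' * e' * w')⁻¹ * D.ns⁻¹ = (D.ns * e'⁻¹ * D.ns⁻¹) * (z' * w')⁻¹ := by
    have c1 := (Q1_R F B W (F.Xe_le he')).1 w' hw'
    have c2 : (z' * e' * w')⁻¹ = e'⁻¹ * (z' * w')⁻¹ := by
      have : z' * e' * w' = z' * w' * e' := by rw [mul_assoc, c1]; group
      rw [this, mul_inv_rev]
    calc D.ns * (z' * e' * w')⁻¹ * D.ns⁻¹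
        = (D.ns * e'⁻¹ * D.ns⁻¹) * (D.ns * (z' * w')⁻¹ * D.ns⁻¹) := by rw [c2]; group
      _ = _ := by rw [hW _ (inv_mem hzw)]
  set x := D.ns * e'⁻¹ * D.ns⁻¹ with hxdef
  have e3 : z * e * w = x * (z' * w')⁻¹ := by rw [← h, e1, e2]
  have c3 : e * w = w * e := (Q1_R F B W (F.Xe_le he)).1 w hw
  -- `e⁻¹ x ∈ W0`
  have e4 : x⁻¹ * e = (z' * w')⁻¹ * (z * w)⁻¹ := by
    have c4 := (Q1_R F B W (F.Xe_le he)).1 _ (mul_mem (W.Z_le hz) hw)
    have c5 : z * e * w = e * (z * w) := by rw [mul_assoc, c3, c4]; group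
    rw [c5] at e3
    calc x⁻¹ * e = x⁻¹ * (e * (z * w)) * (z * w)⁻¹ := by group
      _ = _ := by rw [e3]; group
  have e5 : x⁻¹ * e ∈ D.Z := by
    refine inter F B W (mul_mem (inv_mem (F.Xb_le hx)) (F.Xe_le he)) ?_
    rw [e4]
    exact mul_mem (inv_mem hzw) (inv_mem (mul_mem (W.Z_le hz) hw))
  have e6 : e * x = x * e := by
    have c6 := P_Z F (F.Q1_le (F.Xb_le hx)) e5
    calc e * x = x * (x⁻¹ * e * x) := by group
      _ = x * (x * (x⁻¹ * e)) := by rw [c6]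
      _ = x * e := by group
  have e7 : e = 1 := by
    rcases F.Xe_Xb e he x hx e6 with h | h
    · exact h
    · rw [h, inv_one, one_mul] at e5
      exact F.Xe_Z e he e5
  rw [h, e7, mul_one]
  exact mul_mem (W.Z_le hz) hw

lemma conj_V_of_R (F : Facts D) (W : WFacts D t W0) (hV : VFacts D t W0 V)
    {q : H} (hq : q ∈ D.Q1) {v : H} (hv : v ∈ V) : q * v * q⁻¹ ∈ V := by
  have h1 : ⁅q, v⁆ ∈ W0 := by
    rw [← commutatorElement_inv]
    exact inv_mem ((V_R F W hV hv).2.1 q hq)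
  have : q * v * q⁻¹ = ⁅q, v⁆ * v := by rw [commutatorElement_def]; group
  rw [this]
  exact mul_mem (hV.le h1) hv

/-- `B = Q1 Xa ⟨y⟩` normalises `V` -/
lemma conj_V_of_B (F : Facts D) (W : WFacts D t W0) (hV : VFacts D t W0 V)
    {b : H} (hb : b ∈ D.B) {v : H} (hv : v ∈ V) : b * v * b⁻¹ ∈ V ∧ b⁻¹ * v * b ∈ V := by
  let N : Subgroup H :=
    { carrier := {b | ∀ v ∈ V, b * v * b⁻¹ ∈ V ∧ b⁻¹ * v * b ∈ V}
      one_mem' := fun v hv => by simpa using hv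
      mul_mem' := by
        intro a b ha hb v hv
        constructor
        · have : a * b * v * (a * b)⁻¹ = a * (b * v * b⁻¹) * a⁻¹ := by group
          rw [this]
          exact (ha _ (hb v hv).1).1
        · have : (a * b)⁻¹ * v * (a * b) = b⁻¹ * (a⁻¹ * v * a) * b := by group
          rw [this]
          exact (hb _ (ha v hv).2).2
      inv_mem' := by
        intro a ha v hv
        have := ha v hv
        rw [inv_inv]
        exact ⟨this.2, this.1⟩ }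
  have hL : ∀ l ∈ D.L2, l ∈ N := by
    intro l hl v hv
    have c1 := hV.cent_L2 v hv l hl
    have c2 := hV.cent_L2 v hv _ (inv_mem hl)
    constructor
    · rw [← c1]; simpa using hv
    · rw [← c2]; simpa using hv
  have hle : D.B ≤ N := by
    refine sup_le (sup_le ?_ ?_) ?_
    · intro q hq v hv
      refine ⟨conj_V_of_R F W hV hq hv, ?_⟩
      have := conj_V_of_R F W hV (inv_mem hq) hv
      rwa [inv_inv] at this
    · exact fun a ha => hL a (F.Q2_le (F.Xa_le ha))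
    · rw [zpowers_le]
      exact hL _ F.y_mem
  exact hle hb v hv

lemma comm_V_conj [Finite H] (F : Facts D) (B : Big D t) (W : WFacts D t W0)
    (hV : VFacts D t W0 V) {p : H} (hp : p ∈ D.P) {v u : H} (hv : v ∈ V) (hu : u ∈ V) :
    ⁅v, p * u * p⁻¹⁆ ∈ W0 := by
  rcases F.bruhat p hp with hb | ⟨b, hb, b', hb', rfl⟩
  · have h1 := (conj_V_of_B F W hV hb hu).1
    have : ⁅v, p * u * p⁻¹⁆ = 1 := by
      rw [commutatorElement_eq_one_iff_mul_comm]
      exact hV.comm v hv _ h1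
    rw [this]; exact one_mem _
  · have h1 := (conj_V_of_B F W hV hb' hu).1
    have h2 := (conj_V_of_B F W hV hb hv).2
    have h3 := comm_V_ns F B W hV h2 h1
    have hbP : b ∈ D.P := by
      have hle : D.B ≤ D.P := sup_le (sup_le F.Q1_le (fun a ha => Xa_P F ha))
        (by rw [zpowers_le]; exact F.y_mem.1)
      exact hle hb
    have h4 : ⁅v, b * D.ns * b' * u * (b * D.ns * b')⁻¹⁆
        = b * ⁅b⁻¹ * v * b, D.ns * (b' * u * b'⁻¹) * D.ns⁻¹⁆ * b⁻¹ := by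
      rw [conj_comm]
      congr 1 <;> group
    rw [h4, conj_of_comm (W.cent_P _ h3 b hbP).symm]
    exact h3

lemma comm_R [Finite H] (F : Facts D) (B : Big D t) (W : WFacts D t W0)
    (hV : VFacts D t W0 V) {r s : H} (hr : r ∈ rGrp F W) (hs : s ∈ rGrp F W) : ⁅r, s⁆ ∈ W0 := by
  -- first `s = p v p⁻¹`
  have h1 : ∀ v ∈ V, ∀ r ∈ rGrp F W, ⁅v, r⁆ ∈ W0 := fun v hv r hr =>
    centMod_le F B W hV (V_R F W hV hv) (fun p hp u hu => comm_V_conj F B W hV hp hv hu) hr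
  refine centMod_le F B W hV hr (fun p hp v hv => ?_) hs
  have e1 : ⁅r, p * v * p⁻¹⁆ = p * ⁅v, p⁻¹ * r * p⁆⁻¹ * p⁻¹ := by
    rw [commutatorElement_inv, conj_comm]
    congr 1; group
  have e2 : p⁻¹ * r * p ∈ rGrp F W := by
    have := P_R F B W (inv_mem hp) hr
    rwa [inv_inv] at this
  have e3 := inv_mem (h1 v hv _ e2)
  rw [e1, conj_of_comm (W.cent_P _ e3 p hp).symm]
  exact e3

lemma sq_R [Finite H] (F : Facts D) (B : Big D t) (W : WFacts D t W0)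
    (hV : VFacts D t W0 V) {r : H} (hr : r ∈ rGrp F W) : r * r ∈ W0 := by
  let K : Subgroup H :=
    { carrier := {r | r ∈ rGrp F W ∧ r * r ∈ W0}
      one_mem' := ⟨one_mem _, by rw [one_mul]; exact one_mem _⟩
      mul_mem' := by
        rintro a b ⟨ha, ha'⟩ ⟨hb, hb'⟩
        refine ⟨mul_mem ha hb, ?_⟩
        have hc := comm_R F B W hV hb ha
        have e1 : b * a = ⁅b, a⁆ * (a * b) := by rw [commutatorElement_def]; group
        have c1 := ha.1 _ hc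
        have c2 := (mul_mem ha ha).1 _ hb'
        have : a * b * (a * b) = ⁅b, a⁆ * ((a * a) * (b * b)) := by
          calc a * b * (a * b) = a * (b * a) * b := by group
            _ = (a * ⁅b, a⁆) * (a * b) * b := by rw [e1]; group
            _ = _ := by rw [c1]; group
        rw [this]
        exact mul_mem hc (mul_mem ha' hb')
      inv_mem' := by
        rintro a ⟨ha, ha'⟩
        refine ⟨inv_mem ha, ?_⟩
        rw [← mul_inv_rev]
        exact inv_mem ha' }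
  have hle : rGrp F W ≤ K := by
    refine gen_R F B W hV _ ?_ ?_ ?_
    · exact fun q hq => ⟨Q1_R F B W hq, W.Z_le (F.sq_Q1 q hq)⟩
    · exact fun w hw => ⟨W0_R F W hw, mul_mem hw hw⟩
    · intro p hp v hv
      refine ⟨P_R F B W hp (V_R F W hV hv), ?_⟩
      have : p * v * p⁻¹ * (p * v * p⁻¹) = 1 := by
        calc p * v * p⁻¹ * (p * v * p⁻¹) = p * (v * v) * p⁻¹ := by group
          _ = 1 := by rw [hV.sq v hv]; group
      rw [this]; exact one_mem _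
  exact (hle hr).2

/-- Step (3): existence of `R` -/
theorem rFacts [Finite H] (F : Facts D) (B : Big D t) (W : WFacts D t W0)
    (hV : VFacts D t W0 V) : RFacts D t W0 V (rGrp F W) where
  mem_iff _ := Iff.rfl
  Q1_le := Q1_R F B W
  W0_le := W0_R F W
  V_le := V_R F W hV
  P_mem _ hp _ hr := P_R F B W hp hr
  card := card_R F B W hV
  cent_W0 _ hr := hr.1
  comm_Q1 _ hr := hr.2.1
  comm_t _ hr := (mem_N F W).1 hr.2.2
  onto := onto_of F B W hV (rGrp F W) le_rfl (W0_R F W)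
    (fun _ hp _ hv => P_R F B W hp (V_R F W hV hv))
  ker _ hr h := (mem_N F W).1 (ker_R F B W hV hr h)
  inter _ hq hw := inter F B W hq hw
  gen := gen_R F B W hV
  comm _ hr _ hs := comm_R F B W hV hr hs
  sq _ hr := sq_R F B W hV hr
  V_mem r hr v hv := by
    have : r * v * r⁻¹ = ⁅r, v⁆ * v := by rw [commutatorElement_def]; group
    rw [this]
    exact mul_mem (hV.le (comm_R F B W hV hr (V_R F W hV hv))) hv
  t_notMem := t_notMem_R F W

end Cfsg.Agent.GTwoFour.GrowR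
end

-- part: GTwoFour/ChiCoord
section
/-!
# Ring coordinates of a `Grown` configuration

The three groups `Y1, Y2, Y3` of `HeisCoord.Grown` are copies of the ring `Q ν`, the commutator being
the multiplication and `T` acting as `tau ν` (the proof is the first half of helper470's
`HeisCoord.Grown.exists_equiv`).
-/

set_option autoImplicit false

namespace Cfsg.Agent.GTwoFour.ChiCoord

open Cfsg.Agent.StdL3.HeisRing Cfsg.Agent.StdL3.HeisCoord
open Cfsg.Agent.SporadicA.FieldFour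

variable {X : Type*} [Group X]

/-- ring coordinates -/
structure Coord (T : X →* X) (Y1 Y2 Y3 : Subgroup X) (ν : F4) (y1 y2 y3 : Q ν → X) : Prop where
  m1 : ∀ a, y1 a ∈ Y1
  m2 : ∀ a, y2 a ∈ Y2
  m3 : ∀ a, y3 a ∈ Y3
  a1 : ∀ a b, y1 (a + b) = y1 a * y1 b
  a2 : ∀ a b, y2 (a + b) = y2 a * y2 b
  a3 : ∀ a b, y3 (a + b) = y3 a * y3 b
  s1 : ∀ y ∈ Y1, ∃ a, y = y1 a
  s2 : ∀ y ∈ Y2, ∃ a, y = y2 a
  s3 : ∀ y ∈ Y3, ∃ a, y = y3 a
  i3 : ∀ a, y3 a = 1 → a = 0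
  t3 : ∀ a, T (y3 a) = y3 (tau ν a)
  key : ∀ a b, zz (y1 a) (y2 b) = y3 (a * b)

variable {T H : X →* X} {Y1 Y2 Y3 U : Subgroup X} {x1 x2 x3 : F4 → X}

theorem exists_coord (G : Grown T H Y1 Y2 Y3 U x1 x2 x3) :
    ∃ (ν : F4) (y1 y2 y3 : Q ν → X), Coord T Y1 Y2 Y3 ν y1 y2 y3 := by
  obtain ⟨ν, p, q, r, pm, qm, rm, pa, qa, ra, pT, qT, rT, h1, h2, h3⟩ := G.exists_coords
  have z0 : ∀ f : F4 → X, (∀ a b, f (a + b) = f a * f b) → f 0 = 1 := by
    intro f hf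
    have := hf 0 0
    rw [add_zero] at this
    exact left_eq_mul.1 this
  -- general facts on `a ↦ x a.re * p a.im`
  have gen : ∀ (Y : Subgroup X) (x s : F4 → X), (∀ y ∈ Y, y * y = 1) → Nat.card Y = 16 →
      (∀ a, x a ∈ Y) → (∀ a, s a ∈ Y) → (∀ a b, x (a + b) = x a * x b) →
      (∀ a b, s (a + b) = s a * s b) → (∀ a, T (x a) = x a) → (∀ a, T (s a) = s a * x a) →
      (∀ a, x a = 1 → a = 0) →
      (∀ a b : Q ν, x (a + b).re * s (a + b).im = x a.re * s a.im * (x b.re * s b.im)) ∧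
      (∀ a : Q ν, T (x a.re * s a.im) = x (tau ν a).re * s (tau ν a).im) ∧
      (∀ y ∈ Y, ∃ a : Q ν, y = x a.re * s a.im) ∧
      (∀ a : Q ν, x a.re * s a.im = 1 → a = 0) := by
    intro Y x s hsq hcard xm sm xa sa xT sT xi
    have cm : ∀ {a b : X}, a ∈ Y → b ∈ Y → a * b = b * a := fun ha hb => comm_of_sq hsq ha hb
    have hadd : ∀ a b : Q ν, x (a + b).re * s (a + b).im = x a.re * s a.im * (x b.re * s b.im) := by
      intro a b
      rw [re_add, im_add, xa, sa]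
      calc x a.re * x b.re * (s a.im * s b.im) = x a.re * (x b.re * s a.im) * s b.im := by group
        _ = _ := by rw [cm (xm b.re) (sm a.im)]; group
    have hinj : ∀ a : Q ν, x a.re * s a.im = 1 → a = 0 := by
      intro a ha
      have e1 := congrArg T ha
      rw [map_mul, xT, sT, map_one, ← mul_assoc, ha, one_mul] at e1
      have e2 := xi _ e1
      rw [e2, z0 s sa, mul_one] at ha
      exact q_ext (xi _ ha) e2
    refine ⟨hadd, ?_, ?_, hinj⟩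
    · intro a
      rw [map_mul, xT, sT, tau_apply, xa, cm (sm a.im) (xm a.im)]
      group
    · have hI : Function.Injective (fun a : Q ν => (⟨x a.re * s a.im, Y.mul_mem (xm _) (sm _)⟩ : Y)) := by
        intro a b hab
        have e1 : x a.re * s a.im = x b.re * s b.im := congrArg Subtype.val hab
        have e2 := hinj (a + b) (by
          rw [hadd, e1, hsq _ (Y.mul_mem (xm _) (sm _))])
        have e3 : a + b + b = b := by rw [e2, zero_add]
        rw [add_assoc, CharTwo.add_self_eq_zero, add_zero] at e3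
        exact e3
      have hfin : Finite Y := Nat.finite_of_card_ne_zero (by rw [hcard]; norm_num)
      have hB := hI.bijective_of_nat_card_le (by rw [hcard, card_q])
      intro y hy
      obtain ⟨a, ha⟩ := hB.2 ⟨y, hy⟩
      exact ⟨a, (congrArg Subtype.val ha).symm⟩
  obtain ⟨ad1, T1, sur1, -⟩ := gen Y1 x1 p G.sq1 G.card1 G.m1 pm G.a1 pa G.t1 pT G.i1
  obtain ⟨ad2, T2, sur2, -⟩ := gen Y2 x2 q G.sq2 G.card2 G.m2 qm G.a2 qa G.t2 qT G.i2
  obtain ⟨ad3, T3, sur3, i3⟩ := gen Y3 x3 r G.sq3 G.card3 G.m3 rm G.a3 ra G.t3 rT G.i3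
  refine ⟨ν, fun a => x1 a.re * p a.im, fun a => x2 a.re * q a.im, fun a => x3 a.re * r a.im,
    fun a => Y1.mul_mem (G.m1 _) (pm _), fun a => Y2.mul_mem (G.m2 _) (qm _),
    fun a => Y3.mul_mem (G.m3 _) (rm _), ad1, ad2, ad3, sur1, sur2, sur3, i3, T3, ?_⟩
  intro a b
  rw [G.zz_mul_left (G.m1 _) (pm _) (Y2.mul_mem (G.m2 _) (qm _)),
    G.zz_mul_right (G.m1 _) (G.m2 _) (qm _),
    G.zz_mul_right (pm _) (G.m2 _) (qm _), G.zz_x, h1, h2, h3, re_mul, im_mul, one_mul,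
    G.a3, ra, ra, mul_assoc ν]
  set A := x3 (a.re * b.re)
  set B := r (a.re * b.im)
  set C := r (a.im * b.re)
  set D := r (a.im * b.im)
  set E := x3 (ν * (a.im * b.im))
  have mE : E ∈ Y3 := G.m3 _
  have mBCD : B * C * D ∈ Y3 := Y3.mul_mem (Y3.mul_mem (rm _) (rm _)) (rm _)
  calc A * B * (C * (D * E)) = A * ((B * C * D) * E) := by group
    _ = A * E * (B * C * D) := by rw [G.cc mBCD mE]; group

end Cfsg.Agent.GTwoFour.ChiCoord
end

-- part: GTwoFour/ChiData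
section
/-!
# The configuration `Y1 = W0^nl`, `Y2 = Y1^ns`, `Y3 = W0` is `Grown`
-/

set_option autoImplicit false

namespace Cfsg.Agent.GTwoFour.ChiData

open Subgroup Cfsg.Agent.GTwoFour.Iface Cfsg.Agent.GTwoFour.GrowR
open Cfsg.Agent.StdL3.HeisCoord Cfsg.Agent.GTwoFour.ChiCoord
open Cfsg.Agent.SporadicA.FieldFour
open scoped commutatorElement

variable {H : Type*} [Group H]

/-- Two more facts on the torus element `h`. -/
structure HFacts (D : Data H) : Prop where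
  h_ns : D.h * D.ns = D.ns * D.h
  nl_h : D.nl * D.h * D.nl⁻¹ * D.h ∈ D.P

variable {D : Data H} {t : H} {W0 V : Subgroup H}

/-- `W0^nl` -/
def Y1 (D : Data H) (W0 : Subgroup H) : Subgroup H := W0.map (MulAut.conj D.nl).toMonoidHom

/-- `(W0^nl)^ns` -/
def Y2 (D : Data H) (W0 : Subgroup H) : Subgroup H :=
  (Y1 D W0).map (MulAut.conj D.ns).toMonoidHom

lemma mem_Y1 {y : H} : y ∈ Y1 D W0 ↔ ∃ w ∈ W0, D.nl * w * D.nl⁻¹ = y := by
  simp [Y1, Subgroup.mem_map]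

lemma mem_Y2 {y : H} : y ∈ Y2 D W0 ↔ ∃ w ∈ Y1 D W0, D.ns * w * D.ns⁻¹ = y := by
  simp [Y2, Subgroup.mem_map]

lemma card_Y1 (W : WFacts D t W0) : Nat.card (Y1 D W0) = 16 := by
  rw [← W.card]
  exact (Nat.card_congr (W0.equivMapOfInjective _ (MulAut.conj D.nl).injective).toEquiv).symm

lemma card_Y2 (W : WFacts D t W0) : Nat.card (Y2 D W0) = 16 := by
  rw [← card_Y1 W]
  exact (Nat.card_congr ((Y1 D W0).equivMapOfInjective _ (MulAut.conj D.ns).injective).toEquiv).symm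

lemma nl_inv (F : Facts D) : D.nl⁻¹ = D.nl := inv_eq_of_mul_eq_one_right F.nl_sq

lemma nl_nl (F : Facts D) (x : H) : D.nl * (D.nl * x * D.nl⁻¹) * D.nl⁻¹ = x := by
  calc D.nl * (D.nl * x * D.nl⁻¹) * D.nl⁻¹ = (D.nl * D.nl) * x * (D.nl * D.nl)⁻¹ := by group
    _ = x := by rw [F.nl_sq]; group

lemma ns_ns (F : Facts D) (x : H) : D.ns * (D.ns * x * D.ns⁻¹) * D.ns⁻¹ = x := by
  calc D.ns * (D.ns * x * D.ns⁻¹) * D.ns⁻¹ = (D.ns * D.ns) * x * (D.ns * D.ns)⁻¹ := by group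
    _ = x := by rw [F.ns_sq]; group

lemma Y1_V (hV : VFacts D t W0 V) : Y1 D W0 ≤ V := by
  intro y hy
  obtain ⟨w, hw, rfl⟩ := mem_Y1.1 hy
  exact hV.nl_mem w (hV.le hw)

lemma sq_Y1 (hV : VFacts D t W0 V) : ∀ y ∈ Y1 D W0, y * y = 1 := fun y hy => hV.sq y (Y1_V hV hy)

lemma sq_Y2 (hV : VFacts D t W0 V) : ∀ y ∈ Y2 D W0, y * y = 1 := by
  intro y hy
  obtain ⟨w, hw, rfl⟩ := mem_Y2.1 hy
  calc D.ns * w * D.ns⁻¹ * (D.ns * w * D.ns⁻¹) = D.ns * (w * w) * D.ns⁻¹ := by group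
    _ = 1 := by rw [sq_Y1 hV w hw]; group

lemma Y1_R (F : Facts D) (W : WFacts D t W0) (hV : VFacts D t W0 V) {y : H}
    (hy : y ∈ Y1 D W0) : y ∈ rGrp F W := V_R F W hV (Y1_V hV hy)

lemma Y2_R (F : Facts D) (B : Big D t) (W : WFacts D t W0) (hV : VFacts D t W0 V) {y : H}
    (hy : y ∈ Y2 D W0) : y ∈ rGrp F W := by
  obtain ⟨w, hw, rfl⟩ := mem_Y2.1 hy
  exact P_R F B W F.ns_mem (Y1_R F W hV hw)

lemma Xe_Y1 (F : Facts D) (W : WFacts D t W0) : D.Xe ≤ Y1 D W0 := by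
  intro e he
  exact mem_Y1.2 ⟨_, W.Z_le (F.nl_Xe e he), nl_nl F e⟩

lemma Xb_Y2 (F : Facts D) (W : WFacts D t W0) : D.Xb ≤ Y2 D W0 := by
  intro e he
  exact mem_Y2.2 ⟨_, Xe_Y1 F W (F.ns_Xb e he), ns_ns F e⟩

/-! ### Action of `h` -/

lemma h_inv_conj (F : Facts D) (W : WFacts D t W0) {w : H} (hw : w ∈ W0) :
    D.h⁻¹ * w * D.h ∈ W0 := by
  have h1 := W.h_mem _ (W.h_mem w hw)
  have h2 : D.h⁻¹ = D.h * D.h := by
    have : D.h * D.h * D.h = 1 := by
      have := F.h_pow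
      rwa [pow_succ, pow_two] at this
    exact inv_eq_of_mul_eq_one_left this
  have h3 : D.h = D.h⁻¹ * D.h⁻¹ := by
    rw [← mul_inv_rev, ← h2, inv_inv]
  have h4 : D.h⁻¹ * w * D.h = D.h * (D.h * w * D.h⁻¹) * D.h⁻¹ := by
    calc D.h⁻¹ * w * D.h = (D.h * D.h) * w * (D.h⁻¹ * D.h⁻¹) := by rw [← h2, ← h3]
      _ = _ := by group
  rw [h4]; exact h1

lemma h_Y1 (F : Facts D) (W : WFacts D t W0) (E : HFacts D) {w : H} (hw : w ∈ W0) :
    D.h * (D.nl * w * D.nl⁻¹) * D.h⁻¹ = D.nl * (D.h⁻¹ * w * D.h) * D.nl⁻¹ := by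
  set p := D.nl * D.h * D.nl⁻¹ * D.h with hp
  have h1 : D.h * D.nl = D.nl * (p * D.h⁻¹) := by
    rw [hp, nl_inv F]
    calc D.h * D.nl = (D.nl * D.nl) * D.h * D.nl := by rw [F.nl_sq]; group
      _ = _ := by group
  have h2 := conj_of_comm (W.cent_P _ (h_inv_conj F W hw) p E.nl_h).symm
  calc D.h * (D.nl * w * D.nl⁻¹) * D.h⁻¹ = (D.h * D.nl) * w * (D.h * D.nl)⁻¹ := by group
    _ = D.nl * (p * (D.h⁻¹ * w * D.h) * p⁻¹) * D.nl⁻¹ := by rw [h1]; group
    _ = _ := by rw [h2]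

lemma h_ns_conj (E : HFacts D) (y : H) :
    D.h * (D.ns * y * D.ns⁻¹) * D.h⁻¹ = D.ns * (D.h * y * D.h⁻¹) * D.ns⁻¹ := by
  calc D.h * (D.ns * y * D.ns⁻¹) * D.h⁻¹ = (D.h * D.ns) * y * (D.h * D.ns)⁻¹ := by group
    _ = (D.ns * D.h) * y * (D.ns * D.h)⁻¹ := by rw [E.h_ns]
    _ = _ := by group

lemma h_Y1_mem (F : Facts D) (W : WFacts D t W0) (E : HFacts D) {y : H} (hy : y ∈ Y1 D W0) :
    D.h * y * D.h⁻¹ ∈ Y1 D W0 := by
  obtain ⟨w, hw, rfl⟩ := mem_Y1.1 hy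
  exact mem_Y1.2 ⟨_, h_inv_conj F W hw, (h_Y1 F W E hw).symm⟩

lemma h_Y2_mem (F : Facts D) (W : WFacts D t W0) (E : HFacts D) {y : H} (hy : y ∈ Y2 D W0) :
    D.h * y * D.h⁻¹ ∈ Y2 D W0 := by
  obtain ⟨w, hw, rfl⟩ := mem_Y2.1 hy
  exact mem_Y2.2 ⟨_, h_Y1_mem F W E hw, (h_ns_conj E w).symm⟩

lemma h_t (F : Facts D) (B : Big D t) : D.h * t = t * D.h := B.comm _ F.h_mem

lemma nl_t (F : Facts D) (B : Big D t) : D.nl * t = t * D.nl := B.comm _ F.nl_mem

lemma comm_conj {g : H} (hg : g * t = t * g) (y : H) : ⁅g * y * g⁻¹, t⁆ = g * ⁅y, t⁆ * g⁻¹ := by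
  rw [conj_comm, conj_of_comm hg]

lemma fix3 [Finite H] (F : Facts D) (B : Big D t) (W : WFacts D t W0) {w : H} (hw : w ∈ W0)
    (h : D.h * w * D.h⁻¹ = w) : w = 1 := by
  have h1 : D.h * ⁅w, t⁆ * D.h⁻¹ = ⁅w, t⁆ := by rw [← comm_conj (h_t F B), h]
  have h2 := F.h_Z_fpf _ (W.comm_t w hw) h1
  rw [commutatorElement_eq_one_iff_mul_comm] at h2
  exact F.h_Z_fpf _ (cent_t_W0 F B W hw h2) h

lemma fix1 [Finite H] (F : Facts D) (B : Big D t) (W : WFacts D t W0) (E : HFacts D) {y : H}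
    (hy : y ∈ Y1 D W0) (h : D.h * y * D.h⁻¹ = y) : y = 1 := by
  obtain ⟨w, hw, rfl⟩ := mem_Y1.1 hy
  rw [h_Y1 F W E hw] at h
  have h1 : D.h⁻¹ * w * D.h = w := by
    calc D.h⁻¹ * w * D.h = D.nl⁻¹ * (D.nl * (D.h⁻¹ * w * D.h) * D.nl⁻¹) * D.nl := by group
      _ = D.nl⁻¹ * (D.nl * w * D.nl⁻¹) * D.nl := by rw [h]
      _ = w := by group
  have h2 : D.h * w * D.h⁻¹ = w := by
    calc D.h * w * D.h⁻¹ = D.h * (D.h⁻¹ * w * D.h) * D.h⁻¹ := by rw [h1]
      _ = w := by group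
  rw [fix3 F B W hw h2]; group

lemma fix2 [Finite H] (F : Facts D) (B : Big D t) (W : WFacts D t W0) (E : HFacts D) {y : H}
    (hy : y ∈ Y2 D W0) (h : D.h * y * D.h⁻¹ = y) : y = 1 := by
  obtain ⟨w, hw, rfl⟩ := mem_Y2.1 hy
  rw [h_ns_conj E] at h
  have h1 : D.h * w * D.h⁻¹ = w := by
    calc D.h * w * D.h⁻¹ = D.ns⁻¹ * (D.ns * (D.h * w * D.h⁻¹) * D.ns⁻¹) * D.ns := by group
      _ = D.ns⁻¹ * (D.ns * w * D.ns⁻¹) * D.ns := by rw [h]
      _ = w := by group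
  rw [fix1 F B W E hw h1]; group

/-! ### Intersections -/

lemma Y1_W0 [Finite H] (F : Facts D) (B : Big D t) (W : WFacts D t W0) {y : H}
    (hy : y ∈ Y1 D W0) (hw : y ∈ W0) : y = 1 := by
  obtain ⟨w, hw', rfl⟩ := mem_Y1.1 hy
  have h1 := W.comm_t _ hw
  have h2 := comm_conj (nl_t F B) w
  have h3 : ⁅D.nl * w * D.nl⁻¹, t⁆ ∈ D.Xe := by
    rw [h2]; exact F.nl_Z _ (W.comm_t w hw')
  have h4 := F.Xe_Z _ h3 h1
  have h5 : ⁅w, t⁆ = 1 := by
    rw [h4] at h2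
    calc ⁅w, t⁆ = D.nl⁻¹ * (D.nl * ⁅w, t⁆ * D.nl⁻¹) * D.nl := by group
      _ = 1 := by rw [← h2]; group
  rw [commutatorElement_eq_one_iff_mul_comm] at h4 h5
  have h6 := cent_t_W0 F B W hw h4
  have h7 := F.nl_Z _ (cent_t_W0 F B W hw' h5)
  exact F.Xe_Z _ h7 h6

lemma Xb_W4 (F : Facts D) {x : H} (hx : x ∈ D.Xb) (hw : x ∈ D.W4) : x = 1 := by
  obtain ⟨z, hz, e, he, h⟩ := mem_W4 F hw
  have h1 : e * x = x * e := by
    have hzx := P_Z F (F.Q1_le (F.Xb_le hx)) hz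
    have h2 : e = z⁻¹ * x := by rw [h]; group
    have h3 : x * z⁻¹ = z⁻¹ * x := P_Z F (F.Q1_le (F.Xb_le hx)) (inv_mem hz)
    rw [h2, ← mul_assoc x, h3, mul_assoc]
  rcases F.Xe_Xb e he x hx h1 with h2 | h2
  · -- `x = z ∈ Z`
    rw [h2, mul_one] at h
    -- a nontrivial element of `Xe`
    have : ∃ e' ∈ D.Xe, e' ≠ 1 := by
      by_contra hcon
      push Not at hcon
      have : D.Xe = ⊥ := by
        rw [eq_bot_iff]; intro e' he'; rw [mem_bot]; exact hcon e' he'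
      have h3 := F.card_Xe
      rw [this] at h3
      simp at h3
    obtain ⟨e', he', hne⟩ := this
    have h4 : e' * x = x * e' := by
      rw [h]; exact P_Z F (F.Q1_le (F.Xe_le he')) hz
    rcases F.Xe_Xb e' he' x hx h4 with h5 | h5
    · exact absurd h5 hne
    · exact h5
  · exact h2

lemma Y2_V [Finite H] (F : Facts D) (B : Big D t) (W : WFacts D t W0) (hV : VFacts D t W0 V)
    {y : H} (hy : y ∈ Y2 D W0) (hw : y ∈ V) : y = 1 := by
  obtain ⟨y1, hy1, rfl⟩ := mem_Y2.1 hy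
  obtain ⟨w, hw1, rfl⟩ := mem_Y1.1 hy1
  have hns : D.ns * t = t * D.ns := P_t F B F.ns_mem
  have h1 := hV.comm_t _ hw
  have h2 : ⁅D.nl * w * D.nl⁻¹, t⁆ ∈ D.Xe := by
    rw [comm_conj (nl_t F B)]; exact F.nl_Z _ (W.comm_t w hw1)
  have h3 := comm_conj hns (D.nl * w * D.nl⁻¹)
  have h4 : ⁅D.ns * (D.nl * w * D.nl⁻¹) * D.ns⁻¹, t⁆ ∈ D.Xb := by
    rw [h3]; exact F.ns_Xe _ h2
  have h5 := Xb_W4 F h4 h1
  have h6 : ⁅w, t⁆ = 1 := by
    rw [h5, comm_conj (nl_t F B)] at h3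
    calc ⁅w, t⁆ = D.nl⁻¹ * (D.ns⁻¹ * (D.ns * (D.nl * ⁅w, t⁆ * D.nl⁻¹) * D.ns⁻¹) * D.ns) * D.nl := by
          group
      _ = 1 := by rw [← h3]; group
  rw [commutatorElement_eq_one_iff_mul_comm] at h5 h6
  have h7 := F.ns_Xe _ (F.nl_Z _ (cent_t_W0 F B W hw1 h6))
  exact Xb_W4 F h7 (hV.cent_t _ hw h5)

/-! ### `V = Y1 W0` -/

lemma mem_V [Finite H] (F : Facts D) (B : Big D t) (W : WFacts D t W0) (hV : VFacts D t W0 V)
    {v : H} (hv : v ∈ V) : ∃ y ∈ Y1 D W0, ∃ w ∈ W0, v = y * w := by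
  have hc : ∀ y ∈ Y1 D W0, ∀ w ∈ W0, y * w = w * y := fun y hy w hw =>
    hV.comm y (Y1_V hV hy) w (hV.le hw)
  have hY1 := card_Y1 W
  let N : Subgroup H :=
    { carrier := {x | ∃ y ∈ Y1 D W0, ∃ w ∈ W0, x = y * w}
      one_mem' := ⟨1, one_mem _, 1, one_mem _, by simp⟩
      mul_mem' := by
        rintro _ _ ⟨z, hz, e, he, rfl⟩ ⟨z', hz', e', he', rfl⟩
        refine ⟨z * z', mul_mem hz hz', e * e', mul_mem he he', ?_⟩
        calc z * e * (z' * e') = z * (e * z') * e' := by group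
          _ = z * z' * (e * e') := by rw [← hc z' hz' e he]; group
      inv_mem' := by
        rintro _ ⟨z, hz, e, he, rfl⟩
        refine ⟨z⁻¹, inv_mem hz, e⁻¹, inv_mem he, ?_⟩
        rw [mul_inv_rev, hc _ (inv_mem hz) _ (inv_mem he)] }
  have hle : N ≤ V := by
    rintro _ ⟨z, hz, e, he, rfl⟩
    exact mul_mem (Y1_V hV hz) (hV.le he)
  have h1 : (⊥ : Subgroup H).relIndex (Y1 D W0) = W0.relIndex N := by
    refine relIndex_eq_of_map id (fun r hr => ⟨r, hr, 1, one_mem _, by simp⟩) ?_ ?_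
    · intro r hr r' hr'
      rw [mem_bot]
      constructor
      · intro h; simp only [id]; rw [h]; exact one_mem _
      · intro h; exact Y1_W0 F B W (mul_mem (inv_mem hr) hr') h
    · rintro k ⟨y, hy, w, hw, rfl⟩
      exact ⟨y, hy, by simpa using hw⟩
  rw [relIndex_bot_left, card_Y1 W] at h1
  have h2 := relIndex_mul_card' W0 N (fun w hw => ⟨1, one_mem _, w, hw, by simp⟩)
  rw [← h1, W.card] at h2
  have h3 : N = V := Subgroup.eq_of_le_of_card_ge hle (by rw [← h2, hV.card])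
  rw [← h3] at hv
  exact hv

/-! ### The group `U = Y1 Y2 W0` -/

/-- `Y1 Y2 W0` -/
def U [Finite H] (F : Facts D) (B : Big D t) (W : WFacts D t W0) (hV : VFacts D t W0 V) :
    Subgroup H where
  carrier := {x | ∃ y1 ∈ Y1 D W0, ∃ y2 ∈ Y2 D W0, ∃ y3 ∈ W0, x = y1 * y2 * y3}
  one_mem' := ⟨1, one_mem _, 1, one_mem _, 1, one_mem _, by simp⟩
  mul_mem' := by
    rintro _ _ ⟨a, ha, b, hb, c, hc, rfl⟩ ⟨a', ha', b', hb', c', hc', rfl⟩
    have hk : ⁅b, a'⁆ ∈ W0 := comm_R F B W hV (Y2_R F B W hV hb) (Y1_R F W hV ha')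
    refine ⟨a * a', mul_mem ha ha', b * b', mul_mem hb hb', ⁅b, a'⁆ * (c * c'),
      mul_mem hk (mul_mem hc hc'), ?_⟩
    have e1 : b * a' = ⁅b, a'⁆ * (a' * b) := by rw [commutatorElement_def]; group
    have e2 := (mul_mem (Y1_R F W hV ha') (Y2_R F B W hV hb')).1 c hc
    have e3 := (mul_mem (mul_mem (Y1_R F W hV ha') (Y2_R F B W hV hb)) (Y2_R F B W hV hb')).1 _ hk
    calc a * b * c * (a' * b' * c') = a * b * (c * (a' * b')) * c' := by group
      _ = a * (b * a') * b' * c * c' := by rw [← e2]; group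
      _ = a * (⁅b, a'⁆ * (a' * b * b')) * c * c' := by rw [e1]; group
      _ = a * a' * (b * b') * (⁅b, a'⁆ * (c * c')) := by rw [← e3]; group
  inv_mem' := by
    rintro _ ⟨a, ha, b, hb, c, hc, rfl⟩
    have hk : ⁅b⁻¹, a⁻¹⁆ ∈ W0 :=
      comm_R F B W hV (inv_mem (Y2_R F B W hV hb)) (inv_mem (Y1_R F W hV ha))
    refine ⟨a⁻¹, inv_mem ha, b⁻¹, inv_mem hb, ⁅b⁻¹, a⁻¹⁆ * c⁻¹, mul_mem hk (inv_mem hc), ?_⟩
    have e1 : b⁻¹ * a⁻¹ = ⁅b⁻¹, a⁻¹⁆ * (a⁻¹ * b⁻¹) := by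
      simp only [commutatorElement_def]; group
    have e2 := (inv_mem (mul_mem (Y1_R F W hV ha) (Y2_R F B W hV hb))).1 _ (inv_mem hc)
    have e3 := (mul_mem (inv_mem (Y1_R F W hV ha)) (inv_mem (Y2_R F B W hV hb))).1 _ hk
    calc (a * b * c)⁻¹ = c⁻¹ * (a * b)⁻¹ := by group
      _ = (b⁻¹ * a⁻¹) * c⁻¹ := by rw [← e2]; group
      _ = a⁻¹ * b⁻¹ * (⁅b⁻¹, a⁻¹⁆ * c⁻¹) := by rw [e1, ← e3]; group

lemma card_U [Finite H] (F : Facts D) (B : Big D t) (W : WFacts D t W0) (hV : VFacts D t W0 V) :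
    Nat.card (U F B W hV) = 2 ^ 12 := by
  have hc : Nat.card (Y1 D W0 × Y2 D W0 × W0) = 2 ^ 12 := by
    rw [Nat.card_prod, Nat.card_prod, card_Y1 W, card_Y2 W, W.card]; norm_num
  rw [← hc]
  refine (Nat.card_congr (Equiv.ofBijective (fun x : Y1 D W0 × Y2 D W0 × W0 =>
    (⟨x.1 * x.2.1 * x.2.2, x.1, x.1.2, x.2.1, x.2.1.2, x.2.2, x.2.2.2, rfl⟩ : U F B W hV))
    ⟨?_, ?_⟩)).symm
  · rintro ⟨⟨a, ha⟩, ⟨b, hb⟩, ⟨c, hc⟩⟩ ⟨⟨a', ha'⟩, ⟨b', hb'⟩, ⟨c', hc'⟩⟩ h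
    have h1 : a * b * c = a' * b' * c' := congrArg Subtype.val h
    have hcc : c' * c⁻¹ ∈ W0 := mul_mem hc' (inv_mem hc)
    have e1 : b' * b⁻¹ = (a'⁻¹ * a) * (c' * c⁻¹)⁻¹ := by
      have e2 := (Y2_R F B W hV hb).1 _ (inv_mem hcc)
      calc b' * b⁻¹ = a'⁻¹ * (a' * b' * c') * (c'⁻¹ * b⁻¹) := by group
        _ = (a'⁻¹ * a) * (b * (c' * c⁻¹)⁻¹) * b⁻¹ := by rw [← h1]; group
        _ = _ := by rw [e2]; group
    have h2 : b' * b⁻¹ = 1 := by
      refine Y2_V F B W hV (mul_mem hb' (inv_mem hb)) ?_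
      rw [e1]
      exact mul_mem (mul_mem (inv_mem (Y1_V hV ha')) (Y1_V hV ha)) (inv_mem (hV.le hcc))
    have h3 : b' = b := mul_inv_eq_one.1 h2
    rw [h2] at e1
    have e3 : a'⁻¹ * a = c' * c⁻¹ := mul_inv_eq_one.1 e1.symm
    have h4 : a'⁻¹ * a = 1 := by
      refine Y1_W0 F B W (mul_mem (inv_mem ha') ha) ?_
      rw [e3]; exact hcc
    have h5 : a' = a := inv_mul_eq_one.1 h4
    rw [h4] at e3
    have h6 : c' = c := mul_inv_eq_one.1 e3.symm
    simp only [Prod.mk.injEq, Subtype.mk.injEq]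
    exact ⟨h5.symm, h3.symm, h6.symm⟩
  · rintro ⟨x, a, ha, b, hb, c, hc, rfl⟩
    exact ⟨⟨⟨a, ha⟩, ⟨b, hb⟩, ⟨c, hc⟩⟩, rfl⟩

/-! ### The homomorphisms `T` and `h` -/

/-- conjugation by `t` -/
def TT (t : H) : H →* H := (MulAut.conj t).toMonoidHom

lemma TT_apply (t y : H) : TT t y = t * y * t⁻¹ := rfl

lemma zz_eq {y y' : H} (hy : y * y = 1) (hy' : y' * y' = 1) : zz y y' = ⁅y, y'⁆ := by
  have h1 : y⁻¹ = y := inv_eq_of_mul_eq_one_right hy
  have h2 : y'⁻¹ = y' := inv_eq_of_mul_eq_one_right hy'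
  rw [zz, commutatorElement_def, h1, h2]

lemma exists_ne_one {K : Subgroup H} (h : Nat.card K = 4) : ∃ e ∈ K, e ≠ 1 := by
  by_contra hcon
  push Not at hcon
  have : K = ⊥ := by
    rw [eq_bot_iff]; intro e he; rw [mem_bot]; exact hcon e he
  rw [this] at h
  simp at h

lemma lin_inj {K : Subgroup H} (φ : H →* H) (hfix : ∀ y ∈ K, φ y = y → y = 1)
    (hinj : ∀ y, φ y = 1 → y = 1)
    (hsq : ∀ y ∈ K, y * y = 1) {g : H} (hg : g ∈ K) (hne : g ≠ 1) (a : F4)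
    (h : lin φ g a = 1) : a = 0 := by
  cases a with
  | z => rfl
  | o => exact absurd h hne
  | w =>
    exfalso
    exact hne (hinj g h)
  | v =>
    exfalso
    have h1 : g * φ g = 1 := h
    have h2 : φ g = g := by
      have h3 : g⁻¹ = g := inv_eq_of_mul_eq_one_right (hsq g hg)
      rw [← inv_eq_of_mul_eq_one_right h1, h3]
    exact hne (hfix g hg h2)

lemma TT_Y1 (F : Facts D) (B : Big D t) (W : WFacts D t W0) (hV : VFacts D t W0 V) {w : H}
    (hw : w ∈ W0) : TT t (D.nl * w * D.nl⁻¹) = D.nl * w * D.nl⁻¹ * (D.nl * ⁅w, t⁆ * D.nl⁻¹) := by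
  have h1 := comm_conj (nl_t F B) w
  set y := D.nl * w * D.nl⁻¹ with hy
  have hyY : y ∈ Y1 D W0 := mem_Y1.2 ⟨w, hw, rfl⟩
  have heX : D.nl * ⁅w, t⁆ * D.nl⁻¹ ∈ D.Xe := F.nl_Z _ (W.comm_t w hw)
  set e := D.nl * ⁅w, t⁆ * D.nl⁻¹
  have heY := Xe_Y1 F W heX
  have h2 : y * e = e * y := hV.comm _ (Y1_V hV hyY) _ (Y1_V hV heY)
  have h3 : e⁻¹ = e := inv_eq_of_mul_eq_one_right (F.sq_Xe e heX)
  rw [TT_apply, h2, ← h3, ← h1, commutatorElement_def]
  group

lemma f4_eq_of_add : ∀ a b : F4, a + b = 0 → a = b := by decide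

/-- **the configuration `Y1, Y2, W0` is `Grown`** -/
theorem exists_grown [Finite H] (F : Facts D) (B : Big D t) (W : WFacts D t W0)
    (hV : VFacts D t W0 V) (E : HFacts D) : ∃ x1 x2 x3 : F4 → H,
    Grown (TT t) (MulAut.conj D.h).toMonoidHom (Y1 D W0) (Y2 D W0) W0 (U F B W hV) x1 x2 x3 := by
  set Hh : H →* H := (MulAut.conj D.h).toMonoidHom with hHh
  have Hh_apply : ∀ y, Hh y = D.h * y * D.h⁻¹ := fun y => rfl
  have hHHH : ∀ y, Hh (Hh (Hh y)) = y := by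
    intro y
    have h3 : D.h * D.h * D.h = 1 := by
      have := F.h_pow
      rwa [pow_succ, pow_two] at this
    rw [Hh_apply, Hh_apply, Hh_apply]
    calc D.h * (D.h * (D.h * y * D.h⁻¹) * D.h⁻¹) * D.h⁻¹ =
        (D.h * D.h * D.h) * y * (D.h * D.h * D.h)⁻¹ := by group
      _ = y := by rw [h3]; group
  have hinj : ∀ y, Hh y = 1 → y = 1 := fun y hy =>
    (MulAut.conj D.h).injective (hy.trans (map_one _).symm)
  obtain ⟨e0, he0, hne0⟩ := exists_ne_one F.card_Xe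
  obtain ⟨b0, hb0, hnb0⟩ := exists_ne_one F.card_Xb
  have hXe : ∀ y ∈ D.Xe, Hh y ∈ D.Xe := F.h_Xe
  have hXb : ∀ y ∈ D.Xb, Hh y ∈ D.Xb := F.h_Xb
  have hfe : ∀ y ∈ D.Xe, Hh y = y → y = 1 := F.h_Xe_fpf
  have hfb : ∀ y ∈ D.Xb, Hh y = y → y = 1 := fun y hy h => fix2 F B W E (Xb_Y2 F W hy) h
  set x1 : F4 → H := lin Hh e0 with hx1
  set x2 : F4 → H := lin Hh b0 with hx2
  have m1 : ∀ a, x1 a ∈ D.Xe := lin_mem hXe he0
  have m2 : ∀ a, x2 a ∈ D.Xb := lin_mem hXb hb0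
  have a1 : ∀ a b, x1 (a + b) = x1 a * x1 b := lin_add F.sq_Xe hXe he0
  have a2 : ∀ a b, x2 (a + b) = x2 a * x2 b := lin_add F.sq_Xb hXb hb0
  have i1 : ∀ a, x1 a = 1 → a = 0 := lin_inj Hh hfe hinj F.sq_Xe he0 hne0
  have i2 : ∀ a, x2 a = 1 → a = 0 := lin_inj Hh hfb hinj F.sq_Xb hb0 hnb0
  have h1 : ∀ a, Hh (x1 a) = x1 (F4.w * a) := lin_H F.sq_Xe hXe hHHH hfe he0
  have h2 : ∀ a, Hh (x2 a) = x2 (F4.w * a) := lin_H F.sq_Xb hXb hHHH hfb hb0
  -- the commutator map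
  set Φ : F4 → F4 → H := fun a b => ⁅x1 a, x2 b⁆ with hΦ
  have hΦ' : ∀ a b, Φ a b = ⁅x1 a, x2 b⁆ := fun _ _ => rfl
  have Φm : ∀ a b, Φ a b ∈ D.Z := fun a b =>
    F.comm_Q1 _ (F.Xe_le (m1 a)) _ (F.Xb_le (m2 b))
  have Φb : ∀ a b, Φ (F4.w * a) b = Hh (Hh (Φ a b)) := by
    intro a b
    rw [hΦ', ← h1]
    exact F.h_bilin _ (m1 a) _ (m2 b)
  have Φh : ∀ a b, Φ (F4.w * a) (F4.w * b) = Hh (Φ a b) := by
    intro a b
    rw [hΦ', ← h1, ← h2, hΦ', map_commutatorElement]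
  have Φc : ∀ a b, Φ a (F4.w * b) = Hh (Hh (Φ a b)) := by
    intro a b
    have e1 : a = F4.w * (F4.v * a) := by cases a <;> rfl
    have e2 : F4.v * a = F4.w * (F4.w * a) := by cases a <;> rfl
    have e3 : Φ a (F4.w * b) = Hh (Φ (F4.v * a) b) := by rw [← Φh, ← e1]
    rw [e3, e2, Φb, Φb, hHHH]
  have Φ1 : ∀ a b, Φ a b = Φ 1 (a * b) := by
    intro a b
    have z1 : x1 0 = 1 := rfl
    have z2 : x2 0 = 1 := rfl
    cases a with
    | z =>
      have e : (F4.z * b) = 0 := by cases b <;> rfl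
      rw [e, hΦ', hΦ', z2]
      change ⁅x1 0, x2 b⁆ = _
      rw [z1]; simp
    | o =>
      have e : (F4.o * b) = b := by cases b <;> rfl
      rw [e]; rfl
    | w =>
      have e : (F4.w : F4) = F4.w * 1 := rfl
      rw [Φc 1 b]
      conv_lhs => rw [e]
      rw [Φb 1 b]
    | v =>
      have e : (F4.v : F4) = F4.w * (F4.w * 1) := rfl
      have e' : (F4.v * b) = F4.w * (F4.w * b) := by cases b <;> rfl
      rw [e', Φc, Φc]
      conv_lhs => rw [e]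
      rw [Φb, Φb]
  set x3 : F4 → H := fun c => Φ 1 c with hx3
  have hx3' : ∀ c, x3 c = Φ 1 c := fun _ => rfl
  have m3 : ∀ a, x3 a ∈ D.Z := fun a => Φm 1 a
  have a3 : ∀ a b, x3 (a + b) = x3 a * x3 b := by
    intro a b
    rw [hx3', hΦ', a2, comm_mul_right]
    rw [conj_of_comm (P_Z F (F.Q1_le (F.Xb_le (m2 a))) (Φm 1 b))]
  have i3 : ∀ a, x3 a = 1 → a = 0 := by
    intro a ha
    have e1 : x1 1 * x2 a = x2 a * x1 1 := by
      rw [← commutatorElement_eq_one_iff_mul_comm]; exact ha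
    rcases F.Xe_Xb _ (m1 1) _ (m2 a) e1 with h | h
    · exact absurd h hne0
    · exact i2 a h
  have h3 : ∀ a, Hh (x3 a) = x3 (F4.v * a) := by
    intro a
    have e1 : F4.v * a = F4.w * (F4.w * a) := by cases a <;> rfl
    rw [hx3', hx3', e1, Φc, Φc, hHHH]
  have comm : ∀ a b, x1 a * x2 b = x2 b * x1 a * x3 (a * b) := by
    intro a b
    rw [hx3', ← Φ1, hΦ', ← zz_eq (F.sq_Xe _ (m1 a)) (F.sq_Xb _ (m2 b))]
    exact zz_spec _ _
  have Tfix : ∀ p ∈ D.P, TT t p = p := fun p hp => by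
    rw [TT_apply]; exact conj_of_comm (P_t F B hp).symm
  have lift1 : ∀ e ∈ D.Xe, ∃ y ∈ Y1 D W0, TT t y = y * e := by
    intro e he
    obtain ⟨w, hw, h⟩ := W.onto _ (F.nl_Xe e he)
    refine ⟨_, mem_Y1.2 ⟨w, hw, rfl⟩, ?_⟩
    rw [TT_Y1 F B W hV hw, h, nl_nl F]
  refine ⟨x1, x2, x3, ?_⟩
  exact
  { card1 := card_Y1 W
    card2 := card_Y2 W
    card3 := W.card
    cardU := card_U F B W hV
    sq1 := sq_Y1 hV
    sq2 := sq_Y2 hV
    sq3 := fun y hy => hV.sq y (hV.le hy)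
    le1 := fun y hy => ⟨y, hy, 1, one_mem _, 1, one_mem _, by simp⟩
    le2 := fun y hy => ⟨1, one_mem _, y, hy, 1, one_mem _, by simp⟩
    le3 := fun y hy => ⟨1, one_mem _, 1, one_mem _, y, hy, by simp⟩
    gen := fun u hu => hu
    c13 := fun y hy z hz => (Y1_R F W hV hy).1 z hz
    c23 := fun y hy z hz => (Y2_R F B W hV hy).1 z hz
    c12 := fun y hy y' hy' => ⟨zz y y', by
      rw [zz_eq (sq_Y1 hV y hy) (sq_Y2 hV y' hy')]
      exact comm_R F B W hV (Y1_R F W hV hy) (Y2_R F B W hV hy'), zz_spec y y'⟩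
    TH := fun y => by
      rw [TT_apply, TT_apply, Hh_apply, Hh_apply]
      calc t * (D.h * y * D.h⁻¹) * t⁻¹ = (t * D.h) * y * (t * D.h)⁻¹ := by group
        _ = (D.h * t) * y * (D.h * t)⁻¹ := by rw [h_t F B]
        _ = _ := by group
    HHH := hHHH
    T3 := fun y hy => by
      have e1 : TT t y = ⁅y, t⁆⁻¹ * y := by
        rw [TT_apply, commutatorElement_def]; group
      rw [e1]
      exact mul_mem (inv_mem (W.Z_le (W.comm_t y hy))) hy
    H1 := fun y hy => h_Y1_mem F W E hy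
    H2 := fun y hy => h_Y2_mem F W E hy
    H3 := W.h_mem
    fix1 := fun y hy h => fix1 F B W E hy h
    fix2 := fun y hy h => fix2 F B W E hy h
    fix3 := fun y hy h => fix3 F B W hy h
    m1 := fun a => Xe_Y1 F W (m1 a)
    m2 := fun a => Xb_Y2 F W (m2 a)
    m3 := fun a => W.Z_le (m3 a)
    a1 := a1
    a2 := a2
    a3 := a3
    i1 := i1
    i2 := i2
    i3 := i3
    h1 := h1
    h2 := h2
    h3 := h3
    comm := comm
    t1 := fun a => Tfix _ (F.Q1_le (F.Xe_le (m1 a)))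
    t2 := fun a => Tfix _ (F.Q1_le (F.Xb_le (m2 a)))
    t3 := fun a => Tfix _ (F.Q1_le (F.Z_le (m3 a)))
    lift1 := lift1 _ (m1 1)
    lift2 := by
      obtain ⟨y, hy, h⟩ := lift1 _ (F.ns_Xb _ (m2 1))
      refine ⟨_, mem_Y2.2 ⟨y, hy, rfl⟩, ?_⟩
      have e1 : TT t (D.ns * y * D.ns⁻¹) = D.ns * TT t y * D.ns⁻¹ := by
        rw [map_mul, map_mul, map_inv, Tfix _ F.ns_mem]
      rw [e1, h]
      calc D.ns * (y * (D.ns * x2 1 * D.ns⁻¹)) * D.ns⁻¹ =
          D.ns * y * D.ns⁻¹ * (D.ns * (D.ns * x2 1 * D.ns⁻¹) * D.ns⁻¹) := by group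
        _ = _ := by rw [ns_ns F]
    tfix3 := fun y hy h => by
      have e1 : y * t = t * y := by
        rw [TT_apply] at h
        calc y * t = t * y * t⁻¹ * t := by rw [h]
          _ = t * y := by group
      have e2 := cent_t_W0 F B W hy e1
      have hI : Function.Injective (fun a : F4 => (⟨x3 a, m3 a⟩ : D.Z)) := by
        intro a b hab
        have e3 : x3 a = x3 b := congrArg Subtype.val hab
        have e4 := i3 (a + b) (by rw [a3, e3, F.sq_Z _ (m3 b)])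
        exact f4_eq_of_add a b e4
      have hfin : Finite D.Z := inferInstance
      have hB := hI.bijective_of_nat_card_le (by rw [F.card_Z, Nat.card_eq_fintype_card]; decide)
      obtain ⟨a, ha⟩ := hB.2 ⟨y, e2⟩
      exact ⟨a, (congrArg Subtype.val ha).symm⟩ }

end Cfsg.Agent.GTwoFour.ChiData
end

-- part: GTwoFour/ChiRing
section
/-!
# A homomorphism from the automorphism group of a group with a commutator form over a ring

`RingData R ν j`: `R` is a group of class two whose centre is the image of the ring `Q ν` (of order 16)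
under `j`, such that the commutator form has many `Q ν`-linear sections (`p1`) and is onto (`p2`).
Then every automorphism of `R` acts semilinearly on the centre; composing with `exists_chi` we get a
homomorphism `χ` from `MulAut R` to a commutative group such that involutions `d` with `χ d ≠ 1` have
exactly four fixed points on the centre.
-/

set_option autoImplicit false

namespace Cfsg.Agent.GTwoFour.ChiRing

open Subgroup Cfsg.Agent.StdL3.HeisRing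
open Cfsg.Agent.SporadicA.FieldFour
open scoped commutatorElement

variable {R : Type*} [Group R] {ν : F4} {j : Q ν → R}

/-- a class two group whose centre is the ring `Q ν` -/
structure RingData (R : Type*) [Group R] (ν : F4) (j : Q ν → R) : Prop where
  add : ∀ a b, j (a + b) = j a * j b
  inj : Function.Injective j
  mem : ∀ a, j a ∈ center R
  sur : ∀ z ∈ center R, ∃ a, j a = z
  p1 : ∀ (b : Q ν) (r : R), ∃ r' : R, ∀ (s : R) (x : Q ν), ⁅r, s⁆ = j x → ⁅r', s⁆ = j (b * x)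
  p2 : ∀ x : Q ν, ∃ r s : R, ⁅r, s⁆ = j x

namespace RingData

variable (h : RingData R ν j)
include h

lemma map_zero : j 0 = 1 := by
  have := h.add 0 0
  rw [add_zero] at this
  exact left_eq_mul.1 this

lemma mul_self (x : Q ν) : j x * j x = 1 := by
  rw [← h.add, CharTwo.add_self_eq_zero, h.map_zero]

lemma inv (x : Q ν) : (j x)⁻¹ = j x := inv_eq_of_mul_eq_one_right (h.mul_self x)

lemma swap {r s : R} {x : Q ν} (hx : ⁅r, s⁆ = j x) : ⁅s, r⁆ = j x := by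
  rw [← commutatorElement_inv, hx, h.inv]

/-- the action of an automorphism on the centre -/
lemma exists_g (α : MulAut R) : ∃ g : Q ν → Q ν, ∀ x, α (j x) = j (g x) := by
  have : ∀ x, ∃ y, α (j x) = j y := by
    intro x
    have h1 : α (j x) ∈ center R := by
      rw [mem_center_iff]
      intro r
      have h2 := mem_center_iff.1 (h.mem x) (α.symm r)
      have h3 := congrArg α h2
      rw [map_mul, map_mul, MulEquiv.apply_symm_apply] at h3
      exact h3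
    obtain ⟨y, hy⟩ := h.sur _ h1
    exact ⟨y, hy.symm⟩
  choose g hg using this
  exact ⟨g, hg⟩

lemma g_add {α : MulAut R} {g : Q ν → Q ν} (hg : ∀ x, α (j x) = j (g x)) (x y : Q ν) :
    g (x + y) = g x + g y := by
  apply h.inj
  rw [← hg, h.add, map_mul, hg, hg, ← h.add]

lemma g_inv {α : MulAut R} {g g' : Q ν → Q ν} (hg : ∀ x, α (j x) = j (g x))
    (hg' : ∀ x, α⁻¹ (j x) = j (g' x)) (x : Q ν) : g (g' x) = x ∧ g' (g x) = x := by
  constructor
  · apply h.inj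
    rw [← hg, ← hg', ← MulAut.mul_apply, mul_inv_cancel, MulAut.one_apply]
  · apply h.inj
    rw [← hg', ← hg, ← MulAut.mul_apply, inv_mul_cancel, MulAut.one_apply]

/-- semilinearity -/
lemma exists_sigma_aux {α : MulAut R} {g g' : Q ν → Q ν} (hg : ∀ x, α (j x) = j (g x))
    (hg' : ∀ x, α⁻¹ (j x) = j (g' x)) (c y : Q ν) : g (c * y) = g (c * g' 1) * g y := by
  -- `e x = g (c * g' x)` commutes with multiplications
  have key : ∀ b x : Q ν, g (c * g' (b * x)) = b * g (c * g' x) := by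
    intro b x
    obtain ⟨r, s, hrs⟩ := h.p2 x
    obtain ⟨r0, hr0⟩ := h.p1 c (α⁻¹ r)
    have hE : ∀ (u : R) (y : Q ν), ⁅r, u⁆ = j y → ⁅α r0, u⁆ = j (g (c * g' y)) := by
      intro u y hy
      have h1 : ⁅α⁻¹ r, α⁻¹ u⁆ = j (g' y) := by
        rw [← map_commutatorElement, hy, hg']
      have h2 := hr0 _ _ h1
      have h3 := congrArg α h2
      rw [map_commutatorElement, hg, ← MulAut.mul_apply, mul_inv_cancel, MulAut.one_apply] at h3
      exact h3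
    obtain ⟨s', hs'⟩ := h.p1 b s
    have h1 : ⁅r, s'⁆ = j (b * x) := h.swap (hs' _ _ (h.swap hrs))
    have h2 := hE _ _ h1
    have h3 : ⁅α r0, s'⁆ = j (b * g (c * g' x)) := h.swap (hs' _ _ (h.swap (hE _ _ hrs)))
    exact h.inj (h2.symm.trans h3)
  have h1 := key (g y) 1
  rw [mul_one, (h.g_inv hg hg' y).2] at h1
  rw [h1, mul_comm]

lemma exists_sigma (α : MulAut R) : ∃ σ : RingAut (Q ν), ∀ c x y,
    α (j x) = j y → α (j (c * x)) = j (σ c * y) := by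
  obtain ⟨g, hg⟩ := h.exists_g α
  obtain ⟨g', hg'⟩ := h.exists_g α⁻¹
  have hs := h.exists_sigma_aux hg hg'
  let f : Q ν →+* Q ν :=
    { toFun := fun c => g (c * g' 1)
      map_one' := by rw [one_mul, (h.g_inv hg hg' 1).1]
      map_mul' := by
        intro a b
        have h1 := hs a (b * g' 1)
        rw [← mul_assoc] at h1
        exact h1
      map_zero' := by
        have := h.g_add hg 0 0
        rw [add_zero] at this
        rw [zero_mul]
        exact left_eq_add.1 this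
      map_add' := by
        intro a b
        rw [add_mul, h.g_add hg] }
  have hinj : Function.Injective f := by
    intro a b hab
    have h1 : g (a * 1) = g (b * 1) := by
      rw [hs a 1, hs b 1]
      congr 1
    have h2 := congrArg g' h1
    rw [(h.g_inv hg hg' _).2, (h.g_inv hg hg' _).2, mul_one, mul_one] at h2
    exact h2
  have hbij : Function.Bijective f := Finite.injective_iff_bijective.1 hinj
  refine ⟨RingEquiv.ofBijective f hbij, ?_⟩
  intro c x y hxy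
  rw [hg] at hxy
  rw [hg, hs, h.inj hxy]
  rfl

lemma sigma_unique {α : MulAut R} {σ σ' : RingAut (Q ν)}
    (h1 : ∀ c x y, α (j x) = j y → α (j (c * x)) = j (σ c * y))
    (h2 : ∀ c x y, α (j x) = j y → α (j (c * x)) = j (σ' c * y)) : σ = σ' := by
  obtain ⟨g, hg⟩ := h.exists_g α
  obtain ⟨g', hg'⟩ := h.exists_g α⁻¹
  ext1 c
  have h3 : α (j (g' 1)) = j 1 := by rw [hg, (h.g_inv hg hg' 1).1]
  have h4 := (h1 c _ _ h3).symm.trans (h2 c _ _ h3)
  have h5 := h.inj h4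
  rwa [mul_one, mul_one] at h5

/-- the homomorphism to the automorphism group of the ring -/
noncomputable def sig : MulAut R →* RingAut (Q ν) where
  toFun α := (h.exists_sigma α).choose
  map_one' := by
    refine h.sigma_unique (h.exists_sigma 1).choose_spec ?_
    intro c x y hxy
    rw [MulAut.one_apply] at hxy ⊢
    rw [h.inj hxy]; rfl
  map_mul' α β := by
    refine h.sigma_unique (h.exists_sigma (α * β)).choose_spec ?_
    intro c x y hxy
    obtain ⟨g, hg⟩ := h.exists_g β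
    have h1 := (h.exists_sigma β).choose_spec c x _ (hg x)
    have h2 : α (j (g x)) = j y := by
      rw [← hg, ← MulAut.mul_apply, hxy]
    have h3 := (h.exists_sigma α).choose_spec ((h.exists_sigma β).choose c) _ _ h2
    rw [MulAut.mul_apply, h1, h3]
    rfl

lemma sig_spec (α : MulAut R) : ∀ c x y, α (j x) = j y → α (j (c * x)) = j (h.sig α c * y) :=
  (h.exists_sigma α).choose_spec

lemma card_fixed {d : MulAut R} (hd : d * d = 1) {θ : Q ν} (hθ : h.sig d θ = θ + 1) :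
    Nat.card {z : center R // d z = z} = 4 := by
  obtain ⟨g, hg⟩ := h.exists_g d
  have hgg : ∀ x, g (g x) = x := by
    intro x
    apply h.inj
    rw [← hg, ← hg, ← MulAut.mul_apply, hd, MulAut.one_apply]
  let δ : Q ν →+ Q ν := AddMonoidHom.mk' (fun x => g x + x) (fun x y => by
    rw [h.g_add hg]; abel)
  have hδ : ∀ x, δ x = g x + x := fun x => rfl
  have hker : ∀ x, x ∈ δ.ker ↔ g x = x := by
    intro x
    rw [AddMonoidHom.mem_ker, hδ]
    exact CharTwo.add_eq_zero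
  have hkr : δ.ker = δ.range := by
    ext x
    rw [hker, AddMonoidHom.mem_range]
    constructor
    · intro hx
      refine ⟨θ * x, ?_⟩
      rw [hδ]
      have h1 : g (θ * x) = (θ + 1) * x := by
        apply h.inj
        rw [← hg, h.sig_spec d θ x x (by rw [hg, hx]), hθ]
      rw [h1, add_mul, one_mul, add_comm, ← add_assoc, CharTwo.add_self_eq_zero, zero_add]
    · rintro ⟨y, rfl⟩
      rw [hδ, h.g_add hg, hgg, add_comm]
  have hc : Nat.card δ.ker * Nat.card δ.range = 16 := by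
    have h1 := δ.ker.card_eq_card_quotient_mul_card_addSubgroup
    have h2 := Nat.card_congr (QuotientAddGroup.quotientKerEquivRange δ).toEquiv
    rw [h2, card_q] at h1
    rw [mul_comm]
    exact h1.symm
  rw [← hkr] at hc
  have h4 : Nat.card δ.ker = 4 := by nlinarith
  rw [← h4]
  symm
  refine Nat.card_congr (Equiv.ofBijective
    (fun x : δ.ker => (⟨⟨j x, h.mem x⟩, by
      have := (hker x).1 x.2
      change d (j x) = j x
      rw [hg, this]⟩ : {z : center R // d z = z})) ⟨?_, ?_⟩)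
  · intro a b hab
    have h1 : j (a : Q ν) = j (b : Q ν) := congrArg (fun z => ((z.1 : center R) : R)) hab
    exact Subtype.ext (h.inj h1)
  · rintro ⟨⟨z, hz⟩, hdz⟩
    obtain ⟨x, rfl⟩ := h.sur z hz
    have h1 : g x = x := h.inj (by rw [← hg]; exact hdz)
    exact ⟨⟨x, (hker x).2 h1⟩, rfl⟩

/-- **the homomorphism `χ`** -/
theorem exists_chi : ∃ (A : Type) (_ : CommGroup A) (χ : MulAut R →* A),
    (∀ τ : MulAut R, (∀ x, τ (j x) = j (tau ν x)) → χ τ ≠ 1) ∧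
    ∀ d : MulAut R, d * d = 1 → χ d ≠ 1 → Nat.card {z : center R // d z = z} = 4 := by
  obtain ⟨A, iA, χ0, θ, h1, h2⟩ := Cfsg.Agent.StdL3.HeisRing.exists_chi ν
  refine ⟨A, iA, χ0.comp h.sig, ?_, ?_⟩
  · intro τ hτ
    have h3 : h.sig τ = tau ν := by
      refine h.sigma_unique (h.sig_spec τ) ?_
      intro c x y hxy
      rw [hτ] at hxy
      rw [hτ, map_mul, h.inj hxy]
    rw [MonoidHom.comp_apply, h3]
    exact h1
  · intro d hd hχ
    refine h.card_fixed hd (θ := θ) (h2 _ ?_ hχ)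
    rw [← map_mul, hd, map_one]

end RingData

end Cfsg.Agent.GTwoFour.ChiRing
end

-- part: GTwoFour/Chi
section
/-!
# Step (B): the homomorphism `χ` on `MulAut R`, `|R| = 2^20`
-/

set_option autoImplicit false

namespace Cfsg.Agent.GTwoFour.Chi

open Subgroup Cfsg.Agent.GTwoFour.Iface Cfsg.Agent.GTwoFour.GrowR Cfsg.Agent.GTwoFour.ChiData
open Cfsg.Agent.StdL3.HeisRing Cfsg.Agent.StdL3.HeisCoord Cfsg.Agent.GTwoFour.ChiCoord
open Cfsg.Agent.GTwoFour.ChiRing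
open Cfsg.Agent.SporadicA.FieldFour
open scoped commutatorElement

variable {H : Type*} [Group H] {D : Data H} {t : H} {W0 V : Subgroup H}

/-- `R` is generated by the `P`-conjugates of `V` -/
lemma gen_V [Finite H] (F : Facts D) (B : Big D t) (W : WFacts D t W0) (hV : VFacts D t W0 V)
    (K : Subgroup H) (hP : ∀ p ∈ D.P, ∀ v ∈ V, p * v * p⁻¹ ∈ K) : rGrp F W ≤ K := by
  have hVK : V ≤ K := by
    intro v hv
    have := hP 1 (one_mem _) v hv
    simpa using this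
  refine gen_R F B W hV K ?_ (hV.le.trans hVK) hP
  refine F.gen_Q1 K (fun z hz => hVK (hV.le (W.Z_le hz))) ?_
  intro p hp e he
  exact hP p hp e (Y1_V hV (Xe_Y1 F W he))

/-- multiplicativity of commutators in `R` -/
lemma comm_mul_l [Finite H] (F : Facts D) (B : Big D t) (W : WFacts D t W0)
    (hV : VFacts D t W0 V) {a b s : H} (ha : a ∈ rGrp F W) (hb : b ∈ rGrp F W)
    (hs : s ∈ rGrp F W) : ⁅a * b, s⁆ = ⁅a, s⁆ * ⁅b, s⁆ := by
  have h1 := comm_R F B W hV hb hs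
  have h2 := comm_R F B W hV ha hs
  rw [comm_mul_left, conj_of_comm (ha.1 _ h1)]
  exact (W.comm _ h2 _ h1).symm

lemma comm_mul_r [Finite H] (F : Facts D) (B : Big D t) (W : WFacts D t W0)
    (hV : VFacts D t W0 V) {a b s : H} (ha : a ∈ rGrp F W) (hb : b ∈ rGrp F W)
    (hs : s ∈ rGrp F W) : ⁅s, a * b⁆ = ⁅s, a⁆ * ⁅s, b⁆ := by
  have h1 := comm_R F B W hV hs hb
  rw [comm_mul_right, conj_of_comm (ha.1 _ h1)]

lemma comm_inv_l [Finite H] (F : Facts D) (B : Big D t) (W : WFacts D t W0)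
    (hV : VFacts D t W0 V) {a s : H} (ha : a ∈ rGrp F W) (hs : s ∈ rGrp F W) :
    ⁅a⁻¹, s⁆ = ⁅a, s⁆⁻¹ := by
  have h1 := comm_mul_l F B W hV (inv_mem ha) ha hs
  rw [inv_mul_cancel, commutatorElement_one_left] at h1
  exact eq_inv_of_mul_eq_one_left h1.symm

lemma comm_inv_r [Finite H] (F : Facts D) (B : Big D t) (W : WFacts D t W0)
    (hV : VFacts D t W0 V) {a s : H} (ha : a ∈ rGrp F W) (hs : s ∈ rGrp F W) :
    ⁅s, a⁻¹⁆ = ⁅s, a⁆⁻¹ := by
  have h1 := comm_mul_r F B W hV (inv_mem ha) ha hs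
  rw [inv_mul_cancel, commutatorElement_one_right] at h1
  exact eq_inv_of_mul_eq_one_left h1.symm

/-- elements of `W0` do not matter in commutators -/
lemma comm_W0_l (F : Facts D) (W : WFacts D t W0) {w s : H} (hw : w ∈ W0) (hs : s ∈ rGrp F W) :
    ⁅w, s⁆ = 1 := by
  rw [commutatorElement_eq_one_iff_mul_comm]
  exact (hs.1 w hw).symm

lemma comm_W0_r (F : Facts D) (W : WFacts D t W0) {w s : H} (hw : w ∈ W0) (hs : s ∈ rGrp F W) :
    ⁅s, w⁆ = 1 := by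
  rw [commutatorElement_eq_one_iff_mul_comm]
  exact hs.1 w hw

/-- `B = Q1 Xa ⟨y⟩` centralises `V / W0` -/
lemma B_V_W0 [Finite H] (F : Facts D) (B : Big D t) (W : WFacts D t W0) (hV : VFacts D t W0 V)
    {b : H} (hb : b ∈ D.B) {v : H} (hv : v ∈ V) : ∃ w ∈ W0, b * v * b⁻¹ = w * v := by
  let N : Subgroup H :=
    { carrier := {b | b ∈ D.P ∧ ∀ v ∈ V, ∃ w ∈ W0, b * v * b⁻¹ = w * v}
      one_mem' := ⟨one_mem _, fun v _ => ⟨1, one_mem _, by simp⟩⟩
      mul_mem' := by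
        rintro a b ⟨ha, ha'⟩ ⟨hb, hb'⟩
        refine ⟨mul_mem ha hb, fun v hv => ?_⟩
        obtain ⟨w, hw, h⟩ := hb' v hv
        obtain ⟨w', hw', h'⟩ := ha' v hv
        refine ⟨w * w', mul_mem hw hw', ?_⟩
        calc a * b * v * (a * b)⁻¹ = a * (b * v * b⁻¹) * a⁻¹ := by group
          _ = (a * w * a⁻¹) * (a * v * a⁻¹) := by rw [h]; group
          _ = w * w' * v := by
            rw [conj_of_comm (W.cent_P w hw a ha).symm, h', mul_assoc]
      inv_mem' := by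
        rintro a ⟨ha, ha'⟩
        refine ⟨inv_mem ha, fun v hv => ?_⟩
        obtain ⟨w, hw, h⟩ := ha' v hv
        refine ⟨w⁻¹, inv_mem hw, ?_⟩
        have c := W.cent_P w hw a⁻¹ (inv_mem ha)
        calc a⁻¹ * v * a⁻¹⁻¹ = w⁻¹ * (w * a⁻¹) * v * a := by group
          _ = w⁻¹ * a⁻¹ * (w * v) * a := by rw [c]; group
          _ = w⁻¹ * v := by rw [← h]; group }
  have hle : D.B ≤ N := by
    refine sup_le (sup_le ?_ ?_) ?_
    · intro q hq
      refine ⟨F.Q1_le hq, fun v hv => ⟨⁅q, v⁆, ?_, ?_⟩⟩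
      · exact comm_R F B W hV (Q1_R F B W hq) (V_R F W hV hv)
      · rw [commutatorElement_def]; group
    · intro a ha
      refine ⟨Xa_P F ha, fun v hv => ⟨1, one_mem _, ?_⟩⟩
      rw [conj_of_comm (hV.cent_L2 v hv a (F.Q2_le (F.Xa_le ha))).symm, one_mul]
    · rw [zpowers_le]
      refine ⟨F.y_mem.1, fun v hv => ⟨1, one_mem _, ?_⟩⟩
      rw [conj_of_comm (hV.cent_L2 v hv _ F.y_mem).symm, one_mul]
  exact (hle hb).2 v hv

section

variable {ν : F4} {y1 y2 y3 : Q ν → H}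

lemma y3_zero {T : H →* H} {Y1 Y2 Y3 : Subgroup H} (C : Coord T Y1 Y2 Y3 ν y1 y2 y3) : y3 0 = 1 := by
  have := C.a3 0 0
  rw [add_zero] at this
  exact left_eq_mul.1 this

lemma y3_inj {T : H →* H} {Y1 Y2 Y3 : Subgroup H} (C : Coord T Y1 Y2 Y3 ν y1 y2 y3) :
    Function.Injective y3 := by
  intro a b hab
  have h1 : y3 (a + b) = 1 := by
    rw [C.a3, hab, ← C.a3, CharTwo.add_self_eq_zero, y3_zero C]
  exact CharTwo.add_eq_zero.1 (C.i3 _ h1)

lemma y3_inv {T : H →* H} {Y1 Y2 Y3 : Subgroup H} (C : Coord T Y1 Y2 Y3 ν y1 y2 y3) (a : Q ν) :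
    (y3 a)⁻¹ = y3 a := by
  apply inv_eq_of_mul_eq_one_right
  rw [← C.a3, CharTwo.add_self_eq_zero, y3_zero C]

/-- relation between the commutators with `r'` and with `r` -/
def Rel (R : Subgroup H) (y3 : Q ν → H) (b : Q ν) (r r' : H) : Prop :=
  ∀ s ∈ R, ∀ x, ⁅r, s⁆ = y3 x → ⁅r', s⁆ = y3 (b * x)

/-- the key computation -/
lemma key_comm [Finite H] (F : Facts D) (B : Big D t) (W : WFacts D t W0) (hV : VFacts D t W0 V)
    (C : Coord (TT t) (Y1 D W0) (Y2 D W0) W0 ν y1 y2 y3) {g : H} (hg : g ∈ D.P) {u : H}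
    (hu : u ∈ V) : ∃ d : Q ν, ∀ a : Q ν, ⁅y1 a, g * u * g⁻¹⁆ = y3 (a * d) := by
  rcases F.bruhat g hg with hb | ⟨b, hb, b', hb', rfl⟩
  · refine ⟨0, fun a => ?_⟩
    rw [mul_zero, y3_zero C, commutatorElement_eq_one_iff_mul_comm]
    exact hV.comm _ (Y1_V hV (C.m1 a)) _ (conj_V_of_B F W hV hb hu).1
  · have hbP : b ∈ D.P := by
      have hle : D.B ≤ D.P := sup_le (sup_le F.Q1_le (fun a ha => Xa_P F ha))
        (by rw [zpowers_le]; exact F.y_mem.1)
      exact hle hb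
    obtain ⟨y, hy, w, hw, huw⟩ := mem_V F B W hV (conj_V_of_B F W hV hb' hu).1
    obtain ⟨d, hd⟩ := C.s2 _ (mem_Y2.2 ⟨y, hy, rfl⟩)
    refine ⟨d, fun a => ?_⟩
    have e1 : ⁅y1 a, b * D.ns * b' * u * (b * D.ns * b')⁻¹⁆
        = b * ⁅b⁻¹ * y1 a * b, D.ns * (b' * u * b'⁻¹) * D.ns⁻¹⁆ * b⁻¹ := by
      rw [conj_comm]
      congr 1 <;> group
    obtain ⟨w', hw', h'⟩ := B_V_W0 F B W hV (inv_mem hb) (Y1_V hV (C.m1 a))
    rw [inv_inv] at h'
    have hy2R : y2 d ∈ rGrp F W := Y2_R F B W hV (C.m2 d)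
    have hy1R : y1 a ∈ rGrp F W := Y1_R F W hV (C.m1 a)
    have e2 : D.ns * (b' * u * b'⁻¹) * D.ns⁻¹ = y2 d * w := by
      rw [huw, ← hd]
      have := conj_of_comm (W.cent_P w hw _ F.ns_mem).symm
      calc D.ns * (y * w) * D.ns⁻¹ = D.ns * y * D.ns⁻¹ * (D.ns * w * D.ns⁻¹) := by group
        _ = _ := by rw [this]
    have e3 : ⁅b⁻¹ * y1 a * b, D.ns * (b' * u * b'⁻¹) * D.ns⁻¹⁆ = y3 (a * d) := by
      rw [h', e2, comm_mul_l F B W hV (W0_R F W hw') hy1R (mul_mem hy2R (W0_R F W hw)),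
        comm_W0_l F W hw' (mul_mem hy2R (W0_R F W hw)), one_mul,
        comm_mul_r F B W hV hy2R (W0_R F W hw) hy1R, comm_W0_r F W hw hy1R, mul_one,
        ← zz_eq (sq_Y1 hV _ (C.m1 a)) (sq_Y2 hV _ (C.m2 d)), C.key]
    rw [e1, e3]
    exact conj_of_comm (W.cent_P _ (C.m3 _) b hbP).symm

lemma rel_conj [Finite H] (F : Facts D) (B : Big D t) (W : WFacts D t W0) (hV : VFacts D t W0 V)
    (C : Coord (TT t) (Y1 D W0) (Y2 D W0) W0 ν y1 y2 y3) (b a : Q ν) {p : H} (hp : p ∈ D.P) :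
    Rel (rGrp F W) y3 b (p * y1 a * p⁻¹) (p * y1 (b * a) * p⁻¹) := by
  have hR : ∀ c, p * y1 c * p⁻¹ ∈ rGrp F W := fun c => P_R F B W hp (Y1_R F W hV (C.m1 c))
  let L : Subgroup H :=
    { carrier := {s | s ∈ rGrp F W ∧ ∀ x, ⁅p * y1 a * p⁻¹, s⁆ = y3 x →
        ⁅p * y1 (b * a) * p⁻¹, s⁆ = y3 (b * x)}
      one_mem' := by
        refine ⟨one_mem _, fun x hx => ?_⟩
        rw [commutatorElement_one_right] at hx ⊢
        have : x = 0 := y3_inj C (by rw [← hx, y3_zero C])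
        rw [this, mul_zero, y3_zero C]
      mul_mem' := by
        rintro s s' ⟨hs, h⟩ ⟨hs', h'⟩
        refine ⟨mul_mem hs hs', fun x hx => ?_⟩
        obtain ⟨x1, hx1⟩ := C.s3 _ (comm_R F B W hV (hR a) hs)
        obtain ⟨x2, hx2⟩ := C.s3 _ (comm_R F B W hV (hR a) hs')
        rw [comm_mul_r F B W hV hs hs' (hR a), hx1, hx2, ← C.a3] at hx
        have := y3_inj C hx
        rw [comm_mul_r F B W hV hs hs' (hR _), h _ hx1, h' _ hx2, ← C.a3, ← this, mul_add]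
      inv_mem' := by
        rintro s ⟨hs, h⟩
        refine ⟨inv_mem hs, fun x hx => ?_⟩
        rw [comm_inv_r F B W hV hs (hR a)] at hx
        have h1 : ⁅p * y1 a * p⁻¹, s⁆ = y3 x := by
          rw [← inv_inv ⁅p * y1 a * p⁻¹, s⁆, hx, y3_inv C]
        rw [comm_inv_r F B W hV hs (hR _), h _ h1, y3_inv C] }
  have hle : rGrp F W ≤ L := by
    refine gen_V F B W hV L ?_
    intro p' hp' v hv
    refine ⟨P_R F B W hp' (V_R F W hV hv), fun x hx => ?_⟩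
    obtain ⟨d, hd⟩ := key_comm F B W hV C (mul_mem (inv_mem hp) hp') hv
    have e : ∀ c, ⁅p * y1 c * p⁻¹, p' * v * p'⁻¹⁆ = y3 (c * d) := by
      intro c
      have e1 : ⁅p * y1 c * p⁻¹, p' * v * p'⁻¹⁆ =
          p * ⁅y1 c, p⁻¹ * p' * v * (p⁻¹ * p')⁻¹⁆ * p⁻¹ := by
        rw [conj_comm]; congr 1; group
      rw [e1, hd]
      exact conj_of_comm (W.cent_P _ (C.m3 _) p hp).symm
    rw [e] at hx ⊢
    rw [← y3_inj C hx, mul_assoc]
  exact fun s hs => (hle hs).2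

/-- (P1) -/
lemma p1 [Finite H] (F : Facts D) (B : Big D t) (W : WFacts D t W0) (hV : VFacts D t W0 V)
    (C : Coord (TT t) (Y1 D W0) (Y2 D W0) W0 ν y1 y2 y3) (b : Q ν) {r : H} (hr : r ∈ rGrp F W) :
    ∃ r' ∈ rGrp F W, Rel (rGrp F W) y3 b r r' := by
  let K : Subgroup H :=
    { carrier := {r | r ∈ rGrp F W ∧ ∃ r' ∈ rGrp F W, Rel (rGrp F W) y3 b r r'}
      one_mem' := by
        refine ⟨one_mem _, 1, one_mem _, fun s hs x hx => ?_⟩
        rw [commutatorElement_one_left] at hx ⊢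
        have : x = 0 := y3_inj C (by rw [← hx, y3_zero C])
        rw [this, mul_zero, y3_zero C]
      mul_mem' := by
        rintro r1 r2 ⟨h1, r1', h1', k1⟩ ⟨h2, r2', h2', k2⟩
        refine ⟨mul_mem h1 h2, r1' * r2', mul_mem h1' h2', fun s hs x hx => ?_⟩
        obtain ⟨x1, hx1⟩ := C.s3 _ (comm_R F B W hV h1 hs)
        obtain ⟨x2, hx2⟩ := C.s3 _ (comm_R F B W hV h2 hs)
        rw [comm_mul_l F B W hV h1 h2 hs, hx1, hx2, ← C.a3] at hx
        rw [comm_mul_l F B W hV h1' h2' hs, k1 s hs _ hx1, k2 s hs _ hx2, ← C.a3, ← y3_inj C hx,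
          mul_add]
      inv_mem' := by
        rintro r1 ⟨h1, r1', h1', k1⟩
        refine ⟨inv_mem h1, r1'⁻¹, inv_mem h1', fun s hs x hx => ?_⟩
        rw [comm_inv_l F B W hV h1 hs] at hx
        have h3 : ⁅r1, s⁆ = y3 x := by rw [← inv_inv ⁅r1, s⁆, hx, y3_inv C]
        rw [comm_inv_l F B W hV h1' hs, k1 s hs _ h3, y3_inv C] }
  have hle : rGrp F W ≤ K := by
    refine gen_V F B W hV K ?_
    intro p hp v hv
    refine ⟨P_R F B W hp (V_R F W hV hv), ?_⟩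
    obtain ⟨y, hy, w, hw, rfl⟩ := mem_V F B W hV hv
    obtain ⟨a, rfl⟩ := C.s1 y hy
    refine ⟨p * y1 (b * a) * p⁻¹, P_R F B W hp (Y1_R F W hV (C.m1 _)), ?_⟩
    intro s hs x hx
    refine rel_conj F B W hV C b a hp s hs x ?_
    have e1 : p * (y1 a * w) * p⁻¹ = (p * y1 a * p⁻¹) * w := by
      have := conj_of_comm (W.cent_P w hw p hp).symm
      calc p * (y1 a * w) * p⁻¹ = (p * y1 a * p⁻¹) * (p * w * p⁻¹) := by group
        _ = _ := by rw [this]
    rw [e1, comm_mul_l F B W hV (P_R F B W hp (Y1_R F W hV (C.m1 _))) (W0_R F W hw) hs,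
      comm_W0_l F W hw hs, mul_one] at hx
    exact hx
  exact (hle hr).2

end

/-- `Z(R) = W0` -/
lemma center_R [Finite H] (F : Facts D) (B : Big D t) (W : WFacts D t W0) (hV : VFacts D t W0 V)
    {z : H} (hz : z ∈ rGrp F W) (hc : ∀ r ∈ rGrp F W, r * z = z * r) : z ∈ W0 := by
  obtain ⟨q, hq, w, hw, h⟩ := (mem_N F W).1 hz.2.2
  -- `t` normalises `R`
  have htR : ∀ r ∈ rGrp F W, t * r * t⁻¹ ∈ rGrp F W := by
    intro r hr
    have e1 : t * r * t⁻¹ = ⁅r, t⁆⁻¹ * r := by rw [commutatorElement_def]; group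
    rw [e1]
    exact mul_mem (inv_mem (N_R F B W hr.2.2)) hr
  have ht : t⁻¹ = t := inv_eq_of_mul_eq_one_right B.t_sq
  -- `[z, t]` commutes with `R`
  have h1 : ∀ r ∈ rGrp F W, r * (t * z * t⁻¹) = (t * z * t⁻¹) * r := by
    intro r hr
    have e0 : t⁻¹ * r * t = t * r * t⁻¹ := by rw [ht]
    have h2 := hc _ (htR r hr)
    rw [← e0] at h2
    calc r * (t * z * t⁻¹) = t * (t⁻¹ * r * t * z) * t⁻¹ := by group
      _ = t * (z * (t⁻¹ * r * t)) * t⁻¹ := by rw [h2]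
      _ = _ := by group
  have h2 : ∀ r ∈ rGrp F W, r * ⁅z, t⁆ = ⁅z, t⁆ * r := by
    intro r hr
    have e1 : ⁅z, t⁆ = z * (t * z * t⁻¹)⁻¹ := by rw [commutatorElement_def]; group
    have e2 := h1 r hr
    have e3 := hc r hr
    rw [e1]
    calc r * (z * (t * z * t⁻¹)⁻¹) = z * (r * (t * z * t⁻¹)⁻¹) := by
          rw [← mul_assoc, e3, mul_assoc]
      _ = z * ((t * z * t⁻¹)⁻¹ * ((t * z * t⁻¹) * r) * (t * z * t⁻¹)⁻¹) := by group
      _ = z * (t * z * t⁻¹)⁻¹ * r := by rw [← e2]; group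
  have h3 : q ∈ D.Z := by
    refine F.center_Q1 q hq (fun q' hq' => ?_)
    have hq'R := Q1_R F B W hq'
    have e1 := h2 q' hq'R
    rw [h] at e1
    have e2 := hq'R.1 w hw
    calc q * q' = (q * w) * w⁻¹ * q' := by group
      _ = (q * w) * (q' * w⁻¹) := by rw [hq'R.1 _ (inv_mem hw)]; group
      _ = q' * q := by rw [← mul_assoc, ← e1]; group
  have h4 : ⁅z, t⁆ ∈ W0 := by rw [h]; exact mul_mem (W.Z_le h3) hw
  have h5 := ker_R F B W hV hz h4
  obtain ⟨q', hq', w', hw', rfl⟩ := (mem_N F W).1 h5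
  have h6 : q' ∈ D.Z := by
    refine F.center_Q1 q' hq' (fun q'' hq'' => ?_)
    have hR := Q1_R F B W hq''
    have e1 := hc q'' hR
    calc q' * q'' = (q' * w') * (w'⁻¹ * q'') := by group
      _ = (q' * w') * q'' * w'⁻¹ := by rw [← hR.1 _ (inv_mem hw')]; group
      _ = q'' * q' := by rw [← e1]; group
  exact mul_mem (W.Z_le h6) hw'

/-- **Step (B)** -/
theorem exists_chi [Finite H] (F : Facts D) (B : Big D t) (W : WFacts D t W0)
    (hV : VFacts D t W0 V) (E : HFacts D) :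
    ∃ (A : Type) (_ : CommGroup A) (χ : MulAut (rGrp F W) →* A),
      (∀ τ : MulAut (rGrp F W), (∀ r, (τ r : H) = t * r * t⁻¹) → χ τ ≠ 1) ∧
      ∀ d : MulAut (rGrp F W), d * d = 1 → χ d ≠ 1 →
        Nat.card {z : center (rGrp F W) // d z = z} = 4 := by
  obtain ⟨x1, x2, x3, G⟩ := exists_grown F B W hV E
  obtain ⟨ν, y1, y2, y3, C⟩ := exists_coord G
  let j : Q ν → rGrp F W := fun a => ⟨y3 a, W0_R F W (C.m3 a)⟩
  have hj : ∀ a, (j a : H) = y3 a := fun _ => rfl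
  have hD : RingData (rGrp F W) ν j :=
    { add := fun a b => Subtype.ext (C.a3 a b)
      inj := fun a b hab => y3_inj C (congrArg Subtype.val hab)
      mem := fun a => by
        rw [mem_center_iff]
        rintro ⟨r, hr⟩
        exact Subtype.ext (hr.1 _ (C.m3 a))
      sur := by
        rintro ⟨z, hz⟩ hc
        rw [mem_center_iff] at hc
        have h1 := center_R F B W hV hz (fun r hr => congrArg Subtype.val (hc ⟨r, hr⟩))
        obtain ⟨a, ha⟩ := C.s3 z h1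
        exact ⟨a, Subtype.ext ha.symm⟩
      p1 := by
        rintro b ⟨r, hr⟩
        obtain ⟨r', hr', h⟩ := p1 F B W hV C b hr
        refine ⟨⟨r', hr'⟩, ?_⟩
        rintro ⟨s, hs⟩ x hx
        exact Subtype.ext (h s hs x (congrArg Subtype.val hx))
      p2 := by
        intro x
        refine ⟨⟨y1 x, Y1_R F W hV (C.m1 x)⟩, ⟨y2 1, Y2_R F B W hV (C.m2 1)⟩, Subtype.ext ?_⟩
        change ⁅y1 x, y2 1⁆ = y3 x
        rw [← zz_eq (sq_Y1 hV _ (C.m1 x)) (sq_Y2 hV _ (C.m2 1)), C.key, mul_one] }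
  obtain ⟨A, iA, χ, h1, h2⟩ := hD.exists_chi
  refine ⟨A, iA, χ, ?_, h2⟩
  intro τ hτ
  refine h1 τ (fun x => Subtype.ext ?_)
  rw [hτ, hj, hj, ← C.t3, TT_apply]

end Cfsg.Agent.GTwoFour.Chi
end

-- part: GTwoFour/ChiMap
section
/-!
# Transport of `χ` along an isomorphism `R ≃* R'`
-/

set_option autoImplicit false

namespace Cfsg.Agent.GTwoFour.ChiMap

open Subgroup Cfsg.Agent.GTwoFour.Iface Cfsg.Agent.GTwoFour.GrowR Cfsg.Agent.GTwoFour.ChiData
open scoped commutatorElement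

/-- transport of a homomorphism on `MulAut R` along an isomorphism -/
theorem transport {R R' : Type*} [Group R] [Group R'] (e : R ≃* R') {A : Type*} [CommGroup A]
    (χ : MulAut R →* A) (n : ℕ)
    (h : ∀ d : MulAut R, d * d = 1 → χ d ≠ 1 → Nat.card {z : center R // d z = z} = n) :
    ∃ χ' : MulAut R' →* A,
      (∀ τ : MulAut R, ∀ τ' : MulAut R', (∀ r, τ' (e r) = e (τ r)) → χ' τ' = χ τ) ∧
      ∀ d : MulAut R', d * d = 1 → χ' d ≠ 1 → Nat.card {z : center R' // d z = z} = n := by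
  let χ' : MulAut R' →* A := χ.comp (MulAut.congr e).symm.toMonoidHom
  have hχ' : ∀ τ', χ' τ' = χ ((MulAut.congr e).symm τ') := fun _ => rfl
  have key : ∀ τ : MulAut R, ∀ τ' : MulAut R', (∀ r, τ' (e r) = e (τ r)) →
      (MulAut.congr e).symm τ' = τ := by
    intro τ τ' hh
    ext1 r
    change e.symm (τ' (e r)) = τ r
    rw [hh, MulEquiv.symm_apply_apply]
  refine ⟨χ', fun τ τ' hh => by rw [hχ', key τ τ' hh], ?_⟩
  intro d hd hχd
  set d' : MulAut R := (MulAut.congr e).symm d with hd'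
  have hd'a : ∀ r, e (d' r) = d (e r) := by
    intro r
    change e (e.symm (d (e r))) = _
    rw [MulEquiv.apply_symm_apply]
  have h1 : d' * d' = 1 := by rw [hd', ← map_mul, hd, map_one]
  rw [← h d' h1 hχd]
  symm
  refine Nat.card_congr (Equiv.ofBijective
    (fun z : {z : center R // d' z = z} => (⟨⟨e (z.1 : R), by
      rw [mem_center_iff]
      intro g
      obtain ⟨r, rfl⟩ := e.surjective g
      rw [← map_mul, ← map_mul, mem_center_iff.1 z.1.2 r]⟩, by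
      change d (e (z.1 : R)) = e (z.1 : R)
      rw [← hd'a, z.2]⟩ : {z : center R' // d z = z})) ⟨?_, ?_⟩)
  · intro a b hab
    have h2 : e (a.1 : R) = e (b.1 : R) := congrArg (fun z => ((z.1 : center R') : R')) hab
    exact Subtype.ext (Subtype.ext (e.injective h2))
  · rintro ⟨⟨z, hz⟩, hdz⟩
    obtain ⟨r, rfl⟩ := e.surjective z
    have hdz' : d (e r) = e r := hdz
    refine ⟨⟨⟨r, ?_⟩, ?_⟩, rfl⟩
    · rw [mem_center_iff]
      intro g
      have := mem_center_iff.1 hz (e g)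
      rw [← map_mul, ← map_mul] at this
      exact e.injective this
    · change d' r = r
      apply e.injective
      rw [hd'a, hdz']

/-- **Step (B)** transported to a subgroup `R'` of another group, isomorphic to `R` with
`t` acting in the same way as `t'`. -/
theorem exists_chi_map {H : Type*} [Group H] {D : Data H} {t : H} {W0 V : Subgroup H} [Finite H]
    (F : Facts D) (B : Big D t) (W : WFacts D t W0) (hV : VFacts D t W0 V) (E : HFacts D)
    {G : Type*} [Group G] {R' : Subgroup G} {t' : G} (e : rGrp F W ≃* R')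
    (he : ∀ r s : rGrp F W, (s : H) = t * r * t⁻¹ → (e s : G) = t' * e r * t'⁻¹) :
    ∃ (A : Type) (_ : CommGroup A) (χ : MulAut R' →* A),
      (∀ T : MulAut R', (∀ r : R', ((T r : R') : G) = t' * r * t'⁻¹) → χ T ≠ 1) ∧
      ∀ d : MulAut R', d * d = 1 → χ d ≠ 1 → Nat.card {z : center R' // d z = z} = 4 := by
  obtain ⟨A, iA, χ, h1, h2⟩ := Chi.exists_chi F B W hV E
  obtain ⟨χ', k1, k2⟩ := transport e χ 4 h2
  refine ⟨A, iA, χ', ?_, k2⟩
  intro T hT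
  -- conjugation by `t` on `R`
  have htR : ∀ r ∈ rGrp F W, t * r * t⁻¹ ∈ rGrp F W := by
    intro r hr
    have e1 : t * r * t⁻¹ = ⁅r, t⁆⁻¹ * r := by rw [commutatorElement_def]; group
    rw [e1]
    exact mul_mem (inv_mem (N_R F B W hr.2.2)) hr
  have ht : t⁻¹ = t := inv_eq_of_mul_eq_one_right B.t_sq
  let τ : MulAut (rGrp F W) :=
    { toFun := fun r => ⟨t * r * t⁻¹, htR r r.2⟩
      invFun := fun r => ⟨t * r * t⁻¹, htR r r.2⟩
      left_inv := fun r => by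
        apply Subtype.ext
        change t * (t * r * t⁻¹) * t⁻¹ = r
        calc t * (t * (r : H) * t⁻¹) * t⁻¹ = (t * t) * r * (t * t)⁻¹ := by group
          _ = r := by rw [B.t_sq]; group
      right_inv := fun r => by
        apply Subtype.ext
        change t * (t * r * t⁻¹) * t⁻¹ = r
        calc t * (t * (r : H) * t⁻¹) * t⁻¹ = (t * t) * r * (t * t)⁻¹ := by group
          _ = r := by rw [B.t_sq]; group
      map_mul' := fun a b => by
        apply Subtype.ext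
        change t * (a * b) * t⁻¹ = t * a * t⁻¹ * (t * b * t⁻¹)
        group }
  rw [k1 τ T (fun r => Subtype.ext (by rw [hT]; exact (he r (τ r) rfl).symm))]
  exact h1 τ (fun r => rfl)

end Cfsg.Agent.GTwoFour.ChiMap
end

-- part: GTwoFour/GrowW
section
/-!
The first growth step for S1751 (rank one): from `Facts D`, `Big D t` we construct `W0 ≤ C_H(P)` of
order 16 with `[W0, t] = Z`, `t ∉ W0`.
-/

set_option autoImplicit false

namespace Cfsg.Agent.GTwoFour.GrowW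

open Subgroup Iface
open scoped commutatorElement

variable {H : Type*} [Group H] {D : Data H} {t : H}

section Basic

variable (F : Facts D) (B : Big D t)

include F in
theorem Z_le_P : D.Z ≤ D.P := F.Z_le.trans F.Q1_le

include F in
theorem P_Z {p z : H} (hp : p ∈ D.P) (hz : z ∈ D.Z) : p * z = z * p :=
  (F.cent_Z p (F.P_le hp)).2 hp z hz

include F in
theorem Z_comm {z z' : H} (hz : z ∈ D.Z) (hz' : z' ∈ D.Z) : z * z' = z' * z :=
  P_Z F (Z_le_P F hz) hz'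

include F in
theorem Xe_le_P : D.Xe ≤ D.P := F.Xe_le.trans F.Q1_le

include F in
theorem Xa_le_L2 : D.Xa ≤ D.L2 := F.Xa_le.trans F.Q2_le

theorem L2_le_P : D.L2 ≤ D.P := inf_le_left

theorem L2_Xe {l e : H} (hl : l ∈ D.L2) (he : e ∈ D.Xe) : l * e = e * l :=
  ((mem_centralizer_iff.1 (mem_inf.1 hl).2) e he).symm

include F B in
theorem t_P {p : H} (hp : p ∈ D.P) : p * t = t * p := B.comm p (F.P_le hp)

include F B in
theorem t_Z {z : H} (hz : z ∈ D.Z) : z * t = t * z := t_P F B (Z_le_P F hz)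

/-- `N0 = {n | [n, Z] = 1, [n, t] ∈ Z}`. -/
def N0 (D : Data H) (t : H) : Subgroup H where
  carrier := {n | (∀ z ∈ D.Z, n * z = z * n) ∧ ⁅n, t⁆ ∈ D.Z}
  one_mem' := by
    refine ⟨fun z _ => by simp, ?_⟩
    rw [commutatorElement_one_left]; exact D.Z.one_mem
  mul_mem' := by
    rintro a b ⟨ha, ha'⟩ ⟨hb, hb'⟩
    refine ⟨fun z hz => by rw [mul_assoc, hb z hz, ← mul_assoc, ha z hz, mul_assoc], ?_⟩
    have h1 : ⁅a * b, t⁆ = a * ⁅b, t⁆ * a⁻¹ * ⁅a, t⁆ := by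
      simp only [commutatorElement_def]; group
    have h2 : a * ⁅b, t⁆ * a⁻¹ = ⁅b, t⁆ := by rw [ha _ hb']; group
    rw [h1, h2]
    exact D.Z.mul_mem hb' ha'
  inv_mem' := by
    rintro a ⟨ha, ha'⟩
    have ha2 : ∀ z ∈ D.Z, a⁻¹ * z = z * a⁻¹ := by
      intro z hz
      calc a⁻¹ * z = a⁻¹ * (z * a) * a⁻¹ := by group
        _ = a⁻¹ * (a * z) * a⁻¹ := by rw [ha z hz]
        _ = z * a⁻¹ := by group
    refine ⟨ha2, ?_⟩
    have h1 : ⁅a⁻¹, t⁆ = a⁻¹ * ⁅a, t⁆⁻¹ * a := by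
      simp only [commutatorElement_def]; group
    rw [h1, ha2 _ (D.Z.inv_mem ha'), inv_mul_cancel_right]
    exact D.Z.inv_mem ha'

include F

/-- `n ↦ [n,t]` is multiplicative on `N0`. -/
theorem comm_mul {a b : H} (ha : a ∈ N0 D t) (hb : b ∈ N0 D t) :
    ⁅a * b, t⁆ = ⁅a, t⁆ * ⁅b, t⁆ := by
  have h1 : ⁅a * b, t⁆ = a * ⁅b, t⁆ * a⁻¹ * ⁅a, t⁆ := by
    simp only [commutatorElement_def]; group
  have h2 : a * ⁅b, t⁆ * a⁻¹ = ⁅b, t⁆ := by rw [ha.1 _ hb.2]; group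
  rw [h1, h2, Z_comm F hb.2 ha.2]

theorem comm_inv {a : H} (ha : a ∈ N0 D t) : ⁅a⁻¹, t⁆ = ⁅a, t⁆⁻¹ := by
  have h := comm_mul F ha ((N0 D t).inv_mem ha)
  rw [mul_inv_cancel, commutatorElement_one_left] at h
  exact (inv_eq_of_mul_eq_one_right h.symm).symm

include B in
theorem P_le_N0 : D.P ≤ N0 D t := fun p hp =>
  ⟨fun _ hz => P_Z F hp hz, by
    rw [commutatorElement_eq_one_iff_mul_comm.2 (t_P F B hp)]; exact D.Z.one_mem⟩

include B in
theorem t_mem_N0 : t ∈ N0 D t :=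
  ⟨fun _ hz => (t_Z F B hz).symm, by rw [commutatorElement_self]; exact D.Z.one_mem⟩

include B in
/-- the kernel of `n ↦ [n,t]` -/
theorem ker_N0 {n : H} (hn : n ∈ N0 D t) (h : ⁅n, t⁆ = 1) : n ∈ D.P ∨ t * n ∈ D.P :=
  B.cent n (commutatorElement_eq_one_iff_mul_comm.1 h) hn.1

/-- `K1 = C_H(⟨t⟩ Z)` -/
def K1 (D : Data H) (t : H) : Subgroup H := centralizer {t} ⊓ centralizer (D.Z : Set H)

omit F in
theorem mem_K1 {g : H} : g ∈ K1 D t ↔ g * t = t * g ∧ ∀ z ∈ D.Z, g * z = z * g := by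
  rw [K1, mem_inf, mem_centralizer_iff, mem_centralizer_iff]
  constructor
  · rintro ⟨h1, h2⟩
    exact ⟨(h1 t rfl).symm, fun z hz => (h2 z hz).symm⟩
  · rintro ⟨h1, h2⟩
    refine ⟨?_, fun z hz => (h2 z hz).symm⟩
    intro x hx
    rw [Set.mem_singleton_iff.1 hx]
    exact h1.symm

include F B in
theorem commutator_K1 : ⁅K1 D t, K1 D t⁆ ≤ D.P := by
  rw [commutator_le]
  intro g hg g' hg'
  have htt := B.t_sq
  rcases B.cent g (mem_K1.1 hg).1 (mem_K1.1 hg).2 with h1 | h1 <;>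
  rcases B.cent g' (mem_K1.1 hg').1 (mem_K1.1 hg').2 with h2 | h2
  · rw [commutatorElement_def]
    exact D.P.mul_mem (D.P.mul_mem (D.P.mul_mem h1 h2) (D.P.inv_mem h1)) (D.P.inv_mem h2)
  · have h3 : ⁅g, g'⁆ = ⁅g, t * g'⁆ := by
      have h4 := t_P F B h1
      rw [commutatorElement_def, commutatorElement_def]
      have : g * (t * g') * g⁻¹ * (t * g')⁻¹ = (g * t) * g' * g⁻¹ * g'⁻¹ * t⁻¹ := by group
      rw [this, h4]
      have h5 : t * g * g' * g⁻¹ * g'⁻¹ * t⁻¹ = t * (g * g' * g⁻¹ * g'⁻¹) * t⁻¹ := by group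
      rw [h5]
      have h6 : t * (g * g' * g⁻¹ * g'⁻¹) = (g * g' * g⁻¹ * g'⁻¹) * t := by
        have h7 : (g * g' * g⁻¹ * g'⁻¹) ∈ K1 D t := by
          have := (K1 D t).mul_mem ((K1 D t).mul_mem ((K1 D t).mul_mem hg hg') ((K1 D t).inv_mem hg))
            ((K1 D t).inv_mem hg')
          exact this
        exact (mem_K1.1 h7).1.symm
      rw [h6, mul_inv_cancel_right]
    rw [h3, commutatorElement_def]
    exact D.P.mul_mem (D.P.mul_mem (D.P.mul_mem h1 h2) (D.P.inv_mem h1)) (D.P.inv_mem h2)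
  · have h3 : ⁅g, g'⁆ = ⁅t * g, g'⁆ := by
      have h4 : g' * t = t * g' := (mem_K1.1 hg').1
      have h8 : t⁻¹ * g'⁻¹ = g'⁻¹ * t⁻¹ := by
        rw [← mul_inv_rev, ← mul_inv_rev, h4]
      rw [commutatorElement_def, commutatorElement_def]
      have : t * g * g' * (t * g)⁻¹ * g'⁻¹ = t * (g * g' * g⁻¹) * (t⁻¹ * g'⁻¹) := by group
      rw [this, h8]
      have h5 : t * (g * g' * g⁻¹) * (g'⁻¹ * t⁻¹) = t * (g * g' * g⁻¹ * g'⁻¹) * t⁻¹ := by group
      rw [h5]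
      have h6 : t * (g * g' * g⁻¹ * g'⁻¹) = (g * g' * g⁻¹ * g'⁻¹) * t := by
        have h7 : (g * g' * g⁻¹ * g'⁻¹) ∈ K1 D t := by
          have := (K1 D t).mul_mem ((K1 D t).mul_mem ((K1 D t).mul_mem hg hg') ((K1 D t).inv_mem hg))
            ((K1 D t).inv_mem hg')
          exact this
        exact (mem_K1.1 h7).1.symm
      rw [h6, mul_inv_cancel_right]
    rw [h3, commutatorElement_def]
    exact D.P.mul_mem (D.P.mul_mem (D.P.mul_mem h1 h2) (D.P.inv_mem h1)) (D.P.inv_mem h2)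
  · have h3 : ⁅g, g'⁆ = ⁅t * g, t * g'⁆ := by
      have h4 : g' * t = t * g' := (mem_K1.1 hg').1
      have h4' : g * t = t * g := (mem_K1.1 hg).1
      have e1 : t * g * (t * g') = g * g' := by
        calc t * g * (t * g') = t * (g * t) * g' := by group
          _ = (t * t) * g * g' := by rw [h4']; group
          _ = g * g' := by rw [htt]; group
      have e2 : (t * g') * (t * g) = g' * g := by
        calc (t * g') * (t * g) = t * (g' * t) * g := by group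
          _ = (t * t) * g' * g := by rw [h4]; group
          _ = g' * g := by rw [htt]; group
      have e3 : ∀ a b : H, ⁅a, b⁆ = (a * b) * (b * a)⁻¹ := by
        intro a b; rw [commutatorElement_def]; group
      rw [e3, e3, e1, e2]
    rw [h3, commutatorElement_def]
    exact D.P.mul_mem (D.P.mul_mem (D.P.mul_mem h1 h2) (D.P.inv_mem h1)) (D.P.inv_mem h2)

include F B in
theorem P_le_K1' : D.P ≤ K1 D t := fun _ hp => mem_K1.2 ⟨t_P F B hp, fun _ hz => P_Z F hp hz⟩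

/-- `N0` normalises `K1`. -/
theorem N0_K1 {n g : H} (hn : n ∈ N0 D t) (hg : g ∈ K1 D t) : n * g * n⁻¹ ∈ K1 D t := by
  rw [mem_K1] at hg ⊢
  have hni := (N0 D t).inv_mem hn
  refine ⟨?_, ?_⟩
  · -- `n⁻¹ t n = ⁅n⁻¹,t⁆ t`
    have h1 : n⁻¹ * t * n = ⁅n⁻¹, t⁆ * t := by rw [commutatorElement_def]; group
    have h2 : g * (n⁻¹ * t * n) = n⁻¹ * t * n * g := by
      rw [h1, ← mul_assoc, hg.2 _ hni.2, mul_assoc, hg.1, ← mul_assoc]
    calc n * g * n⁻¹ * t = n * (g * (n⁻¹ * t * n)) * n⁻¹ := by group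
      _ = n * (n⁻¹ * t * n * g) * n⁻¹ := by rw [h2]
      _ = t * (n * g * n⁻¹) := by group
  · intro z hz
    calc n * g * n⁻¹ * z = n * g * (n⁻¹ * z) := by group
      _ = n * (g * z) * n⁻¹ := by rw [hni.1 z hz]; group
      _ = (n * z) * g * n⁻¹ := by rw [hg.2 z hz]; group
      _ = z * (n * g * n⁻¹) := by rw [hn.1 z hz]; group

include B in
/-- `N0` normalises `P`. -/
theorem N0_P {n p : H} (hn : n ∈ N0 D t) (hp : p ∈ D.P) : n * p * n⁻¹ ∈ D.P := by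
  have h1 : D.P.map (MulAut.conj n).toMonoidHom ≤ K1 D t := by
    rintro _ ⟨q, hq, rfl⟩
    exact N0_K1 F hn (P_le_K1' F B hq)
  have h2 : (⁅D.P, D.P⁆).map (MulAut.conj n).toMonoidHom ≤ D.P := by
    rw [map_commutator]
    exact (commutator_mono h1 h1).trans (commutator_K1 F B)
  exact h2 (mem_map_of_mem _ (F.perfect_P hp))

theorem isPGroup_Q1 : IsPGroup 2 D.Q1 :=
  IsPGroup.of_card (n := 10) (by rw [F.card_Q1]; norm_num)

include B in
/-- `N0` normalises `Q1`. -/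
theorem N0_Q1 {n q : H} (hn : n ∈ N0 D t) (hq : q ∈ D.Q1) : n * q * n⁻¹ ∈ D.Q1 := by
  have h1 : D.Q1.map (MulAut.conj n).toMonoidHom ≤ D.Q1 := by
    apply F.core_P
    · rintro _ ⟨q, hq, rfl⟩
      exact N0_P F B hn (F.Q1_le hq)
    · rintro p hp _ ⟨q, hq, rfl⟩
      refine ⟨n⁻¹ * p * n * q * (n⁻¹ * p * n)⁻¹, ?_, ?_⟩
      · apply F.norm_Q1 _ _ _ hq
        have := N0_P F B ((N0 D t).inv_mem hn) hp
        rwa [inv_inv] at this
      · show n * (n⁻¹ * p * n * q * (n⁻¹ * p * n)⁻¹) * n⁻¹ = p * (n * q * n⁻¹) * p⁻¹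
        group
    · exact (isPGroup_Q1 F).map _
  exact h1 (mem_map_of_mem _ hq)

/-- `Y = {y ∈ N0 | [y, P] ≤ Q1}` -/
def Y : Subgroup H where
  carrier := {y | y ∈ N0 D t ∧ ∀ p ∈ D.P, ⁅y, p⁆ ∈ D.Q1}
  one_mem' := ⟨(N0 D t).one_mem, fun p _ => by rw [commutatorElement_one_left]; exact D.Q1.one_mem⟩
  mul_mem' := by
    rintro a b ⟨ha, ha'⟩ ⟨hb, hb'⟩
    refine ⟨(N0 D t).mul_mem ha hb, fun p hp => ?_⟩
    have h1 : ⁅a * b, p⁆ = a * ⁅b, p⁆ * a⁻¹ * ⁅a, p⁆ := by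
      simp only [commutatorElement_def]; group
    rw [h1]
    exact D.Q1.mul_mem (N0_Q1 F B ha (hb' p hp)) (ha' p hp)
  inv_mem' := by
    rintro a ⟨ha, ha'⟩
    refine ⟨(N0 D t).inv_mem ha, fun p hp => ?_⟩
    have h1 : ⁅a⁻¹, p⁆ = a⁻¹ * ⁅a, p⁆⁻¹ * a⁻¹⁻¹ := by
      simp only [commutatorElement_def]; group
    rw [h1]
    exact N0_Q1 F B ((N0 D t).inv_mem ha) (D.Q1.inv_mem (ha' p hp))

theorem Q1_le_Y : D.Q1 ≤ Y F B := by
  intro q hq
  refine ⟨P_le_N0 F B (F.Q1_le hq), fun p hp => ?_⟩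
  have h1 : ⁅q, p⁆ = q * (p * q⁻¹ * p⁻¹) := by rw [commutatorElement_def]; group
  rw [h1]
  exact D.Q1.mul_mem hq (F.norm_Q1 p hp _ (D.Q1.inv_mem hq))

theorem t_mem_Y : t ∈ Y F B := by
  refine ⟨t_mem_N0 F B, fun p hp => ?_⟩
  rw [commutatorElement_eq_one_iff_mul_comm.2 (t_P F B hp).symm]
  exact D.Q1.one_mem

/-- `P` normalises `Y`. -/
theorem P_Y {p y : H} (hp : p ∈ D.P) (hy : y ∈ Y F B) : p * y * p⁻¹ ∈ Y F B := by
  have h1 : p * y * p⁻¹ = ⁅y, p⁆⁻¹ * y := by rw [commutatorElement_def]; group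
  rw [h1]
  exact (Y F B).mul_mem ((Y F B).inv_mem (Q1_le_Y F B (hy.2 p hp))) hy

include B in
theorem h_t : D.h * t = t * D.h := B.comm _ F.h_mem

include F in
theorem h_P_mem {p : H} (hp : p ∈ D.P) : D.h * p * D.h⁻¹ ∈ D.P := by
  have h1 : D.h * p * D.h⁻¹ = ⁅D.h, p⁆ * p := by rw [commutatorElement_def]; group
  rw [h1]
  exact D.P.mul_mem (F.Q1_le (F.h_P p hp)) hp

theorem h_cube : D.h * D.h * D.h = 1 := by
  rw [← F.h_pow, pow_succ, pow_succ, pow_one]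

theorem h_inv : D.h⁻¹ = D.h * D.h := by
  rw [inv_eq_iff_mul_eq_one, ← mul_assoc]; exact h_cube F

include F in
theorem hinv_P_mem {p : H} (hp : p ∈ D.P) : D.h⁻¹ * p * D.h ∈ D.P := by
  have h1 : D.h⁻¹ * p * D.h = D.h⁻¹ * p * D.h⁻¹⁻¹ := by group
  rw [h1, h_inv F]
  have h2 : D.h * D.h * p * (D.h * D.h)⁻¹ = D.h * (D.h * p * D.h⁻¹) * D.h⁻¹ := by group
  rw [h2]
  exact h_P_mem F (h_P_mem F hp)

include F in
theorem h_Q1_mem {p : H} (hp : p ∈ D.Q1) : D.h * p * D.h⁻¹ ∈ D.Q1 := by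
  have h1 : D.h * p * D.h⁻¹ = ⁅D.h, p⁆ * p := by rw [commutatorElement_def]; group
  rw [h1]
  exact D.Q1.mul_mem (F.h_P p (F.Q1_le hp)) hp

include F in
/-- `h⁻¹ p h ∈ p Q1` -/
theorem hinv_mod {p : H} (hp : p ∈ D.P) : p⁻¹ * (D.h⁻¹ * p * D.h) ∈ D.Q1 := by
  -- `⁅h, h⁻¹ p h⁆ ∈ Q1`
  have h1 := F.h_P _ (hinv_P_mem F hp)
  have h2 : p⁻¹ * (D.h⁻¹ * p * D.h) = p⁻¹ * ⁅D.h, D.h⁻¹ * p * D.h⁆⁻¹ * p⁻¹⁻¹ := by
    rw [commutatorElement_def]; group
  rw [h2]
  exact F.norm_Q1 _ (D.P.inv_mem hp) _ (D.Q1.inv_mem h1)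

include F in
theorem hinv_Z_mem {z : H} (hz : z ∈ D.Z) : D.h⁻¹ * z * D.h ∈ D.Z := by
  have h1 : D.h⁻¹ * z * D.h = D.h⁻¹ * z * D.h⁻¹⁻¹ := by group
  rw [h1, h_inv F]
  have h2 : D.h * D.h * z * (D.h * D.h)⁻¹ = D.h * (D.h * z * D.h⁻¹) * D.h⁻¹ := by group
  rw [h2]
  exact F.h_Z _ (F.h_Z _ hz)

include B in
theorem comm_h {n : H} : ⁅D.h * n * D.h⁻¹, t⁆ = D.h * ⁅n, t⁆ * D.h⁻¹ := by
  have h1 : D.h⁻¹ * t * D.h = t := by
    calc D.h⁻¹ * t * D.h = D.h⁻¹ * (t * D.h) := by group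
      _ = t := by rw [← h_t F B]; group
  have h2 : D.h⁻¹ * t⁻¹ * D.h = t⁻¹ := by
    calc D.h⁻¹ * t⁻¹ * D.h = (D.h⁻¹ * t * D.h)⁻¹ := by group
      _ = t⁻¹ := by rw [h1]
  rw [commutatorElement_def, commutatorElement_def]
  calc D.h * n * D.h⁻¹ * t * (D.h * n * D.h⁻¹)⁻¹ * t⁻¹
      = D.h * (n * (D.h⁻¹ * t * D.h) * n⁻¹ * (D.h⁻¹ * t⁻¹ * D.h)) * D.h⁻¹ := by group
    _ = D.h * (n * t * n⁻¹ * t⁻¹) * D.h⁻¹ := by rw [h1, h2]

include B in
theorem h_N0 {n : H} (hn : n ∈ N0 D t) : D.h * n * D.h⁻¹ ∈ N0 D t := by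
  refine ⟨fun z hz => ?_, ?_⟩
  · have h1 := hn.1 _ (hinv_Z_mem F hz)
    calc D.h * n * D.h⁻¹ * z = D.h * (n * (D.h⁻¹ * z * D.h)) * D.h⁻¹ := by group
      _ = D.h * ((D.h⁻¹ * z * D.h) * n) * D.h⁻¹ := by rw [h1]
      _ = z * (D.h * n * D.h⁻¹) := by group
  · rw [comm_h F B]
    exact F.h_Z _ hn.2

theorem h_Y {n : H} (hn : n ∈ Y F B) : D.h * n * D.h⁻¹ ∈ Y F B := by
  refine ⟨h_N0 F B hn.1, fun p hp => ?_⟩
  have h1 : ⁅D.h * n * D.h⁻¹, p⁆ = D.h * ⁅n, D.h⁻¹ * p * D.h⁆ * D.h⁻¹ := by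
    simp only [commutatorElement_def]; group
  rw [h1]
  exact h_Q1_mem F (hn.2 _ (hinv_P_mem F hp))

/-- The key element of `Y`: `n⁻¹ n^h`. -/
theorem key_mem_Y {n : H} (hn : n ∈ N0 D t) : n⁻¹ * (D.h * n * D.h⁻¹) ∈ Y F B := by
  refine ⟨(N0 D t).mul_mem ((N0 D t).inv_mem hn) (h_N0 F B hn), fun p hp => ?_⟩
  -- `x = h⁻¹ p h = p q`
  set q := p⁻¹ * (D.h⁻¹ * p * D.h) with hq
  have hqQ : q ∈ D.Q1 := hinv_mod F hp
  set x := n * (p * q) * n⁻¹ with hx
  have hxP : x ∈ D.P := N0_P F B hn (D.P.mul_mem hp (F.Q1_le hqQ))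
  have h1 := F.h_P x hxP
  have h2 : ⁅n⁻¹ * (D.h * n * D.h⁻¹), p⁆ = n⁻¹ * ⁅D.h, x⁆ * n⁻¹⁻¹ * (p * q * p⁻¹) := by
    rw [hx, hq, commutatorElement_def, commutatorElement_def]; group
  rw [h2]
  exact D.Q1.mul_mem (N0_Q1 F B ((N0 D t).inv_mem hn) h1) (F.norm_Q1 p hp q hqQ)

/-- `h` permutes the nontrivial elements of a subgroup of order 4 transitively. -/
theorem elts4 {X : Subgroup H} (hcardX : Nat.card X = 4) (hX : ∀ z ∈ X, D.h * z * D.h⁻¹ ∈ X)
    (hfpf : ∀ z ∈ X, D.h * z * D.h⁻¹ = z → z = 1) {z1 : H} (hz1 : z1 ∈ X) (hne : z1 ≠ 1) : ∀ z ∈ X,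
    z = 1 ∨ z = z1 ∨ z = D.h * z1 * D.h⁻¹ ∨ z = D.h * (D.h * z1 * D.h⁻¹) * D.h⁻¹ := by
  classical
  set z2 := D.h * z1 * D.h⁻¹ with hz2
  set z3 := D.h * z2 * D.h⁻¹ with hz3
  have m2 : z2 ∈ X := hX _ hz1
  have m3 : z3 ∈ X := hX _ m2
  have n2 : z2 ≠ 1 := by
    intro h; apply hne
    rw [hz2] at h
    calc z1 = D.h⁻¹ * (D.h * z1 * D.h⁻¹) * D.h := by group
      _ = 1 := by rw [h]; group
  have n3 : z3 ≠ 1 := by
    intro h; apply n2
    rw [hz3] at h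
    calc z2 = D.h⁻¹ * (D.h * z2 * D.h⁻¹) * D.h := by group
      _ = 1 := by rw [h]; group
  have d12 : z1 ≠ z2 := fun h => hne (hfpf _ hz1 h.symm)
  have d23 : z2 ≠ z3 := fun h => n2 (hfpf _ m2 h.symm)
  have d13 : z1 ≠ z3 := by
    intro h
    apply d12
    have h3 : D.h * z3 * D.h⁻¹ = z1 := by
      have e : D.h * z3 * D.h⁻¹ = D.h * D.h * D.h * z1 * (D.h * D.h * D.h)⁻¹ := by
        rw [hz3, hz2]; group
      rw [e, h_cube F]; group
    rw [← h] at h3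
    rw [← h3]
  have hfin : Finite X := Nat.finite_of_card_ne_zero (by rw [hcardX]; norm_num)
  have hcard : ((({1, z1, z2, z3} : Finset H) : Set H)).ncard = 4 := by
    rw [Set.ncard_coe_finset]
    rw [Finset.card_insert_of_notMem, Finset.card_insert_of_notMem, Finset.card_insert_of_notMem,
      Finset.card_singleton]
    · simp [d23]
    · simp [d12, d13]
    · simp only [Finset.mem_insert, Finset.mem_singleton, not_or]
      exact ⟨hne.symm, n2.symm, n3.symm⟩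
  have hsub : (({1, z1, z2, z3} : Finset H) : Set H) ⊆ (X : Set H) := by
    intro x hx
    simp only [Finset.coe_insert, Finset.coe_singleton, Set.mem_insert_iff, Set.mem_singleton_iff] at hx
    rcases hx with rfl | rfl | rfl | rfl
    · exact X.one_mem
    · exact hz1
    · exact m2
    · exact m3
  have heq : (({1, z1, z2, z3} : Finset H) : Set H) = (X : Set H) := by
    apply Set.eq_of_subset_of_ncard_le hsub
    · rw [hcard]
      have : (X : Set H).ncard = 4 := by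
        rw [← hcardX]; rfl
      rw [this]
  intro z hz
  have hz' : z ∈ (({1, z1, z2, z3} : Finset H) : Set H) := by rw [heq]; exact hz
  simpa only [Finset.coe_insert, Finset.coe_singleton, Set.mem_insert_iff, Set.mem_singleton_iff]
    using hz'

theorem Z_elts {z1 : H} (hz1 : z1 ∈ D.Z) (hne : z1 ≠ 1) : ∀ z ∈ D.Z,
    z = 1 ∨ z = z1 ∨ z = D.h * z1 * D.h⁻¹ ∨ z = D.h * (D.h * z1 * D.h⁻¹) * D.h⁻¹ :=
  elts4 F F.card_Z F.h_Z F.h_Z_fpf hz1 hne

theorem Xe_elts {z1 : H} (hz1 : z1 ∈ D.Xe) (hne : z1 ≠ 1) : ∀ z ∈ D.Xe,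
    z = 1 ∨ z = z1 ∨ z = D.h * z1 * D.h⁻¹ ∨ z = D.h * (D.h * z1 * D.h⁻¹) * D.h⁻¹ :=
  elts4 F F.card_Xe F.h_Xe F.h_Xe_fpf hz1 hne

/-- `z z^h z^{h²} = 1` on `Z` -/
theorem Z_norm {z : H} (hz : z ∈ D.Z) :
    z * (D.h * z * D.h⁻¹) * (D.h * (D.h * z * D.h⁻¹) * D.h⁻¹) = 1 := by
  have h1 := F.h_Z _ hz
  have h2 := F.h_Z _ h1
  apply F.h_Z_fpf _ (D.Z.mul_mem (D.Z.mul_mem hz h1) h2)
  have e : D.h * (D.h * (D.h * z * D.h⁻¹) * D.h⁻¹) * D.h⁻¹ = z := by
    have e1 : D.h * (D.h * (D.h * z * D.h⁻¹) * D.h⁻¹) * D.h⁻¹ =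
        D.h * D.h * D.h * z * (D.h * D.h * D.h)⁻¹ := by group
    rw [e1, h_cube F]; group
  set a := D.h * z * D.h⁻¹ with ha
  set b := D.h * a * D.h⁻¹ with hb
  have e2 : D.h * (z * a * b) * D.h⁻¹ = a * b * (D.h * b * D.h⁻¹) := by rw [hb, ha]; group
  rw [e2, e, mul_assoc, Z_comm F h2 hz, ← mul_assoc, Z_comm F h1 hz]

/-- `y ↦ [y,t]` maps `Y` onto `Z`. -/
theorem Y_onto : ∀ z ∈ D.Z, ∃ y ∈ Y F B, ⁅y, t⁆ = z := by
  obtain ⟨k, hk1, hk2, hk3⟩ := B.fus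
  have hk : k ∈ N0 D t := ⟨hk1, hk2⟩
  set y1 := k⁻¹ * (D.h * k * D.h⁻¹) with hy1
  have hy1Y : y1 ∈ Y F B := key_mem_Y F B hk
  set z1 := ⁅y1, t⁆ with hz1
  have hz1Z : z1 ∈ D.Z := hy1Y.1.2
  have hz1ne : z1 ≠ 1 := by
    intro h
    rw [hz1, hy1, comm_mul F ((N0 D t).inv_mem hk) (h_N0 F B hk), comm_inv F hk, comm_h F B] at h
    exact hk3 (F.h_Z_fpf _ hk2 (inv_mul_eq_one.1 h).symm)
  intro z hz
  rcases Z_elts F hz1Z hz1ne z hz with rfl | rfl | rfl | rfl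
  · exact ⟨1, (Y F B).one_mem, commutatorElement_one_left _⟩
  · exact ⟨y1, hy1Y, rfl⟩
  · exact ⟨_, h_Y F B hy1Y, comm_h F B⟩
  · exact ⟨_, h_Y F B (h_Y F B hy1Y), by rw [comm_h F B, comm_h F B]⟩

/-- kernel of `y ↦ [y,t]` on `Y` -/
theorem Y_ker {y : H} (hy : y ∈ Y F B) (h : ⁅y, t⁆ = 1) : y ∈ D.Q1 ∨ t * y ∈ D.Q1 := by
  rcases ker_N0 F B hy.1 h with h1 | h1
  · exact Or.inl (F.center_PQ1 y h1 hy.2)
  · right
    apply F.center_PQ1 _ h1
    exact ((Y F B).mul_mem (t_mem_Y F B) hy).2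



include B in
theorem t_Q1 {q : H} (hq : q ∈ D.Q1) : t * q * t⁻¹ ∈ D.Q1 := by
  rw [← t_P F B (F.Q1_le hq), mul_inv_cancel_right]; exact hq

include B in
theorem t_notMem_Q1 : t ∉ D.Q1 := fun h => B.t_notMem (F.P_le (F.Q1_le h))

/-- `|Y| = 2^13`, in particular `Y` is a 2-group. -/
theorem card_Y : Nat.card (Y F B) = 2 ^ 13 := by
  have h := Tools.card_mul_eq (Y := Y F B) (K := Tools.ext t B.t_sq D.Q1 (fun q hq => t_Q1 F B hq))
    (C := D.Z) (B := ⊥) (fun y => ⁅y, t⁆) (fun y hy => hy.1.2) ?_ bot_le ?_ ?_ ?_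
  · rw [Tools.card_ext (t_notMem_Q1 F B), F.card_Q1, F.card_Z, card_bot, mul_one] at h
    rw [h]; norm_num
  · rintro x (hx | hx)
    · exact Q1_le_Y F B hx
    · have h1 := (Y F B).mul_mem (t_mem_Y F B) (Q1_le_Y F B hx)
      rw [← mul_assoc, B.t_sq, one_mul] at h1
      exact h1
  · intro y hy y' hy'
    rw [mem_bot, comm_mul F hy.1 hy'.1, inv_mul_cancel]
  · intro q hq
    obtain ⟨y, hy, hyq⟩ := Y_onto F B q hq
    refine ⟨y, hy, ?_⟩
    rw [mem_bot, hyq, inv_mul_cancel]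
  · intro y hy
    rw [mem_bot, Tools.mem_ext]
    constructor
    · exact Y_ker F B hy
    · have hh : ∀ q ∈ D.Q1, ⁅q, t⁆ = 1 := fun q hq =>
        commutatorElement_eq_one_iff_mul_comm.2 (t_P F B (F.Q1_le hq))
      rintro (h1 | h1)
      · exact hh y h1
      · have h2 := hh _ h1
        rw [comm_mul F (t_mem_N0 F B) hy.1, commutatorElement_self, one_mul] at h2
        exact h2

theorem isPGroup_Y : IsPGroup 2 (Y F B) := IsPGroup.of_card (card_Y F B)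

theorem W4_le_Q1 : D.W4 ≤ D.Q1 := sup_le F.Z_le F.Xe_le

/-- elements of `W4` -/
theorem mem_W4 {x : H} : x ∈ D.W4 ↔ ∃ z ∈ D.Z, ∃ e ∈ D.Xe, x = z * e := by
  constructor
  · intro hx
    have hn : D.Xe ≤ normalizer (D.Z : Set H) := by
      intro e he
      rw [mem_normalizer_iff]
      intro z
      constructor
      · intro hz
        rw [P_Z F (Xe_le_P F he) hz, mul_inv_cancel_right]; exact hz
      · intro hz
        have h1 := P_Z F (D.P.inv_mem (Xe_le_P F he)) hz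
        have h2 : z = e⁻¹ * (e * z * e⁻¹) * e := by group
        rw [h2, h1, inv_mul_cancel_right]; exact hz
    rw [Data.W4, ← SetLike.mem_coe, sup_comm, Subgroup.coe_mul_of_left_le_normalizer_right] at hx
    · obtain ⟨e, he, z, hz, rfl⟩ := hx
      exact ⟨z, hz, e, he, P_Z F (Xe_le_P F he) hz⟩
    · exact hn
  · rintro ⟨z, hz, e, he, rfl⟩
    exact D.W4.mul_mem ((le_sup_left : D.Z ≤ D.W4) hz) ((le_sup_right : D.Xe ≤ D.W4) he)

theorem L2_W4 {l w : H} (hl : l ∈ D.L2) (hw : w ∈ D.W4) : l * w = w * l := by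
  obtain ⟨z, hz, e, he, rfl⟩ := (mem_W4 F).1 hw
  rw [← mul_assoc, P_Z F (L2_le_P hl) hz, mul_assoc, L2_Xe hl he, ← mul_assoc]

theorem Y_W4 {y w : H} (hy : y ∈ Y F B) (hw : w ∈ D.W4) : y * w * y⁻¹ ∈ D.W4 := by
  have hwQ := W4_le_Q1 F hw
  apply F.cent_Xa _ (N0_Q1 F B hy.1 hwQ)
  intro x hx
  have hxL := Xa_le_L2 F hx
  have hxP := L2_le_P hxL
  -- `q = ⁅y⁻¹, x⁆`, `y⁻¹ x y = q x`
  have hq := ((Y F B).inv_mem hy).2 x hxP
  have h1 : ⁅y * w * y⁻¹, x⁆ = y * ⁅w, ⁅y⁻¹, x⁆ * x⁆ * y⁻¹ := by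
    simp only [commutatorElement_def]; group
  have h2 : ⁅w, ⁅y⁻¹, x⁆ * x⁆ = ⁅w, ⁅y⁻¹, x⁆⁆ := by
    have h3 : x * w⁻¹ * x⁻¹ = w⁻¹ := by
      rw [L2_W4 F hxL (D.W4.inv_mem hw), mul_inv_cancel_right]
    set q := ⁅y⁻¹, x⁆ with hqd
    rw [commutatorElement_def, commutatorElement_def]
    calc w * (q * x) * w⁻¹ * (q * x)⁻¹ = w * q * (x * w⁻¹ * x⁻¹) * q⁻¹ := by group
      _ = w * q * w⁻¹ * q⁻¹ := by rw [h3]
  rw [h1, h2]
  have h3 := F.comm_Q1 w hwQ _ hq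
  have h4 : y * ⁅w, ⁅y⁻¹, x⁆⁆ * y⁻¹ = ⁅w, ⁅y⁻¹, x⁆⁆ := by
    rw [hy.1.1 _ h3, mul_inv_cancel_right]
  rw [h4]; exact h3

theorem hinv_Y {n : H} (hn : n ∈ Y F B) : D.h⁻¹ * n * D.h ∈ Y F B := by
  have h1 : D.h⁻¹ * n * D.h = D.h⁻¹ * n * D.h⁻¹⁻¹ := by group
  rw [h1, h_inv F]
  have h2 : D.h * D.h * n * (D.h * D.h)⁻¹ = D.h * (D.h * n * D.h⁻¹) * D.h⁻¹ := by group
  rw [h2]
  exact h_Y F B (h_Y F B hn)

/-- `KY = {x ∈ P | [Y, x] ≤ Z}` -/
def KY : Subgroup H where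
  carrier := {x | x ∈ D.P ∧ ∀ y ∈ Y F B, ⁅y, x⁆ ∈ D.Z}
  one_mem' := ⟨D.P.one_mem, fun y _ => by rw [commutatorElement_one_right]; exact D.Z.one_mem⟩
  mul_mem' := by
    rintro a b ⟨ha, ha'⟩ ⟨hb, hb'⟩
    refine ⟨D.P.mul_mem ha hb, fun y hy => ?_⟩
    have h1 : ⁅y, a * b⁆ = ⁅y, a⁆ * (a * ⁅y, b⁆ * a⁻¹) := by
      simp only [commutatorElement_def]; group
    rw [h1, P_Z F ha (hb' y hy), mul_inv_cancel_right]
    exact D.Z.mul_mem (ha' y hy) (hb' y hy)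
  inv_mem' := by
    rintro a ⟨ha, ha'⟩
    refine ⟨D.P.inv_mem ha, fun y hy => ?_⟩
    have h1 : ⁅y, a⁻¹⁆ = a⁻¹ * ⁅y, a⁆⁻¹ * a := by
      simp only [commutatorElement_def]; group
    rw [h1, P_Z F (D.P.inv_mem ha) (D.Z.inv_mem (ha' y hy)), inv_mul_cancel_right]
    exact D.Z.inv_mem (ha' y hy)

theorem h_KY {x : H} (hx : x ∈ KY F B) : D.h * x * D.h⁻¹ ∈ KY F B := by
  refine ⟨h_P_mem F hx.1, fun y hy => ?_⟩
  have h1 : ⁅y, D.h * x * D.h⁻¹⁆ = D.h * ⁅D.h⁻¹ * y * D.h, x⁆ * D.h⁻¹ := by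
    simp only [commutatorElement_def]; group
  rw [h1]
  exact F.h_Z _ (hx.2 _ (hinv_Y F B hy))

theorem Z_le_KY : D.Z ≤ KY F B := by
  intro z hz
  refine ⟨Z_le_P F hz, fun y hy => ?_⟩
  rw [commutatorElement_eq_one_iff_mul_comm.2 (hy.1.1 z hz)]
  exact D.Z.one_mem

variable [Finite H]

omit [Finite H] in
theorem Y_Z {y z : H} (hy : y ∈ Y F B) (hz : z ∈ D.Z) : y * z * y⁻¹ ∈ D.Z := by
  rw [hy.1.1 z hz, mul_inv_cancel_right]; exact hz

theorem Xe_le_KY : D.Xe ≤ KY F B := by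
  have : Fact (Nat.Prime 2) := ⟨Nat.prime_two⟩
  obtain ⟨n, hn, hnZ, hfix⟩ := Tools.exists_fixed_mod (p := 2) (Y := Y F B) (N := D.W4) (M := D.Z)
    (isPGroup_Y F B) ((W4_le_Q1 F).trans (Q1_le_Y F B)) (fun y hy w hw => Y_W4 F B hy hw)
    (fun y hy z hz => Y_Z F B hy hz) (by
      have h4 : ∃ e ∈ D.Xe, e ≠ 1 := by
        by_contra hcon
        push Not at hcon
        have h5 : D.Xe = ⊥ := by rw [eq_bot_iff]; intro x hx; rw [mem_bot]; exact hcon x hx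
        have h6 := F.card_Xe
        rw [h5, card_bot] at h6
        norm_num at h6
      obtain ⟨e, he, hne⟩ := h4
      exact ⟨e, (le_sup_right : D.Xe ≤ D.W4) he, fun hZ => hne (F.Xe_Z e he hZ)⟩)
  obtain ⟨z, hz, e, he, rfl⟩ := (mem_W4 F).1 hn
  have hzK := Z_le_KY F B hz
  have hze : z * e ∈ KY F B := ⟨D.P.mul_mem (Z_le_P F hz) (Xe_le_P F he), hfix⟩
  have heK : e ∈ KY F B := by
    have := (KY F B).mul_mem ((KY F B).inv_mem hzK) hze
    rwa [inv_mul_cancel_left] at this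
  have hne : e ≠ 1 := by
    rintro rfl
    apply hnZ
    rw [mul_one]; exact hz
  intro x hx
  rcases Xe_elts F he hne x hx with rfl | rfl | rfl | rfl
  · exact (KY F B).one_mem
  · exact heK
  · exact h_KY F B heK
  · exact h_KY F B (h_KY F B heK)

theorem Q1_le_KY : D.Q1 ≤ KY F B := by
  apply F.gen_Q1 _ (Z_le_KY F B)
  intro p hp e he
  have heK := Xe_le_KY F B he
  refine ⟨D.P.mul_mem (D.P.mul_mem hp heK.1) (D.P.inv_mem hp), fun y hy => ?_⟩
  have h1 : ⁅y, p * e * p⁻¹⁆ = p * ⁅p⁻¹ * y * p⁻¹⁻¹, e⁆ * p⁻¹ := by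
    simp only [commutatorElement_def]; group
  have h2 := heK.2 _ (P_Y F B (D.P.inv_mem hp) hy)
  rw [h1, P_Z F hp h2, mul_inv_cancel_right]
  exact h2

theorem Y_Q1 {y q : H} (hy : y ∈ Y F B) (hq : q ∈ D.Q1) : ⁅y, q⁆ ∈ D.Z := (Q1_le_KY F B hq).2 y hy

/-- `W = C_Y(Q1)` -/
def W : Subgroup H := Y F B ⊓ centralizer (D.Q1 : Set H)

omit [Finite H] in
theorem mem_W {w : H} : w ∈ W F B ↔ w ∈ Y F B ∧ ∀ q ∈ D.Q1, w * q = q * w := by
  rw [W, mem_inf, mem_centralizer_iff]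
  exact ⟨fun h => ⟨h.1, fun q hq => (h.2 q hq).symm⟩, fun h => ⟨h.1, fun q hq => (h.2 q hq).symm⟩⟩

theorem mem_W_of_f {y : H} (hy : y ∈ Y F B) (hf : D.f * y = y * D.f) : y ∈ W F B := by
  rw [mem_W]
  refine ⟨hy, fun q hq => ?_⟩
  obtain ⟨q', hq', z, hz, rfl⟩ := F.f_Q1 q hq
  have hζ := Y_Q1 F B hy hq'
  have h1 : y * q' * y⁻¹ = ⁅y, q'⁆ * q' := by rw [commutatorElement_def]; group
  have h2 : y * D.f * y⁻¹ = D.f := by rw [← hf, mul_inv_cancel_right]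
  have h3 : y * ⁅q', D.f⁆ * y⁻¹ = ⁅q', D.f⁆ := by
    have h4 : y * ⁅q', D.f⁆ * y⁻¹ = ⁅y * q' * y⁻¹, y * D.f * y⁻¹⁆ := by
      simp only [commutatorElement_def]; group
    rw [h4, h1, h2]
    have hc1 : D.f * ⁅y, q'⁆ = ⁅y, q'⁆ * D.f := P_Z F F.f_mem hζ
    set ζ := ⁅y, q'⁆ with hζd
    rw [commutatorElement_def, commutatorElement_def]
    have hc2 : (D.f * ζ * D.f⁻¹)⁻¹ = ζ⁻¹ := by rw [hc1, mul_inv_cancel_right]
    have hc3 : (q' * D.f * q'⁻¹) * ζ⁻¹ = ζ⁻¹ * (q' * D.f * q'⁻¹) :=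
      P_Z F (D.P.mul_mem (D.P.mul_mem (F.Q1_le hq') F.f_mem) (D.P.inv_mem (F.Q1_le hq')))
        (D.Z.inv_mem hζ)
    calc ζ * q' * D.f * (ζ * q')⁻¹ * D.f⁻¹
        = ζ * ((q' * D.f * q'⁻¹) * ζ⁻¹) * D.f⁻¹ := by group
      _ = ζ * (ζ⁻¹ * (q' * D.f * q'⁻¹)) * D.f⁻¹ := by rw [hc3]
      _ = q' * D.f * q'⁻¹ * D.f⁻¹ := by group
  have h5 : y * ⁅q', D.f⁆ = ⁅q', D.f⁆ * y := by
    calc y * ⁅q', D.f⁆ = y * ⁅q', D.f⁆ * y⁻¹ * y := by group
      _ = ⁅q', D.f⁆ * y := by rw [h3]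
  rw [← mul_assoc, h5, mul_assoc, hy.1.1 z hz, ← mul_assoc]

theorem exists_W {y : H} (hy : y ∈ Y F B) : ∃ q ∈ D.Q1, y * q ∈ W F B := by
  have : Fact (Nat.Prime 5) := ⟨Nat.prime_five⟩
  obtain ⟨q, hq, hcomm⟩ := Tools.exists_comm_coset (p := 5) (Q := D.Q1) (f := D.f) (y := y) (k := 1)
    (by rw [pow_one]; exact F.f_pow) (fun q hq => F.norm_Q1 _ F.f_mem q hq)
    (by rw [F.card_Q1]; norm_num) (by
      have h1 := ((Y F B).inv_mem hy).2 D.f F.f_mem
      rw [commutatorElement_def] at h1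
      have h2 : y⁻¹ * (D.f * y * D.f⁻¹) = y⁻¹ * D.f * y⁻¹⁻¹ * D.f⁻¹ := by group
      rw [h2]; exact h1)
  exact ⟨q, hq, mem_W_of_f F B ((Y F B).mul_mem hy (Q1_le_Y F B hq)) hcomm⟩

omit [Finite H] in
/-- `W` centralises `P`. -/
theorem W_P {w p : H} (hw : w ∈ W F B) (hp : p ∈ D.P) : w * p = p * w := by
  obtain ⟨hwY, hwQ⟩ := (mem_W F B).1 hw
  have key : ∀ p ∈ D.P, ⁅w, p⁆ ∈ D.Z := by
    intro p hp
    apply F.center_Q1 _ (hwY.2 p hp)
    intro q hq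
    have h1 : ⁅w, p⁆ = w * (p * w⁻¹ * p⁻¹) := by rw [commutatorElement_def]; group
    have h2 : (p * w⁻¹ * p⁻¹) * q = q * (p * w⁻¹ * p⁻¹) := by
      have h3 := F.norm_Q1 _ (D.P.inv_mem hp) q hq
      rw [inv_inv] at h3
      have h4 := hwQ _ h3
      have h5 : w⁻¹ * (p⁻¹ * q * p) = (p⁻¹ * q * p) * w⁻¹ := by
        calc w⁻¹ * (p⁻¹ * q * p) = w⁻¹ * ((p⁻¹ * q * p) * w) * w⁻¹ := by group
          _ = w⁻¹ * (w * (p⁻¹ * q * p)) * w⁻¹ := by rw [h4]
          _ = (p⁻¹ * q * p) * w⁻¹ := by group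
      calc (p * w⁻¹ * p⁻¹) * q = p * (w⁻¹ * (p⁻¹ * q * p)) * p⁻¹ := by group
        _ = p * ((p⁻¹ * q * p) * w⁻¹) * p⁻¹ := by rw [h5]
        _ = q * (p * w⁻¹ * p⁻¹) := by group
    rw [h1, mul_assoc, h2, ← mul_assoc, hwQ q hq, mul_assoc]
  have h6 : D.P ≤ centralizer {w} := by
    refine F.perfect_P.trans ?_
    rw [commutator_le]
    intro a ha b hb
    rw [mem_centralizer_singleton_iff]
    have e1 : w * a * w⁻¹ = ⁅w, a⁆ * a := by rw [commutatorElement_def]; group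
    have e2 : w * b * w⁻¹ = ⁅w, b⁆ * b := by rw [commutatorElement_def]; group
    have e3 : w * ⁅a, b⁆ * w⁻¹ = ⁅a, b⁆ := by
      have e4 : w * ⁅a, b⁆ * w⁻¹ = ⁅w * a * w⁻¹, w * b * w⁻¹⁆ := by
        simp only [commutatorElement_def]; group
      rw [e4, e1, e2]
      have ka := key a ha
      have kb := key b hb
      set ζ := ⁅w, a⁆
      set η := ⁅w, b⁆
      have c1 : a * η = η * a := P_Z F ha kb
      have c2 : b * ζ = ζ * b := P_Z F hb ka
      have c3 : ζ * η = η * ζ := Z_comm F ka kb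
      have e5 : ∀ x y : H, ⁅x, y⁆ = (x * y) * (y * x)⁻¹ := by
        intro x y; rw [commutatorElement_def]; group
      rw [e5, e5]
      have e6 : ζ * a * (η * b) = ζ * η * (a * b) := by
        calc ζ * a * (η * b) = ζ * (a * η) * b := by group
          _ = ζ * η * (a * b) := by rw [c1]; group
      have e7 : η * b * (ζ * a) = ζ * η * (b * a) := by
        calc η * b * (ζ * a) = η * (b * ζ) * a := by group
          _ = η * ζ * (b * a) := by rw [c2]; group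
          _ = ζ * η * (b * a) := by rw [c3]
      have c4 : (b * a)⁻¹ * (ζ * η)⁻¹ = (ζ * η)⁻¹ * (b * a)⁻¹ := by
        rw [← mul_inv_rev, ← mul_inv_rev]
        rw [P_Z F (D.P.mul_mem hb ha) (D.Z.mul_mem ka kb)]
      have c5 : a * b * (ζ * η)⁻¹ = (ζ * η)⁻¹ * (a * b) :=
        P_Z F (D.P.mul_mem ha hb) (D.Z.inv_mem (D.Z.mul_mem ka kb))
      rw [e6, e7, mul_inv_rev, c4]
      calc ζ * η * (a * b) * ((ζ * η)⁻¹ * (b * a)⁻¹)
          = ζ * η * (a * b * (ζ * η)⁻¹) * (b * a)⁻¹ := by group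
        _ = ζ * η * ((ζ * η)⁻¹ * (a * b)) * (b * a)⁻¹ := by rw [c5]
        _ = a * b * (b * a)⁻¹ := by group
    calc ⁅a, b⁆ * w = (w * ⁅a, b⁆ * w⁻¹) * w := by rw [e3]
      _ = w * ⁅a, b⁆ := by group
  have h7 := h6 hp
  rw [mem_centralizer_singleton_iff] at h7
  exact h7.symm

theorem W_onto : ∀ z ∈ D.Z, ∃ w ∈ W F B, ⁅w, t⁆ = z := by
  intro z hz
  obtain ⟨y, hy, hyz⟩ := Y_onto F B z hz
  obtain ⟨q, hq, hyq⟩ := exists_W F B hy
  refine ⟨_, hyq, ?_⟩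
  rw [comm_mul F hy.1 (Q1_le_Y F B hq).1, hyz,
    commutatorElement_eq_one_iff_mul_comm.2 (t_P F B (F.Q1_le hq)), mul_one]

omit [Finite H] in
theorem Z_le_W : D.Z ≤ W F B := by
  intro z hz
  rw [mem_W]
  exact ⟨Q1_le_Y F B (F.Z_le hz), fun q hq => (P_Z F (F.Q1_le hq) hz).symm⟩

omit [Finite H] in
theorem t_mem_W : t ∈ W F B := by
  rw [mem_W]
  exact ⟨t_mem_Y F B, fun q hq => (t_P F B (F.Q1_le hq)).symm⟩

omit [Finite H] in
theorem h_W {w : H} (hw : w ∈ W F B) : D.h * w * D.h⁻¹ ∈ W F B := by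
  rw [mem_W] at hw ⊢
  refine ⟨h_Y F B hw.1, fun q hq => ?_⟩
  have h1 : D.h⁻¹ * q * D.h ∈ D.Q1 := by
    have h1 : D.h⁻¹ * q * D.h = D.h⁻¹ * q * D.h⁻¹⁻¹ := by group
    rw [h1, h_inv F]
    have h2 : D.h * D.h * q * (D.h * D.h)⁻¹ = D.h * (D.h * q * D.h⁻¹) * D.h⁻¹ := by group
    rw [h2]
    exact h_Q1_mem F (h_Q1_mem F hq)
  have h2 := hw.2 _ h1
  calc D.h * w * D.h⁻¹ * q = D.h * (w * (D.h⁻¹ * q * D.h)) * D.h⁻¹ := by group
    _ = D.h * ((D.h⁻¹ * q * D.h) * w) * D.h⁻¹ := by rw [h2]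
    _ = q * (D.h * w * D.h⁻¹) := by group

omit [Finite H] in
/-- kernel on `W`: `⟨t⟩ Z` -/
theorem W_ker {w : H} (hw : w ∈ W F B) (h : ⁅w, t⁆ = 1) : w ∈ D.Z ∨ t * w ∈ D.Z := by
  have hw2 := (mem_W F B).1 hw
  rcases Y_ker F B hw2.1 h with h1 | h1
  · exact Or.inl (F.center_Q1 w h1 hw2.2)
  · right
    apply F.center_Q1 _ h1
    exact ((mem_W F B).1 ((W F B).mul_mem (t_mem_W F B) hw)).2

omit [Finite H] in
theorem W_Z {w z : H} (hw : w ∈ W F B) (hz : z ∈ D.Z) : w * z = z * w := 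
  ((mem_W F B).1 hw).2 z (F.Z_le hz)

omit [Finite H] in
theorem W_sq {w : H} (hw : w ∈ W F B) : w * w ∈ D.Z := by
  have hwY := ((mem_W F B).1 hw).1
  have h1 : ⁅w * w, t⁆ = 1 := by
    rw [comm_mul F hwY.1 hwY.1]; exact F.sq_Z _ hwY.1.2
  rcases W_ker F B ((W F B).mul_mem hw hw) h1 with h2 | h2
  · exact h2
  · -- `w` commutes with `t`
    have h3 : w * t = t * w := by
      have h4 := W_Z F B hw h2
      -- w (t w w) = (t w w) w
      have h5 : w * t * (w * w) = t * w * (w * w) := by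
        calc w * t * (w * w) = w * (t * (w * w)) := by group
          _ = t * (w * w) * w := h4
          _ = t * w * (w * w) := by group
      exact mul_right_cancel h5
    rcases W_ker F B hw (commutatorElement_eq_one_iff_mul_comm.2 h3) with h4 | h4
    · exact D.Z.mul_mem h4 h4
    · have h5 := D.Z.mul_mem h4 h4
      have h6 : t * w * (t * w) = w * w := by
        calc t * w * (t * w) = t * (w * t) * w := by group
          _ = (t * t) * (w * w) := by rw [h3]; group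
          _ = w * w := by rw [B.t_sq, one_mul]
      rwa [h6] at h5

omit [Finite H] in
/-- commutators of `W` lie in `Z` -/
theorem W_comm {a b : H} (ha : a ∈ W F B) (hb : b ∈ W F B) : ⁅a, b⁆ ∈ D.Z := by
  -- `⁅a,b⁆ = (a b)² (b⁻¹ a⁻¹ b a)..`: use squares
  have h1 := W_sq F B ((W F B).mul_mem ha hb)
  have h2 := W_sq F B ha
  have h3 := W_sq F B hb
  have e : ⁅a, b⁆ = (a * b * (a * b)) * (b⁻¹ * (a * a)⁻¹ * b) * (b * b)⁻¹ := by
    rw [commutatorElement_def]; group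
  have e2 : b⁻¹ * (a * a)⁻¹ * b = (a * a)⁻¹ := by
    rw [W_Z F B ((W F B).inv_mem hb) (D.Z.inv_mem h2), inv_mul_cancel_right]
  rw [e, e2]
  exact D.Z.mul_mem (D.Z.mul_mem h1 (D.Z.inv_mem h2)) (D.Z.inv_mem h3)

/-- the norm `w w^h w^{h²}` -/
def nm (D : Data H) (w : H) : H := w * (D.h * w * D.h⁻¹) * (D.h * (D.h * w * D.h⁻¹) * D.h⁻¹)

omit [Finite H] in
theorem nm_mem {w : H} (hw : w ∈ W F B) : nm D w ∈ W F B :=
  (W F B).mul_mem ((W F B).mul_mem hw (h_W F B hw)) (h_W F B (h_W F B hw))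

omit [Finite H] in
/-- the norm is multiplicative modulo `Z` -/
theorem nm_mul {a b : H} (ha : a ∈ W F B) (hb : b ∈ W F B) :
    ∃ z ∈ D.Z, nm D (a * b) = z * (nm D a * nm D b) := by
  have ha1 := h_W F B ha
  have ha2 := h_W F B ha1
  have hb1 := h_W F B hb
  have hb2 := h_W F B hb1
  unfold nm
  have e1 : D.h * (a * b) * D.h⁻¹ = (D.h * a * D.h⁻¹) * (D.h * b * D.h⁻¹) := by group
  have e2 : D.h * (D.h * (a * b) * D.h⁻¹) * D.h⁻¹ =
      (D.h * (D.h * a * D.h⁻¹) * D.h⁻¹) * (D.h * (D.h * b * D.h⁻¹) * D.h⁻¹) := by group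
  rw [e2, e1]
  set a1 := D.h * a * D.h⁻¹
  set a2 := D.h * a1 * D.h⁻¹
  set b1 := D.h * b * D.h⁻¹
  set b2 := D.h * b1 * D.h⁻¹
  have k1 := W_comm F B hb ha1
  have k2 := W_comm F B ((W F B).mul_mem hb hb1) ha2
  refine ⟨⁅b, a1⁆ * ⁅b * b1, a2⁆, D.Z.mul_mem k1 k2, ?_⟩
  have f1 : b * a1 = ⁅b, a1⁆ * (a1 * b) := by rw [commutatorElement_def]; group
  have f2 : b * b1 * a2 = ⁅b * b1, a2⁆ * (a2 * (b * b1)) := by rw [commutatorElement_def]; group
  set ζ := ⁅b, a1⁆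
  set η := ⁅b * b1, a2⁆
  have g1 : a * ζ = ζ * a := W_Z F B ha k1
  have g2 : (a * a1) * η = η * (a * a1) := W_Z F B ((W F B).mul_mem ha ha1) k2
  calc a * b * (a1 * b1) * (a2 * b2) = a * (b * a1) * b1 * a2 * b2 := by group
    _ = (a * ζ) * a1 * (b * b1 * a2) * b2 := by rw [f1]; group
    _ = ζ * ((a * a1) * η) * (a2 * (b * b1)) * b2 := by rw [f2, g1]; group
    _ = ζ * η * (a * a1 * a2 * (b * b1 * b2)) := by rw [g2]; group

omit [Finite H] in
theorem nm_Z {z : H} (hz : z ∈ D.Z) : nm D z = 1 := Z_norm F hz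

omit [Finite H] in
/-- the norm lies in `Z ∪ tZ` -/
theorem nm_mem_or {w : H} (hw : w ∈ W F B) : nm D w ∈ D.Z ∨ t * nm D w ∈ D.Z := by
  apply W_ker F B (nm_mem F B hw)
  have hwY := ((mem_W F B).1 hw).1
  have h1 := h_Y F B hwY
  have h2 := h_Y F B h1
  unfold nm
  rw [comm_mul F ((N0 D t).mul_mem hwY.1 h1.1) h2.1, comm_mul F hwY.1 h1.1, comm_h F B, comm_h F B,
    comm_h F B]
  exact Z_norm F hwY.1.2

/-- `W0`. -/
def W0 : Subgroup H where
  carrier := {w | w ∈ W F B ∧ nm D w ∈ D.Z}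
  one_mem' := ⟨(W F B).one_mem, by rw [nm_Z F D.Z.one_mem]; exact D.Z.one_mem⟩
  mul_mem' := by
    rintro a b ⟨ha, ha'⟩ ⟨hb, hb'⟩
    refine ⟨(W F B).mul_mem ha hb, ?_⟩
    obtain ⟨z, hz, he⟩ := nm_mul F B ha hb
    rw [he]
    exact D.Z.mul_mem hz (D.Z.mul_mem ha' hb')
  inv_mem' := by
    rintro a ⟨ha, ha'⟩
    refine ⟨(W F B).inv_mem ha, ?_⟩
    have h1 := W_sq F B ha
    have h2 : a⁻¹ = (a * a)⁻¹ * a := by group
    have h3 := Z_le_W F B (D.Z.inv_mem h1)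
    obtain ⟨z, hz, he⟩ := nm_mul F B h3 ha
    rw [← h2] at he
    rw [he, nm_Z F (D.Z.inv_mem h1), one_mul]
    exact D.Z.mul_mem hz ha'

omit [Finite H] in
theorem t_notMem_W0 : t ∉ W0 F B := by
  rintro ⟨-, h⟩
  have h1 : D.h * t * D.h⁻¹ = t := by rw [h_t F B, mul_inv_cancel_right]
  have h2 : nm D t = t := by
    unfold nm
    rw [h1, h1, B.t_sq, one_mul]
  rw [h2] at h
  exact B.t_notMem (F.P_le (Z_le_P F h))

omit [Finite H] in
theorem Z_le_W0 : D.Z ≤ W0 F B := fun z hz => ⟨Z_le_W F B hz, by rw [nm_Z F hz]; exact D.Z.one_mem⟩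

omit [Finite H] in
theorem h_W0 {w : H} (hw : w ∈ W0 F B) : D.h * w * D.h⁻¹ ∈ W0 F B := by
  refine ⟨h_W F B hw.1, ?_⟩
  have h1 : nm D (D.h * w * D.h⁻¹) = D.h * nm D w * D.h⁻¹ := by
    unfold nm; group
  rw [h1]
  exact F.h_Z _ hw.2

omit [Finite H] in
theorem W0_ker {w : H} (hw : w ∈ W0 F B) (h : ⁅w, t⁆ = 1) : w ∈ D.Z := by
  rcases W_ker F B hw.1 h with h1 | h1
  · exact h1
  · exfalso
    apply t_notMem_W0 F B
    have h2 := (W0 F B).mul_mem (Z_le_W0 F B h1) ((W0 F B).inv_mem hw)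
    rwa [mul_inv_cancel_right] at h2

theorem W0_onto : ∀ z ∈ D.Z, ∃ w ∈ W0 F B, ⁅w, t⁆ = z := by
  intro z hz
  obtain ⟨w, hw, hwz⟩ := W_onto F B z hz
  rcases nm_mem_or F B hw with h1 | h1
  · exact ⟨w, ⟨hw, h1⟩, hwz⟩
  · refine ⟨t * w, ⟨(W F B).mul_mem (t_mem_W F B) hw, ?_⟩, ?_⟩
    · obtain ⟨z', hz', he⟩ := nm_mul F B (t_mem_W F B) hw
      have h3 : D.h * t * D.h⁻¹ = t := by rw [h_t F B, mul_inv_cancel_right]
      have h2 : nm D t = t := by
        unfold nm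
        rw [h3, h3, B.t_sq, one_mul]
      rw [he, h2]
      exact D.Z.mul_mem hz' h1
    · rw [comm_mul F (t_mem_N0 F B) ((mem_W F B).1 hw).1.1, commutatorElement_self, one_mul, hwz]

theorem card_W0 : Nat.card (W0 F B) = 16 := by
  have hN : ∀ w ∈ W0 F B, w ∈ N0 D t := fun w hw => ((mem_W F B).1 hw.1).1.1
  have h := Tools.card_mul_eq (Y := W0 F B) (K := D.Z)
    (C := D.Z) (B := ⊥) (fun y => ⁅y, t⁆) (fun y hy => (hN y hy).2) (Z_le_W0 F B) bot_le ?_ ?_ ?_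
  · rw [F.card_Z, card_bot, mul_one] at h
    rw [h]
  · intro y hy y' hy'
    rw [mem_bot, comm_mul F (hN y hy) (hN y' hy'), inv_mul_cancel]
  · intro q hq
    obtain ⟨y, hy, hyq⟩ := W0_onto F B q hq
    refine ⟨y, hy, ?_⟩
    rw [mem_bot, hyq, inv_mul_cancel]
  · intro y hy
    rw [mem_bot]
    constructor
    · exact W0_ker F B hy
    · intro h1
      exact commutatorElement_eq_one_iff_mul_comm.2 (t_Z F B h1)

omit [Finite H] in
/-- `W0` is abelian. -/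
theorem W0_comm {a b : H} (ha : a ∈ W0 F B) (hb : b ∈ W0 F B) : a * b = b * a := by
  have hN : ∀ w ∈ W0 F B, w ∈ N0 D t := fun w hw => ((mem_W F B).1 hw.1).1.1
  by_cases haZ : a ∈ D.Z
  · exact (W_Z F B hb.1 haZ).symm
  have hz1 : ⁅a, t⁆ ≠ 1 := fun h => haZ (W0_ker F B ha h)
  -- `a` commutes with `x = a^h`
  set x := D.h * a * D.h⁻¹ with hx
  set x2 := D.h * x * D.h⁻¹ with hx2
  have hxW := h_W0 F B ha
  have hx2W := h_W0 F B hxW
  have hc := W_comm F B ha.1 hxW.1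
  -- `x2 = (a x)⁻¹ ζ`
  have hζ : nm D a ∈ D.Z := ha.2
  have e1 : x2 = (a * x)⁻¹ * nm D a := by
    show x2 = (a * x)⁻¹ * (a * x * x2)
    rw [inv_mul_cancel_left]
  have c1 : a * x = x * a := by
    have h1 : D.h * ⁅a, x⁆ * D.h⁻¹ = ⁅x, x2⁆ := by
      have : D.h * ⁅a, x⁆ * D.h⁻¹ = ⁅D.h * a * D.h⁻¹, D.h * x * D.h⁻¹⁆ := by
        simp only [commutatorElement_def]; group
      rw [this]
    have h2 : ⁅x, x2⁆ = ⁅a, x⁆ := by
      have h3 : x * nm D a = nm D a * x := W_Z F B hxW.1 hζ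
      have h4 : nm D a * x⁻¹ = x⁻¹ * nm D a := (W_Z F B ((W F B).inv_mem hxW.1) hζ).symm
      have h5 : a * x = ⁅a, x⁆ * (x * a) := by rw [commutatorElement_def]; group
      have h6 : (x * a) * ⁅a, x⁆ = ⁅a, x⁆ * (x * a) :=
        W_Z F B ((W F B).mul_mem hxW.1 ha.1) hc
      rw [e1]
      set ζ := nm D a
      set c := ⁅a, x⁆
      rw [commutatorElement_def]
      calc x * ((a * x)⁻¹ * ζ) * x⁻¹ * ((a * x)⁻¹ * ζ)⁻¹
          = x * (a * x)⁻¹ * (ζ * x⁻¹) * ζ⁻¹ * (a * x) := by group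
        _ = (x * (a * x)⁻¹ * x⁻¹) * (a * x) := by rw [h4]; group
        _ = (x * a)⁻¹ * (a * x) := by group
        _ = (x * a)⁻¹ * (c * (x * a)) := by rw [← h5]
        _ = (x * a)⁻¹ * ((x * a) * c) := by rw [h6]
        _ = c := by group
    rw [h2] at h1
    exact commutatorElement_eq_one_iff_mul_comm.1 (F.h_Z_fpf _ hc h1)
  have c2 : a * x2 = x2 * a := by
    rw [e1]
    have h3 : a * nm D a = nm D a * a := W_Z F B ha.1 hζ
    have h4 : a * (a * x)⁻¹ = (a * x)⁻¹ * a := by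
      have h5 : a * (a * x) = (a * x) * a := by rw [mul_assoc, c1, ← mul_assoc, mul_assoc, ← c1, ← mul_assoc]
      calc a * (a * x)⁻¹ = (a * x)⁻¹ * ((a * x) * a) * (a * x)⁻¹ := by group
        _ = (a * x)⁻¹ * (a * (a * x)) * (a * x)⁻¹ := by rw [h5]
        _ = (a * x)⁻¹ * a := by group
    rw [← mul_assoc, h4, mul_assoc, h3, ← mul_assoc]
  -- general `b`
  have red : ∀ c ∈ W0 F B, a * c = c * a → ⁅b, t⁆ = ⁅c, t⁆ → a * b = b * a := by
    intro c hcW hac hbc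
    have h1 : b * c⁻¹ ∈ D.Z := by
      apply W0_ker F B ((W0 F B).mul_mem hb ((W0 F B).inv_mem hcW))
      rw [comm_mul F (hN b hb) ((N0 D t).inv_mem (hN c hcW)), comm_inv F (hN c hcW), hbc,
        mul_inv_cancel]
    have h2 : b = (b * c⁻¹) * c := by group
    rw [h2, ← mul_assoc, W_Z F B ha.1 h1, mul_assoc, hac, ← mul_assoc]
  rcases Z_elts F (hN a ha).2 hz1 _ (hN b hb).2 with h1 | h1 | h1 | h1
  · exact W_Z F B ha.1 (W0_ker F B hb h1)
  · exact red a ha rfl h1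
  · exact red x hxW c1 (by rw [h1, ← comm_h F B])
  · exact red x2 hx2W c2 (by rw [h1, ← comm_h F B, ← comm_h F B])

/-- **Step 1 of the growth.** -/
theorem wfacts : WFacts D t (W0 F B) where
  Z_le := Z_le_W0 F B
  card := card_W0 F B
  comm := fun _ hw _ hw' => W0_comm F B hw hw'
  cent_P := fun _ hw _ hp => W_P F B hw.1 hp
  h_mem := fun _ hw => h_W0 F B hw
  comm_t := fun _ hw => ((mem_W F B).1 hw.1).1.1.2
  onto := W0_onto F B
  sq_mem := fun _ hw => W_sq F B hw.1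
  t_notMem := t_notMem_W0 F B

end Basic

end Cfsg.Agent.GTwoFour.GrowW
end

-- part: GTwoFour/GrowV
section
/-!
The second growth step for S1751 (rank one): `V = W0 × W0^{nl}` is elementary abelian of order `2^8`,
normalised by `nl` and `Xb`, with `[V, t] = W4`, `t ∉ V`.
-/

set_option autoImplicit false

namespace Cfsg.Agent.GTwoFour.GrowV

open Subgroup Iface
open GrowW hiding W W0
open scoped commutatorElement

variable {H : Type*} [Group H] {D : Data H} {t : H} {W0 : Subgroup H}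

section Basic

variable (F : Facts D) (B : Big D t) (W : WFacts D t W0)

include F in
theorem nl_nl (x : H) : D.nl * (D.nl * x * D.nl⁻¹) * D.nl⁻¹ = x := by
  have h1 : D.nl * (D.nl * x * D.nl⁻¹) * D.nl⁻¹ = D.nl * D.nl * x * (D.nl * D.nl)⁻¹ := by group
  rw [h1, F.nl_sq]; group

include F in
theorem Xe_comm {e e' : H} (he : e ∈ D.Xe) (he' : e' ∈ D.Xe) : e * e' = e' * e := by
  have h1 := inv_eq_of_mul_eq_one_left (F.sq_Xe _ (D.Xe.mul_mem he he'))
  have h2 := inv_eq_of_mul_eq_one_left (F.sq_Xe _ he)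
  have h3 := inv_eq_of_mul_eq_one_left (F.sq_Xe _ he')
  rw [← h1, mul_inv_rev, h2, h3]

include F in
theorem Xe_le_L2 : D.Xe ≤ D.L2 := fun e he => mem_inf.2 ⟨Xe_le_P F he, by
  rw [mem_centralizer_iff]
  intro e' he'
  exact Xe_comm F he' he⟩

include F in
theorem Z_le_L2 : D.Z ≤ D.L2 := fun z hz => mem_inf.2 ⟨Z_le_P F hz, by
  rw [mem_centralizer_iff]
  intro e' he'
  exact P_Z F (Xe_le_P F he') hz⟩

include F in
theorem W4_le_L2 : D.W4 ≤ D.L2 := sup_le (Z_le_L2 F) (Xe_le_L2 F)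

theorem Z_le_W4 : D.Z ≤ D.W4 := le_sup_left

theorem Xe_le_W4 : D.Xe ≤ D.W4 := le_sup_right

include F in
theorem W4_sq {w : H} (hw : w ∈ D.W4) : w * w = 1 := by
  obtain ⟨z, hz, e, he, rfl⟩ := (mem_W4 F).1 hw
  calc z * e * (z * e) = z * (e * z) * e := by group
    _ = (z * z) * (e * e) := by rw [P_Z F (Xe_le_P F he) hz]; group
    _ = 1 := by rw [F.sq_Z z hz, F.sq_Xe e he, one_mul]

include F in
theorem W4_comm {w w' : H} (hw : w ∈ D.W4) (hw' : w' ∈ D.W4) : w * w' = w' * w :=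
  L2_W4 F (W4_le_L2 F hw) hw'

include F in
/-- `L2 = C_A(W4)` -/
theorem mem_L2_iff {l : H} : l ∈ D.L2 ↔ l ∈ D.A ∧ ∀ w ∈ D.W4, l * w = w * l := by
  constructor
  · intro hl
    exact ⟨F.P_le (L2_le_P hl), fun w hw => L2_W4 F hl hw⟩
  · rintro ⟨hA, hc⟩
    refine mem_inf.2 ⟨(F.cent_Z l hA).1 fun z hz => hc z (Z_le_W4 hz), ?_⟩
    rw [mem_centralizer_iff]
    intro e he
    exact (hc e (Xe_le_W4 he)).symm

/-- `V2 = {v ∈ C(L2) | [v,t] ∈ W4}` -/
def V2 : Subgroup H where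
  carrier := {v | (∀ l ∈ D.L2, v * l = l * v) ∧ ⁅v, t⁆ ∈ D.W4}
  one_mem' := by
    refine ⟨fun z _ => by simp, ?_⟩
    rw [commutatorElement_one_left]; exact D.W4.one_mem
  mul_mem' := by
    rintro a b ⟨ha, ha'⟩ ⟨hb, hb'⟩
    refine ⟨fun z hz => by rw [mul_assoc, hb z hz, ← mul_assoc, ha z hz, mul_assoc], ?_⟩
    have h1 : ⁅a * b, t⁆ = a * ⁅b, t⁆ * a⁻¹ * ⁅a, t⁆ := by
      simp only [commutatorElement_def]; group
    have h2 : a * ⁅b, t⁆ * a⁻¹ = ⁅b, t⁆ := by rw [ha _ (W4_le_L2 F hb')]; group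
    rw [h1, h2]
    exact D.W4.mul_mem hb' ha'
  inv_mem' := by
    rintro a ⟨ha, ha'⟩
    have ha2 : ∀ z ∈ D.L2, a⁻¹ * z = z * a⁻¹ := by
      intro z hz
      calc a⁻¹ * z = a⁻¹ * (z * a) * a⁻¹ := by group
        _ = a⁻¹ * (a * z) * a⁻¹ := by rw [ha z hz]
        _ = z * a⁻¹ := by group
    refine ⟨ha2, ?_⟩
    have h1 : ⁅a⁻¹, t⁆ = a⁻¹ * ⁅a, t⁆⁻¹ * a := by
      simp only [commutatorElement_def]; group
    rw [h1, ha2 _ (D.L2.inv_mem (W4_le_L2 F ha')), inv_mul_cancel_right]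
    exact D.W4.inv_mem ha'

theorem V2_W4 {v w : H} (hv : v ∈ V2 (t := t) F) (hw : w ∈ D.W4) : v * w = w * v :=
  hv.1 w (W4_le_L2 F hw)

theorem V2_comm_mul {a b : H} (ha : a ∈ V2 (t := t) F) (hb : b ∈ V2 (t := t) F) :
    ⁅a * b, t⁆ = ⁅a, t⁆ * ⁅b, t⁆ := by
  have h1 : ⁅a * b, t⁆ = a * ⁅b, t⁆ * a⁻¹ * ⁅a, t⁆ := by
    simp only [commutatorElement_def]; group
  have h2 : a * ⁅b, t⁆ * a⁻¹ = ⁅b, t⁆ := by rw [V2_W4 F ha hb.2]; group
  rw [h1, h2, W4_comm F hb.2 ha.2]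

include B in
theorem t_mem_V2 : t ∈ V2 (t := t) F :=
  ⟨fun _ hl => (t_P F B (L2_le_P hl)).symm, by rw [commutatorElement_self]; exact D.W4.one_mem⟩

include B in
/-- the kernel of `[·,t]` on `V2` is `⟨t⟩ W4` -/
theorem V2_ker {v : H} (hv : v ∈ V2 (t := t) F) (h : ⁅v, t⁆ = 1) : v ∈ D.W4 ∨ t * v ∈ D.W4 := by
  have key : ∀ x ∈ D.P, x ∈ V2 (t := t) F → x ∈ D.W4 := by
    intro x hx hxV
    have hxL : x ∈ D.L2 := mem_inf.2 ⟨hx, by
      rw [mem_centralizer_iff]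
      intro e he
      exact (hxV.1 e (Xe_le_L2 F he)).symm⟩
    exact F.center_L2 x hxL hxV.1
  rcases B.cent v (commutatorElement_eq_one_iff_mul_comm.1 h)
    (fun z hz => hv.1 z (Z_le_L2 F hz)) with h1 | h1
  · exact Or.inl (key v h1 hv)
  · exact Or.inr (key _ h1 ((V2 F).mul_mem (t_mem_V2 F B) hv))

include B in
theorem V2_sq {w : H} (hw : w ∈ V2 (t := t) F) : w * w ∈ D.W4 := by
  have h1 : ⁅w * w, t⁆ = 1 := by
    rw [V2_comm_mul F hw hw]; exact W4_sq F hw.2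
  rcases V2_ker F B ((V2 F).mul_mem hw hw) h1 with h2 | h2
  · exact h2
  · -- `w` commutes with `t`
    have h3 : w * t = t * w := by
      have h4 := V2_W4 F hw h2
      have h5 : w * t * (w * w) = t * w * (w * w) := by
        calc w * t * (w * w) = w * (t * (w * w)) := by group
          _ = t * (w * w) * w := h4
          _ = t * w * (w * w) := by group
      exact mul_right_cancel h5
    rcases V2_ker F B hw (commutatorElement_eq_one_iff_mul_comm.2 h3) with h4 | h4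
    · exact D.W4.mul_mem h4 h4
    · have h5 := D.W4.mul_mem h4 h4
      have h6 : t * w * (t * w) = w * w := by
        calc t * w * (t * w) = t * (w * t) * w := by group
          _ = (t * t) * (w * w) := by rw [h3]; group
          _ = w * w := by rw [B.t_sq, one_mul]
      rwa [h6] at h5

include B in
/-- commutators of `V2` lie in `W4` -/
theorem V2_comm {a b : H} (ha : a ∈ V2 (t := t) F) (hb : b ∈ V2 (t := t) F) : ⁅a, b⁆ ∈ D.W4 := by
  have h1 := V2_sq F B ((V2 F).mul_mem ha hb)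
  have h2 := V2_sq F B ha
  have h3 := V2_sq F B hb
  have e : ⁅a, b⁆ = (a * b * (a * b)) * (b⁻¹ * (a * a)⁻¹ * b) * (b * b)⁻¹ := by
    rw [commutatorElement_def]; group
  have e2 : b⁻¹ * (a * a)⁻¹ * b = (a * a)⁻¹ := by
    rw [V2_W4 F ((V2 F).inv_mem hb) (D.W4.inv_mem h2), inv_mul_cancel_right]
  rw [e, e2]
  exact D.W4.mul_mem (D.W4.mul_mem h1 (D.W4.inv_mem h2)) (D.W4.inv_mem h3)

/-! ### `nl` and `Xb` act on `V2` -/

include F in
theorem nl_W4 {w : H} (hw : w ∈ D.W4) : D.nl * w * D.nl⁻¹ ∈ D.W4 := by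
  obtain ⟨z, hz, e, he, rfl⟩ := (mem_W4 F).1 hw
  have h1 : D.nl * (z * e) * D.nl⁻¹ = (D.nl * z * D.nl⁻¹) * (D.nl * e * D.nl⁻¹) := by group
  rw [h1]
  exact D.W4.mul_mem (Xe_le_W4 (F.nl_Z z hz)) (Z_le_W4 (F.nl_Xe e he))

include F in
/-- an element of `A` normalising `W4` normalises `L2`. -/
theorem L2_of_norm {g l : H} (hg : g ∈ D.A) (hgW : ∀ w ∈ D.W4, g⁻¹ * w * g ∈ D.W4)
    (hl : l ∈ D.L2) : g * l * g⁻¹ ∈ D.L2 := by
  rw [mem_L2_iff F] at hl ⊢
  refine ⟨D.A.mul_mem (D.A.mul_mem hg hl.1) (D.A.inv_mem hg), fun w hw => ?_⟩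
  have h1 := hl.2 _ (hgW w hw)
  calc g * l * g⁻¹ * w = g * (l * (g⁻¹ * w * g)) * g⁻¹ := by group
    _ = g * ((g⁻¹ * w * g) * l) * g⁻¹ := by rw [h1]
    _ = w * (g * l * g⁻¹) := by group

include B in
/-- an element of `A` normalising `W4` normalises `V2`. -/
theorem V2_of_norm {g v : H} (hg : g ∈ D.A) (hgW : ∀ w ∈ D.W4, g * w * g⁻¹ ∈ D.W4)
    (hv : v ∈ V2 (t := t) F) : g * v * g⁻¹ ∈ V2 (t := t) F := by
  refine ⟨fun l hl => ?_, ?_⟩
  · have h0 := L2_of_norm F (D.A.inv_mem hg) (fun w hw => by rw [inv_inv]; exact hgW w hw) hl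
    rw [inv_inv] at h0
    have h1 := hv.1 _ h0
    calc g * v * g⁻¹ * l = g * (v * (g⁻¹ * l * g)) * g⁻¹ := by group
      _ = g * ((g⁻¹ * l * g) * v) * g⁻¹ := by rw [h1]
      _ = l * (g * v * g⁻¹) := by group
  · have h1 : ⁅g * v * g⁻¹, t⁆ = g * ⁅v, t⁆ * g⁻¹ := by
      have h2 : g⁻¹ * t * g = t := by
        rw [mul_assoc, ← B.comm g hg]; group
      have h3 : g⁻¹ * t⁻¹ * g = t⁻¹ := by
        calc g⁻¹ * t⁻¹ * g = (g⁻¹ * t * g)⁻¹ := by group
          _ = t⁻¹ := by rw [h2]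
      rw [commutatorElement_def, commutatorElement_def]
      calc g * v * g⁻¹ * t * (g * v * g⁻¹)⁻¹ * t⁻¹
          = g * (v * (g⁻¹ * t * g) * v⁻¹ * (g⁻¹ * t⁻¹ * g)) * g⁻¹ := by group
        _ = g * (v * t * v⁻¹ * t⁻¹) * g⁻¹ := by rw [h2, h3]
    rw [h1]
    exact hgW _ hv.2

include F in
theorem Xb_le_P : D.Xb ≤ D.P := F.Xb_le.trans F.Q1_le

include F in
theorem Xb_W4 {x w : H} (hx : x ∈ D.Xb) (hw : w ∈ D.W4) : x * w * x⁻¹ ∈ D.W4 := by
  have h1 : x * w * x⁻¹ = ⁅x, w⁆ * w := by rw [commutatorElement_def]; group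
  rw [h1]
  exact D.W4.mul_mem (Z_le_W4 (F.comm_Q1 x (F.Xb_le hx) w (W4_le_Q1 F hw))) hw

include B in
theorem comm_conj {g v : H} (hg : g ∈ D.A) : ⁅g * v * g⁻¹, t⁆ = g * ⁅v, t⁆ * g⁻¹ := by
  have h2 : g⁻¹ * t * g = t := by
    rw [mul_assoc, ← B.comm g hg]; group
  have h3 : g⁻¹ * t⁻¹ * g = t⁻¹ := by
    calc g⁻¹ * t⁻¹ * g = (g⁻¹ * t * g)⁻¹ := by group
      _ = t⁻¹ := by rw [h2]
  rw [commutatorElement_def, commutatorElement_def]
  calc g * v * g⁻¹ * t * (g * v * g⁻¹)⁻¹ * t⁻¹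
      = g * (v * (g⁻¹ * t * g) * v⁻¹ * (g⁻¹ * t⁻¹ * g)) * g⁻¹ := by group
    _ = g * (v * t * v⁻¹ * t⁻¹) * g⁻¹ := by rw [h2, h3]

include B in
theorem nl_V2 {v : H} (hv : v ∈ V2 (t := t) F) : D.nl * v * D.nl⁻¹ ∈ V2 (t := t) F :=
  V2_of_norm F B F.nl_mem (fun _ hw => nl_W4 F hw) hv

include B in
theorem Xb_V2 {x v : H} (hx : x ∈ D.Xb) (hv : v ∈ V2 (t := t) F) : x * v * x⁻¹ ∈ V2 (t := t) F :=
  V2_of_norm F B (F.P_le (Xb_le_P F hx)) (fun _ hw => Xb_W4 F hx hw) hv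

include W in
theorem W0_le_V2 : W0 ≤ V2 (t := t) F := fun w hw =>
  ⟨fun _ hl => W.cent_P w hw _ (L2_le_P hl), Z_le_W4 (W.comm_t w hw)⟩

include F B W in
theorem W0_ker {w : H} (hw : w ∈ W0) (h : ⁅w, t⁆ = 1) : w ∈ D.Z := by
  have key : ∀ x ∈ D.P, (∀ p ∈ D.P, x * p = p * x) → x ∈ D.Z := by
    intro x hx hc
    apply F.center_Q1 x
    · apply F.center_PQ1 x hx
      intro p hp
      rw [commutatorElement_eq_one_iff_mul_comm.2 (hc p hp)]
      exact D.Q1.one_mem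
    · intro q hq
      exact hc q (F.Q1_le hq)
  rcases B.cent w (commutatorElement_eq_one_iff_mul_comm.1 h)
    (fun z hz => W.cent_P w hw z (Z_le_P F hz)) with h1 | h1
  · exact key w h1 (W.cent_P w hw)
  · exfalso
    apply W.t_notMem
    have h2 : t * w ∈ D.Z := by
      apply key _ h1
      intro p hp
      rw [mul_assoc, W.cent_P w hw p hp, ← mul_assoc, ← mul_assoc, t_P F B hp]
    have h3 := W0.mul_mem (W.Z_le h2) (W0.inv_mem hw)
    rwa [mul_inv_cancel_right] at h3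

/-- `M = W0 W4`. -/
def M : Subgroup H where
  carrier := {x | ∃ w ∈ W0, ∃ e ∈ D.Xe, x = w * e}
  one_mem' := ⟨1, W0.one_mem, 1, D.Xe.one_mem, (mul_one 1).symm⟩
  mul_mem' := by
    rintro _ _ ⟨w, hw, e, he, rfl⟩ ⟨w', hw', e', he', rfl⟩
    refine ⟨w * w', W0.mul_mem hw hw', e * e', D.Xe.mul_mem he he', ?_⟩
    calc w * e * (w' * e') = w * (e * w') * e' := by group
      _ = w * w' * (e * e') := by rw [← W.cent_P w' hw' e (Xe_le_P F he)]; group
  inv_mem' := by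
    rintro _ ⟨w, hw, e, he, rfl⟩
    refine ⟨w⁻¹, W0.inv_mem hw, e⁻¹, D.Xe.inv_mem he, ?_⟩
    rw [mul_inv_rev, W.cent_P w⁻¹ (W0.inv_mem hw) e⁻¹ (Xe_le_P F (D.Xe.inv_mem he))]

theorem W0_le_M : W0 ≤ M F W := fun w hw => ⟨w, hw, 1, D.Xe.one_mem, (mul_one w).symm⟩

theorem W4_le_M : D.W4 ≤ M F W := fun w hw => by
  obtain ⟨z, hz, e, he, rfl⟩ := (mem_W4 F).1 hw
  exact ⟨z, W.Z_le hz, e, he, rfl⟩

theorem Xb_M {x m : H} (hx : x ∈ D.Xb) (hm : m ∈ M F W) : x * m * x⁻¹ ∈ M F W := by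
  obtain ⟨w, hw, e, he, rfl⟩ := hm
  have h1 : x * (w * e) * x⁻¹ = (x * w * x⁻¹) * (x * e * x⁻¹) := by group
  have h2 : x * w * x⁻¹ = w := by rw [← W.cent_P w hw x (Xb_le_P F hx), mul_inv_cancel_right]
  rw [h1, h2]
  exact (M F W).mul_mem (W0_le_M F W hw) (W4_le_M F W (Xb_W4 F hx (Xe_le_W4 he)))

include B in
theorem t_M {m : H} (hm : m ∈ M F W) : t * m * t⁻¹ ∈ M F W := by
  obtain ⟨w, hw, e, he, rfl⟩ := hm
  have h2 : t * (w * e) * t⁻¹ = ⁅w, t⁆⁻¹ * w * (t * e * t⁻¹) := by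
    rw [commutatorElement_def]; group
  have h3 : t * e * t⁻¹ = e := by rw [← t_P F B (Xe_le_P F he), mul_inv_cancel_right]
  rw [h2, h3]
  exact (M F W).mul_mem ((M F W).mul_mem (W0_le_M F W (W0.inv_mem (W.Z_le (W.comm_t w hw))))
    (W0_le_M F W hw)) (W4_le_M F W (Xe_le_W4 he))

include B in
/-- for `v ∈ V2` with `[v,t] ∈ Xe` and `x ∈ Xb`: `[v,x] ∈ W0 W4` or `t [v,x] ∈ W0 W4` -/
theorem comm_Xb {v x : H} (hv : v ∈ V2 (t := t) F) (hvt : ⁅v, t⁆ ∈ D.Xe) (hx : x ∈ D.Xb) :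
    ⁅v, x⁆ ∈ M F W ∨ t * ⁅v, x⁆ ∈ M F W := by
  have hu : ⁅v, x⁆ ∈ V2 (t := t) F := by
    have h1 : ⁅v, x⁆ = v * (x * v⁻¹ * x⁻¹) := by rw [commutatorElement_def]; group
    rw [h1]
    exact (V2 F).mul_mem hv (Xb_V2 F B hx ((V2 F).inv_mem hv))
  have h1 : ⁅⁅v, x⁆, t⁆ ∈ D.Z := by
    have h2 : ⁅v, x⁆ = v * (x * v⁻¹ * x⁻¹) := by rw [commutatorElement_def]; group
    rw [h2, V2_comm_mul F hv (Xb_V2 F B hx ((V2 F).inv_mem hv)),
      comm_conj B (F.P_le (Xb_le_P F hx))]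
    have h3 : ⁅v⁻¹, t⁆ = ⁅v, t⁆⁻¹ := by
      have h := V2_comm_mul F hv ((V2 F).inv_mem hv)
      rw [mul_inv_cancel, commutatorElement_one_left] at h
      exact (inv_eq_of_mul_eq_one_right h.symm).symm
    have h4 : ⁅v, t⁆ * (x * ⁅v, t⁆⁻¹ * x⁻¹) = ⁅⁅v, t⁆, x⁆ := by
      rw [commutatorElement_def ⁅v, t⁆ x]; group
    rw [h3, h4]
    exact F.comm_Q1 _ (F.Xe_le hvt) _ (F.Xb_le hx)
  obtain ⟨w, hw, hwt⟩ := W.onto _ h1
  have hwV := W0_le_V2 F W hw
  have h2 : ⁅w⁻¹ * ⁅v, x⁆, t⁆ = 1 := by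
    have h := V2_comm_mul F hwV ((V2 F).mul_mem ((V2 F).inv_mem hwV) hu)
    rw [mul_inv_cancel_left, hwt] at h
    exact (mul_eq_left.1 h.symm)
  rcases V2_ker F B ((V2 F).mul_mem ((V2 F).inv_mem hwV) hu) h2 with h3 | h3
  · left
    have h4 : ⁅v, x⁆ = w * (w⁻¹ * ⁅v, x⁆) := by group
    rw [h4]
    exact (M F W).mul_mem (W0_le_M F W hw) (W4_le_M F W h3)
  · right
    have h4 : t * ⁅v, x⁆ = (t * w * t⁻¹) * (t * (w⁻¹ * ⁅v, x⁆)) := by group
    rw [h4]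
    exact (M F W).mul_mem (t_M F B W (W0_le_M F W hw)) (W4_le_M F W h3)

include F in
/-- `Xb` has two elements `x1 ≠ 1`, `x2 ≠ 1` with `x1 x2 ≠ 1`. -/
theorem Xb_two : ∃ x1 ∈ D.Xb, ∃ x2 ∈ D.Xb, x1 ≠ 1 ∧ x2 ≠ 1 ∧ x1 * x2 ≠ 1 := by
  classical
  have h4 := F.card_Xb
  have hfin : Finite D.Xb := Nat.finite_of_card_ne_zero (by rw [h4]; norm_num)
  have hnt : 1 < Nat.card D.Xb := by rw [h4]; norm_num
  have hnt' : Nontrivial D.Xb := Finite.one_lt_card_iff_nontrivial.1 hnt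
  obtain ⟨x1, hx1⟩ := exists_ne (1 : D.Xb)
  have h3 : ∃ x2 : D.Xb, x2 ≠ 1 ∧ x2 ≠ x1 := by
    by_contra hcon
    push Not at hcon
    have : Nat.card D.Xb ≤ 2 := by
      have hf : Function.Surjective (fun i : Fin 2 => if i = 0 then (1 : D.Xb) else x1) := by
        intro y
        by_cases hy : y = 1
        · exact ⟨0, by simp [hy]⟩
        · exact ⟨1, by simp [hcon y hy]⟩
      have := Nat.card_le_card_of_surjective _ hf
      simpa using this
    omega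
  obtain ⟨x2, hx2, hx21⟩ := h3
  refine ⟨x1, x1.2, x2, x2.2, fun h => hx1 (Subtype.ext h), fun h => hx2 (Subtype.ext h), ?_⟩
  intro h
  apply hx21
  apply Subtype.ext
  have h5 := F.sq_Xb _ x1.2
  exact (mul_left_cancel (h5.trans h.symm)).symm

include B in
/-- `v ∈ V2`, `[v,t] ∈ Xe`: `[v,x0] ∈ M` for some `x0 ≠ 1` in `Xb`. -/
theorem exists_x0 {v : H} (hv : v ∈ V2 (t := t) F) (hvt : ⁅v, t⁆ ∈ D.Xe) :
    ∃ x ∈ D.Xb, x ≠ 1 ∧ ⁅v, x⁆ ∈ M F W := by
  obtain ⟨x1, hx1, x2, hx2, h1, h2, h12⟩ := Xb_two F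
  rcases comm_Xb F B W hv hvt hx1 with h3 | h3
  · exact ⟨x1, hx1, h1, h3⟩
  rcases comm_Xb F B W hv hvt hx2 with h4 | h4
  · exact ⟨x2, hx2, h2, h4⟩
  refine ⟨x1 * x2, D.Xb.mul_mem hx1 hx2, h12, ?_⟩
  have e1 : ⁅v, x1 * x2⁆ = ⁅v, x1⁆ * (x1 * ⁅v, x2⁆ * x1⁻¹) := by
    simp only [commutatorElement_def]; group
  have hc : x1⁻¹ * t * x1 = t := by
    rw [mul_assoc, ← t_P F B (Xb_le_P F hx1)]; group
  have e2 : t * (x1 * ⁅v, x2⁆ * x1⁻¹) = x1 * (t * ⁅v, x2⁆) * x1⁻¹ := by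
    calc t * (x1 * ⁅v, x2⁆ * x1⁻¹) = x1 * ((x1⁻¹ * t * x1) * ⁅v, x2⁆) * x1⁻¹ := by group
      _ = x1 * (t * ⁅v, x2⁆) * x1⁻¹ := by rw [hc]
  have h5 : t * (x1 * ⁅v, x2⁆ * x1⁻¹) ∈ M F W := by
    rw [e2]; exact Xb_M F W hx1 h4
  have h6 := (M F W).mul_mem (t_M F B W h3) h5
  have e3 : t * (t * ⁅v, x1⁆) * t⁻¹ * (t * (x1 * ⁅v, x2⁆ * x1⁻¹)) =
      (t * t) * (⁅v, x1⁆ * (x1 * ⁅v, x2⁆ * x1⁻¹)) := by group
  rw [e3, B.t_sq, one_mul, ← e1] at h6
  exact h6

/-- elements of `M` commute with `W0`. -/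
theorem M_W0 {m w : H} (hm : m ∈ M F W) (hw : w ∈ W0) : w * m = m * w := by
  obtain ⟨w', hw', e, he, rfl⟩ := hm
  rw [← mul_assoc, W.comm w hw w' hw', mul_assoc, W.cent_P w hw e (Xe_le_P F he), ← mul_assoc]

include B W in
/-- `x [w,v] x⁻¹ = [w,[v,x]⁻¹] [w,v]`. -/
theorem conj_comm {w v x : H} (hw : w ∈ W0) (hv : v ∈ V2 (t := t) F) (hx : x ∈ D.Xb) :
    x * ⁅w, v⁆ * x⁻¹ = ⁅w, ⁅v, x⁆⁻¹⁆ * ⁅w, v⁆ := by
  have hwx : x * w = w * x := (W.cent_P w hw x (Xb_le_P F hx)).symm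
  have hu : ⁅v, x⁆ ∈ V2 (t := t) F := by
    have h1 : ⁅v, x⁆ = v * (x * v⁻¹ * x⁻¹) := by rw [commutatorElement_def]; group
    rw [h1]
    exact (V2 F).mul_mem hv (Xb_V2 F B hx ((V2 F).inv_mem hv))
  have h1 : x * v * x⁻¹ = ⁅v, x⁆⁻¹ * v := by rw [commutatorElement_def]; group
  have h2 : x * w * x⁻¹ = w := by rw [hwx, mul_inv_cancel_right]
  have h3 : x * ⁅w, v⁆ * x⁻¹ = ⁅x * w * x⁻¹, x * v * x⁻¹⁆ := by
    simp only [commutatorElement_def]; group
  rw [h3, h1, h2]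
  set u := ⁅v, x⁆ with hud
  have h4 : ⁅w, u⁻¹ * v⁆ = ⁅w, u⁻¹⁆ * (u⁻¹ * ⁅w, v⁆ * u) := by
    simp only [commutatorElement_def]; group
  have h5 : u⁻¹ * ⁅w, v⁆ * u = ⁅w, v⁆ := by
    have h6 := V2_comm F B (W0_le_V2 F W hw) hv
    rw [V2_W4 F ((V2 F).inv_mem hu) h6, inv_mul_cancel_right]
  rw [h4, h5]

include B W in
/-- `[W0, v] ≤ Z` for `v ∈ V2`, `[v,t] ∈ Xe`. -/
theorem comm_W0_Z {w v : H} (hw : w ∈ W0) (hv : v ∈ V2 (t := t) F) (hvt : ⁅v, t⁆ ∈ D.Xe) :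
    ⁅w, v⁆ ∈ D.Z := by
  obtain ⟨x, hx, hx1, hxM⟩ := exists_x0 F B W hv hvt
  have h1 := conj_comm F B W hw hv hx
  have h2 : ⁅w, ⁅v, x⁆⁻¹⁆ = 1 :=
    commutatorElement_eq_one_iff_mul_comm.2 (M_W0 F W ((M F W).inv_mem hxM) hw)
  rw [h2, one_mul] at h1
  have h3 := V2_comm F B (W0_le_V2 F W hw) hv
  obtain ⟨z, hz, e, he, hze⟩ := (mem_W4 F).1 h3
  rw [hze] at h1 ⊢
  have h4 : x * z = z * x := P_Z F (Xb_le_P F hx) hz
  have h5 : x * e * x⁻¹ = e := by
    have h6 : x * (z * e) * x⁻¹ = z * (x * e * x⁻¹) := by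
      calc x * (z * e) * x⁻¹ = (x * z) * e * x⁻¹ := by group
        _ = z * (x * e * x⁻¹) := by rw [h4]; group
    rw [h6] at h1
    exact mul_left_cancel h1
  have h6 : e * x = x * e := by
    calc e * x = (x * e * x⁻¹) * x := by rw [h5]
      _ = x * e := by group
  rcases F.Xe_Xb e he x hx h6 with h7 | h7
  · rw [h7, mul_one]; exact hz
  · exact absurd h7 hx1

include B in
/-- `[v, x] ∈ M` for all `x ∈ Xb`. -/
theorem comm_Xb_M {v x : H} (hv : v ∈ V2 (t := t) F) (hvt : ⁅v, t⁆ ∈ D.Xe) (hx : x ∈ D.Xb) :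
    ⁅v, x⁆ ∈ M F W := by
  rcases comm_Xb F B W hv hvt hx with h | h
  · exact h
  exfalso
  -- all `w ∈ W0` commute with `⁅v,x⁆`, hence with `t`
  have key : ∀ w ∈ W0, ⁅w, t⁆ = 1 := by
    intro w hw
    have h1 := conj_comm F B W hw hv hx
    have h2 := comm_W0_Z F B W hw hv hvt
    have h3 : x * ⁅w, v⁆ * x⁻¹ = ⁅w, v⁆ := by
      rw [P_Z F (Xb_le_P F hx) h2, mul_inv_cancel_right]
    rw [h3] at h1
    have h4 : ⁅w, ⁅v, x⁆⁻¹⁆ = 1 := mul_eq_right.1 h1.symm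
    have h5 : w * ⁅v, x⁆⁻¹ = ⁅v, x⁆⁻¹ * w := commutatorElement_eq_one_iff_mul_comm.1 h4
    have h6 : w * (t * ⁅v, x⁆) = t * ⁅v, x⁆ * w := M_W0 F W h hw
    apply commutatorElement_eq_one_iff_mul_comm.2
    calc w * t = (w * (t * ⁅v, x⁆)) * ⁅v, x⁆⁻¹ := by group
      _ = (t * ⁅v, x⁆ * w) * ⁅v, x⁆⁻¹ := by rw [h6]
      _ = t * ⁅v, x⁆ * (w * ⁅v, x⁆⁻¹) := by group
      _ = t * ⁅v, x⁆ * (⁅v, x⁆⁻¹ * w) := by rw [h5]
      _ = t * w := by group
  have h7 : D.Z ≤ ⊥ := by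
    intro z hz
    obtain ⟨w, hw, hwz⟩ := W.onto z hz
    rw [mem_bot, ← hwz]
    exact key w hw
  have h8 := F.card_Z
  rw [le_bot_iff.1 h7, card_bot] at h8
  norm_num at h8

/-! ### `W_- = W0^{nl}` -/

include B W in
theorem nl_W0_V2 {w : H} (hw : w ∈ W0) : D.nl * w * D.nl⁻¹ ∈ V2 (t := t) F :=
  nl_V2 F B (W0_le_V2 F W hw)

include F B W in
theorem nl_W0_t {w : H} (hw : w ∈ W0) : ⁅D.nl * w * D.nl⁻¹, t⁆ ∈ D.Xe := by
  rw [comm_conj B F.nl_mem]
  exact F.nl_Z _ (W.comm_t w hw)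

include F B W in
/-- `W0` and `W0^{nl}` commute. -/
theorem W0_nl_comm {w w' : H} (hw : w ∈ W0) (hw' : w' ∈ W0) :
    w * (D.nl * w' * D.nl⁻¹) = (D.nl * w' * D.nl⁻¹) * w := by
  apply commutatorElement_eq_one_iff_mul_comm.1
  have h1 := comm_W0_Z F B W hw (nl_W0_V2 F B W hw') (nl_W0_t F B W hw')
  have h2 := comm_W0_Z F B W hw' (nl_W0_V2 F B W hw) (nl_W0_t F B W hw)
  have h3 : ⁅w, D.nl * w' * D.nl⁻¹⁆ = D.nl * ⁅w', D.nl * w * D.nl⁻¹⁆⁻¹ * D.nl⁻¹ := by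
    have h4 : D.nl * ⁅w', D.nl * w * D.nl⁻¹⁆⁻¹ * D.nl⁻¹ =
        ⁅D.nl * (D.nl * w * D.nl⁻¹) * D.nl⁻¹, D.nl * w' * D.nl⁻¹⁆ := by
      simp only [commutatorElement_def]; group
    rw [h4, nl_nl F]
  apply F.Xe_Z _ _ h1
  rw [h3]
  exact F.nl_Z _ (D.Z.inv_mem h2)

/-- `V = W0 W0^{nl}` -/
def V : Subgroup H where
  carrier := {x | ∃ w ∈ W0, ∃ w' ∈ W0, x = w * (D.nl * w' * D.nl⁻¹)}
  one_mem' := ⟨1, W0.one_mem, 1, W0.one_mem, by group⟩
  mul_mem' := by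
    rintro _ _ ⟨w, hw, u, hu, rfl⟩ ⟨w', hw', u', hu', rfl⟩
    refine ⟨w * w', W0.mul_mem hw hw', u * u', W0.mul_mem hu hu', ?_⟩
    calc w * (D.nl * u * D.nl⁻¹) * (w' * (D.nl * u' * D.nl⁻¹))
        = w * ((D.nl * u * D.nl⁻¹) * w') * (D.nl * u' * D.nl⁻¹) := by group
      _ = w * w' * (D.nl * (u * u') * D.nl⁻¹) := by
          rw [← W0_nl_comm F B W hw' hu]; group
  inv_mem' := by
    rintro _ ⟨w, hw, u, hu, rfl⟩
    refine ⟨w⁻¹, W0.inv_mem hw, u⁻¹, W0.inv_mem hu, ?_⟩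
    rw [W0_nl_comm F B W (W0.inv_mem hw) (W0.inv_mem hu)]; group

theorem mem_V {x : H} : x ∈ V F B W ↔ ∃ w ∈ W0, ∃ w' ∈ W0, x = w * (D.nl * w' * D.nl⁻¹) := Iff.rfl

theorem W0_le_V : W0 ≤ V F B W := fun w hw => ⟨w, hw, 1, W0.one_mem, by group⟩

theorem nl_W0_V {w : H} (hw : w ∈ W0) : D.nl * w * D.nl⁻¹ ∈ V F B W :=
  ⟨1, W0.one_mem, w, hw, by group⟩

theorem Xe_le_V : D.Xe ≤ V F B W := by
  intro e he
  have h1 := nl_W0_V F B W (W.Z_le (F.nl_Xe e he))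
  rwa [nl_nl F] at h1

theorem M_le_V : M F W ≤ V F B W := by
  rintro _ ⟨w, hw, e, he, rfl⟩
  exact (V F B W).mul_mem (W0_le_V F B W hw) (Xe_le_V F B W he)

theorem W4_le_V : D.W4 ≤ V F B W := (W4_le_M F W).trans (M_le_V F B W)

theorem V_le_V2 : V F B W ≤ V2 (t := t) F := by
  rintro _ ⟨w, hw, u, hu, rfl⟩
  exact (V2 F).mul_mem (W0_le_V2 F W hw) (nl_W0_V2 F B W hu)

theorem V_comm {a b : H} (ha : a ∈ V F B W) (hb : b ∈ V F B W) : a * b = b * a := by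
  obtain ⟨w, hw, u, hu, rfl⟩ := ha
  obtain ⟨w', hw', u', hu', rfl⟩ := hb
  have h1 := W0_nl_comm F B W hw hu'
  have h2 := W0_nl_comm F B W hw' hu
  have h3 : (D.nl * u * D.nl⁻¹) * (D.nl * u' * D.nl⁻¹) =
      (D.nl * u' * D.nl⁻¹) * (D.nl * u * D.nl⁻¹) := by
    have h4 : (D.nl * u * D.nl⁻¹) * (D.nl * u' * D.nl⁻¹) = D.nl * (u * u') * D.nl⁻¹ := by group
    rw [h4, W.comm u hu u' hu']; group
  set U := D.nl * u * D.nl⁻¹
  set U' := D.nl * u' * D.nl⁻¹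
  calc w * U * (w' * U') = w * (U * w') * U' := by group
    _ = w * (w' * U) * U' := by rw [h2]
    _ = (w * w') * (U * U') := by group
    _ = (w' * w) * (U' * U) := by rw [W.comm w hw w' hw', h3]
    _ = w' * (w * U') * U := by group
    _ = w' * (U' * w) * U := by rw [h1]
    _ = w' * U' * (w * U) := by group

theorem nl_V {v : H} (hv : v ∈ V F B W) : D.nl * v * D.nl⁻¹ ∈ V F B W := by
  obtain ⟨w, hw, u, hu, rfl⟩ := hv
  have h1 : D.nl * (w * (D.nl * u * D.nl⁻¹)) * D.nl⁻¹ =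
      (D.nl * w * D.nl⁻¹) * (D.nl * (D.nl * u * D.nl⁻¹) * D.nl⁻¹) := by group
  rw [h1, nl_nl F]
  exact (V F B W).mul_mem (nl_W0_V F B W hw) (W0_le_V F B W hu)

/-- `Xb` normalises `V`. -/
theorem Xb_V {x v : H} (hx : x ∈ D.Xb) (hv : v ∈ V F B W) : x * v * x⁻¹ ∈ V F B W := by
  obtain ⟨w, hw, u, hu, rfl⟩ := hv
  have h2 : x * w * x⁻¹ = w := by rw [← W.cent_P w hw x (Xb_le_P F hx), mul_inv_cancel_right]
  have h3 := comm_Xb_M F B W (nl_W0_V2 F B W hu) (nl_W0_t F B W hu) hx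
  have h1 : x * (w * (D.nl * u * D.nl⁻¹)) * x⁻¹ =
      (x * w * x⁻¹) * (⁅D.nl * u * D.nl⁻¹, x⁆⁻¹ * (D.nl * u * D.nl⁻¹)) := by
    rw [commutatorElement_def]; group
  rw [h1, h2]
  exact (V F B W).mul_mem (W0_le_V F B W hw) ((V F B W).mul_mem
    ((V F B W).inv_mem (M_le_V F B W h3)) (nl_W0_V F B W hu))

include F W in
/-- `W0 ∩ Xe = 1` -/
theorem W0_Xe {e : H} (he : e ∈ D.Xe) (heW : e ∈ W0) : e = 1 := by
  obtain ⟨x1, hx1, -, -, h1, -, -⟩ := Xb_two F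
  rcases F.Xe_Xb e he x1 hx1 (W.cent_P e heW x1 (Xb_le_P F hx1)) with h | h
  · exact h
  · exact absurd h h1

include F B W in
/-- the decomposition of `⁅w', x⁆`. -/
theorem comm_eq {u x : H} (hu : u ∈ W0) (hx : x ∈ D.Xb) (hx1 : x ≠ 1) :
    ∃ w ∈ W0, ⁅D.nl * u * D.nl⁻¹, x⁆ = w * (D.nl * (u * u) * D.nl⁻¹) := by
  have hUV := nl_W0_V F B W hu
  obtain ⟨w, hw, e, he, hwe⟩ := comm_Xb_M F B W (nl_W0_V2 F B W hu) (nl_W0_t F B W hu) hx
  refine ⟨w, hw, ?_⟩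
  have hU2 : D.nl * (u * u) * D.nl⁻¹ ∈ D.Xe := F.nl_Z _ (W.sq_mem u hu)
  have hUU : D.nl * (u * u) * D.nl⁻¹ = (D.nl * u * D.nl⁻¹) * (D.nl * u * D.nl⁻¹) := by group
  rw [hUU] at hU2 ⊢
  set U := D.nl * u * D.nl⁻¹ with hU
  -- (1) `⁅U,x⁆² = ⁅U²,x⁆`
  have hxU : x * U⁻¹ * x⁻¹ ∈ V F B W := Xb_V F B W hx ((V F B W).inv_mem hUV)
  have e0 : ⁅U, x⁆ = U * (x * U⁻¹ * x⁻¹) := by rw [commutatorElement_def]; group
  have e1 : ⁅U, x⁆ * ⁅U, x⁆ = ⁅U * U, x⁆ := by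
    have c1 := V_comm F B W hUV hxU
    have e2 : ⁅U * U, x⁆ = U * U * ((x * U⁻¹ * x⁻¹) * (x * U⁻¹ * x⁻¹)) := by
      rw [commutatorElement_def]; group
    rw [e2, e0]
    calc U * (x * U⁻¹ * x⁻¹) * (U * (x * U⁻¹ * x⁻¹))
        = U * ((x * U⁻¹ * x⁻¹) * U) * (x * U⁻¹ * x⁻¹) := by group
      _ = U * (U * (x * U⁻¹ * x⁻¹)) * (x * U⁻¹ * x⁻¹) := by rw [c1]
      _ = U * U * ((x * U⁻¹ * x⁻¹) * (x * U⁻¹ * x⁻¹)) := by group
  -- (2) `x ⁅U,x⁆ x⁻¹ = ⁅U,x⁆⁻¹`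
  have hxx := F.sq_Xb x hx
  have hxi : x⁻¹ = x := inv_eq_of_mul_eq_one_left hxx
  have e3 : x * ⁅U, x⁆ * x⁻¹ = ⁅U, x⁆⁻¹ := by
    have e4 : ⁅U, x⁆⁻¹ = x * U * x⁻¹ * U⁻¹ := by rw [commutatorElement_def]; group
    rw [e4, commutatorElement_def]
    calc x * (U * x * U⁻¹ * x⁻¹) * x⁻¹ = x * U * x * U⁻¹ * (x * x)⁻¹ := by group
      _ = x * U * x⁻¹ * U⁻¹ := by rw [hxx, hxi]; group
  -- `w * w = ⁅e, x⁆`
  have hee := F.sq_Xe e he
  have hei : e⁻¹ = e := inv_eq_of_mul_eq_one_left hee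
  have cwe : w * e = e * w := W.cent_P w hw e (Xe_le_P F he)
  have hz := F.comm_Q1 e (F.Xe_le he) x (F.Xb_le hx)
  have hzi : ⁅e, x⁆⁻¹ = ⁅e, x⁆ := inv_eq_of_mul_eq_one_left (F.sq_Z _ hz)
  have e5 : w * w = ⁅e, x⁆ := by
    rw [hwe] at e3
    have h2 : x * w * x⁻¹ = w := by rw [← W.cent_P w hw x (Xb_le_P F hx), mul_inv_cancel_right]
    have h3 : x * (w * e) * x⁻¹ = (x * w * x⁻¹) * (⁅e, x⁆⁻¹ * e) := by
      rw [commutatorElement_def]; group
    rw [h3, h2, mul_inv_rev, hei, hzi] at e3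
    -- `w * (⁅e,x⁆ * e) = e * w⁻¹`
    have h4 : e * w⁻¹ = w⁻¹ * e := by
      have := W.cent_P w⁻¹ (W0.inv_mem hw) e (Xe_le_P F he)
      exact this.symm
    rw [h4] at e3
    have h5 : w * ⁅e, x⁆ = w⁻¹ := by
      have h6 : (w * ⁅e, x⁆) * e = w⁻¹ * e := by rw [mul_assoc]; exact e3
      exact mul_right_cancel h6
    have h6 : w * w * ⁅e, x⁆ = 1 := by rw [mul_assoc, h5, mul_inv_cancel]
    rw [← hzi]
    exact (inv_eq_of_mul_eq_one_left h6).symm
  -- `⁅U*U, x⁆ = ⁅e, x⁆`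
  have e6 : ⁅U * U, x⁆ = ⁅e, x⁆ := by
    rw [← e1, hwe, ← e5]
    calc w * e * (w * e) = w * (e * w) * e := by group
      _ = (w * w) * (e * e) := by rw [← cwe]; group
      _ = w * w := by rw [hee, mul_one]
  have e7 : (U * U * e⁻¹) * x = x * (U * U * e⁻¹) := by
    apply commutatorElement_eq_one_iff_mul_comm.1
    have h1 : ⁅U * U * e⁻¹, x⁆ = (U * U) * ⁅e⁻¹, x⁆ * (U * U)⁻¹ * ⁅U * U, x⁆ := by
      simp only [commutatorElement_def]; group
    have h2 : (U * U) * ⁅e⁻¹, x⁆ * (U * U)⁻¹ = ⁅e⁻¹, x⁆ := by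
      rw [P_Z F (Xe_le_P F hU2) (F.comm_Q1 _ (F.Xe_le (D.Xe.inv_mem he)) x (F.Xb_le hx)),
        mul_inv_cancel_right]
    rw [h1, h2, e6, hei]
    exact F.sq_Z _ hz
  rcases F.Xe_Xb _ (D.Xe.mul_mem hU2 (D.Xe.inv_mem he)) x hx e7 with h | h
  · rw [hwe, mul_inv_eq_one.1 h]
  · exact absurd h hx1

include F B W in
/-- `W0` is elementary abelian. -/
theorem W0_sq {u : H} (hu : u ∈ W0) : u * u = 1 := by
  obtain ⟨x1, hx1, x2, hx2, h1, h2, h12⟩ := Xb_two F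
  obtain ⟨w1, hw1, e1⟩ := comm_eq F B W hu hx1 h1
  obtain ⟨w2, hw2, e2⟩ := comm_eq F B W hu hx2 h2
  obtain ⟨w3, hw3, e3⟩ := comm_eq F B W hu (D.Xb.mul_mem hx1 hx2) h12
  have hU2 : D.nl * (u * u) * D.nl⁻¹ ∈ D.Xe := F.nl_Z _ (W.sq_mem u hu)
  set E := D.nl * (u * u) * D.nl⁻¹ with hE
  have hEE := F.sq_Xe E hU2
  have e4 : ⁅D.nl * u * D.nl⁻¹, x1 * x2⁆ =
      ⁅D.nl * u * D.nl⁻¹, x1⁆ * (x1 * ⁅D.nl * u * D.nl⁻¹, x2⁆ * x1⁻¹) := by
    simp only [commutatorElement_def]; group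
  rw [e1, e2, e3] at e4
  have h5 : x1 * w2 * x1⁻¹ = w2 := by
    rw [← W.cent_P w2 hw2 x1 (Xb_le_P F hx1), mul_inv_cancel_right]
  have h6 : x1 * (w2 * E) * x1⁻¹ = (x1 * w2 * x1⁻¹) * (⁅x1, E⁆ * E) := by
    rw [commutatorElement_def]; group
  have hz := F.comm_Q1 x1 (F.Xb_le hx1) E (F.Xe_le hU2)
  have hzW := W.Z_le hz
  rw [h6, h5] at e4
  have c1 : w2 * E = E * w2 := W.cent_P w2 hw2 E (Xe_le_P F hU2)
  have c2 : E * ⁅x1, E⁆ = ⁅x1, E⁆ * E := P_Z F (Xe_le_P F hU2) hz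
  have h7 : w1 * E * (w2 * (⁅x1, E⁆ * E)) = w1 * w2 * ⁅x1, E⁆ := by
    calc w1 * E * (w2 * (⁅x1, E⁆ * E)) = w1 * (E * w2) * (⁅x1, E⁆ * E) := by group
      _ = w1 * w2 * (E * ⁅x1, E⁆) * E := by rw [← c1]; group
      _ = w1 * w2 * ⁅x1, E⁆ * (E * E) := by rw [c2]; group
      _ = w1 * w2 * ⁅x1, E⁆ := by rw [hEE, mul_one]
  rw [h7] at e4
  have h8 : E ∈ W0 := by
    have h9 : E = w3⁻¹ * (w1 * w2 * ⁅x1, E⁆) := by rw [← e4]; group
    rw [h9]
    exact W0.mul_mem (W0.inv_mem hw3) (W0.mul_mem (W0.mul_mem hw1 hw2) hzW)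
  have h9 := W0_Xe F W hU2 h8
  have h10 : u * u = D.nl⁻¹ * E * D.nl := by rw [hE]; group
  rw [h10, h9]; group

theorem V_sq {v : H} (hv : v ∈ V F B W) : v * v = 1 := by
  obtain ⟨w, hw, u, hu, rfl⟩ := hv
  calc w * (D.nl * u * D.nl⁻¹) * (w * (D.nl * u * D.nl⁻¹))
      = w * ((D.nl * u * D.nl⁻¹) * w) * (D.nl * u * D.nl⁻¹) := by group
    _ = (w * w) * (D.nl * (u * u) * D.nl⁻¹) := by rw [← W0_nl_comm F B W hw hu]; group
    _ = 1 := by rw [W0_sq F B W hw, W0_sq F B W hu]; group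

theorem Xb_V_W0 {x v : H} (hx : x ∈ D.Xb) (hv : v ∈ V F B W) : ⁅v, x⁆ ∈ W0 := by
  by_cases hx1 : x = 1
  · rw [hx1, commutatorElement_one_right]; exact W0.one_mem
  obtain ⟨w, hw, u, hu, rfl⟩ := hv
  obtain ⟨w2, hw2, e⟩ := comm_eq F B W hu hx hx1
  rw [W0_sq F B W hu, mul_one, mul_inv_cancel, mul_one] at e
  have h1 : ⁅w * (D.nl * u * D.nl⁻¹), x⁆ =
      w * ⁅D.nl * u * D.nl⁻¹, x⁆ * w⁻¹ * ⁅w, x⁆ := by
    simp only [commutatorElement_def]; group
  have h2 : ⁅w, x⁆ = 1 :=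
    commutatorElement_eq_one_iff_mul_comm.2 (W.cent_P w hw x (Xb_le_P F hx))
  rw [h1, e, h2, mul_one]
  exact W0.mul_mem (W0.mul_mem hw hw2) (W0.inv_mem hw)

theorem V_cent_t {v : H} (hv : v ∈ V F B W) (h : ⁅v, t⁆ = 1) : v ∈ D.W4 := by
  obtain ⟨w, hw, u, hu, rfl⟩ := hv
  have hwV := W0_le_V2 F W hw
  have huV := nl_W0_V2 F B W hu
  rw [V2_comm_mul F hwV huV] at h
  have h1 := W.comm_t w hw
  have h2 := nl_W0_t F B W hu
  have h3 : ⁅D.nl * u * D.nl⁻¹, t⁆ = 1 := by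
    apply F.Xe_Z _ h2
    rw [← inv_eq_of_mul_eq_one_right h]
    exact D.Z.inv_mem h1
  rw [h3, mul_one] at h
  have h4 := W0_ker F B W hw h
  have h5 : ⁅u, t⁆ = 1 := by
    rw [comm_conj B F.nl_mem] at h3
    have h6 : ⁅u, t⁆ = D.nl⁻¹ * (D.nl * ⁅u, t⁆ * D.nl⁻¹) * D.nl := by group
    rw [h6, h3]; group
  have h6 := W0_ker F B W hu h5
  exact D.W4.mul_mem (Z_le_W4 h4) (Xe_le_W4 (F.nl_Z u h6))

theorem t_notMem_V : t ∉ V F B W := by
  intro h
  have h1 := V_cent_t F B W h (commutatorElement_self t)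
  exact B.t_notMem (F.P_le (F.Q1_le (W4_le_Q1 F h1)))

theorem V_onto : ∀ w ∈ D.W4, ∃ v ∈ V F B W, ⁅v, t⁆ = w := by
  intro w hw
  obtain ⟨z, hz, e, he, rfl⟩ := (mem_W4 F).1 hw
  obtain ⟨a, ha, haz⟩ := W.onto z hz
  obtain ⟨b, hb, hbz⟩ := W.onto _ (F.nl_Xe e he)
  refine ⟨a * (D.nl * b * D.nl⁻¹), ⟨a, ha, b, hb, rfl⟩, ?_⟩
  rw [V2_comm_mul F (W0_le_V2 F W ha) (nl_W0_V2 F B W hb), haz, comm_conj B F.nl_mem, hbz,
    nl_nl F]

include F in
theorem card_W4 : Nat.card D.W4 = 16 := by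
  have e : (D.Z × D.Xe) ≃ D.W4 := by
    refine Equiv.ofBijective (fun p => ⟨p.1 * p.2, D.W4.mul_mem (Z_le_W4 p.1.2) (Xe_le_W4 p.2.2)⟩)
      ⟨?_, ?_⟩
    · rintro ⟨z, e⟩ ⟨z', e'⟩ h
      have h1 : (z : H) * e = z' * e' := congrArg Subtype.val h
      have h2 : (e : H) * (e' : H)⁻¹ = (z : H)⁻¹ * z' := by
        calc (e : H) * (e' : H)⁻¹ = (z : H)⁻¹ * (z * e) * (e' : H)⁻¹ := by group
          _ = (z : H)⁻¹ * z' := by rw [h1]; group
      have h3 : (e : H) * (e' : H)⁻¹ = 1 := by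
        apply F.Xe_Z _ (D.Xe.mul_mem e.2 (D.Xe.inv_mem e'.2))
        rw [h2]
        exact D.Z.mul_mem (D.Z.inv_mem z.2) z'.2
      have h4 : e = e' := Subtype.ext (mul_inv_eq_one.1 h3)
      subst h4
      have h5 : z = z' := Subtype.ext (mul_right_cancel h1)
      rw [h5]
    · rintro ⟨w, hw⟩
      obtain ⟨z, hz, e, he, rfl⟩ := (mem_W4 F).1 hw
      exact ⟨(⟨z, hz⟩, ⟨e, he⟩), rfl⟩
  rw [← Nat.card_congr e, Nat.card_prod, F.card_Z, F.card_Xe]

theorem card_V : Nat.card (V F B W) = 256 := by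
  have h := Tools.card_mul_eq (Y := V F B W) (K := D.W4)
    (C := D.W4) (B := ⊥) (fun y => ⁅y, t⁆) (fun y hy => (V_le_V2 F B W hy).2) (W4_le_V F B W)
    bot_le ?_ ?_ ?_
  · rw [card_W4 F, card_bot, mul_one] at h
    rw [h]
  · intro y hy y' hy'
    rw [mem_bot, V2_comm_mul F (V_le_V2 F B W hy) (V_le_V2 F B W hy'), inv_mul_cancel]
  · intro q hq
    obtain ⟨y, hy, hyq⟩ := V_onto F B W q hq
    refine ⟨y, hy, ?_⟩
    rw [mem_bot, hyq, inv_mul_cancel]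
  · intro y hy
    rw [mem_bot]
    constructor
    · exact V_cent_t F B W hy
    · intro h1
      exact commutatorElement_eq_one_iff_mul_comm.2 (t_P F B (F.Q1_le (W4_le_Q1 F h1)))

/-- **Step 2 of the growth.** -/
theorem vFacts : VFacts D t W0 (V F B W) where
  le := W0_le_V F B W
  card := card_V F B W
  comm := fun _ hw _ hw' => V_comm F B W hw hw'
  sq := fun _ hw => V_sq F B W hw
  cent_L2 := fun _ hv _ hl => (V_le_V2 F B W hv).1 _ hl
  nl_mem := fun _ hv => nl_V F B W hv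
  Xb_mem := fun _ hx _ hv => Xb_V_W0 F B W hx hv
  comm_t := fun _ hv => (V_le_V2 F B W hv).2
  onto := V_onto F B W
  cent_t := fun _ hv h => V_cent_t F B W hv (commutatorElement_eq_one_iff_mul_comm.2 h)
  t_notMem := t_notMem_V F B W

end Basic

end Cfsg.Agent.GTwoFour.GrowV
end

-- part: GTwoFour/HypOf
section
set_option autoImplicit false

/-!
# S1751, rank one: from the reduction to the contradiction

`EndG.Hyp` in `G` from the reduction, the facts on `L`, and the growth in `X = C_G(Θ)/Z(Θ)`.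
-/

namespace Cfsg.Agent.GTwoFour.HypOf

open Subgroup Cfsg.Agent.GTwoFour.Red Cfsg.Agent.GTwoFour.Lift
open Cfsg.Agent.StdG24 (KK MM mem_KK mem_MM Emb)
open scoped commutatorElement

/-- Four more facts on `L = G₂(4)`, `U = Q1 Xa`. -/
structure EndFacts {L : Type*} [Group L] (D : Iface.Data L) : Prop where
  full_Q1 : ∀ b ∈ D.Q1, b ∉ D.Z → ∀ z ∈ D.Z, ∃ q ∈ D.Q1, ⁅b, q⁆ = z
  cent_U : ∀ u ∈ D.Q1 ⊔ D.Xa, u ∉ D.Q1 → ∀ C : Subgroup L, C ≤ D.Q1 → (∀ q ∈ C, ⁅u, q⁆ ∈ D.Z) →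
    Nat.card C < 256
  card_U : Nat.card (D.Q1 ⊔ D.Xa : Subgroup L) = 2 ^ 12
  odd_A : Odd ((D.Q1 ⊔ D.Xa).relIndex D.A)

section map

variable {L : Type*} [Group L] {G : Type*} [Group G] {φ : L →* G}

theorem mem_map_iff (hφ : Function.Injective φ) {K : Subgroup L} {x : L} : φ x ∈ K.map φ ↔ x ∈ K := by
  constructor
  · rintro ⟨y, hy, e⟩
    rwa [← hφ e]
  · exact fun hx => mem_map_of_mem φ hx

theorem card_map (hφ : Function.Injective φ) (K : Subgroup L) : Nat.card (K.map φ) = Nat.card K :=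
  Nat.card_congr (K.equivMapOfInjective φ hφ).toEquiv.symm

/-- transport along an injective homomorphism -/
theorem EndFacts.map {D : Iface.Data L} (E : EndFacts D) (hφ : Function.Injective φ) :
    EndFacts (D.map φ) where
  full_Q1 := by
    rintro _ ⟨b, hb, rfl⟩ hbZ _ ⟨z, hz, rfl⟩
    obtain ⟨q, hq, e⟩ := E.full_Q1 b hb (fun h => hbZ (mem_map_of_mem φ h)) z hz
    exact ⟨φ q, mem_map_of_mem φ hq, by rw [← map_commutatorElement, e]⟩
  cent_U := by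
    intro u hu huQ C hC hc
    have hu' : u ∈ (D.Q1 ⊔ D.Xa).map φ := by rw [Subgroup.map_sup]; exact hu
    obtain ⟨v, hv, rfl⟩ := hu'
    have h1 : C = (C.comap φ).map φ := by
      rw [map_comap_eq, inf_eq_right.2]
      intro x hx
      obtain ⟨y, _, rfl⟩ := hC hx
      exact ⟨y, rfl⟩
    rw [h1, card_map hφ]
    refine E.cent_U v hv (fun h => huQ (mem_map_of_mem φ h)) (C.comap φ) ?_ ?_
    · intro x hx
      exact (mem_map_iff hφ).1 (hC hx)
    · intro x hx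
      have := hc (φ x) hx
      rw [← map_commutatorElement] at this
      exact (mem_map_iff hφ).1 this
  card_U := by
    have h1 : (D.map φ).Q1 ⊔ (D.map φ).Xa = (D.Q1 ⊔ D.Xa).map φ := (Subgroup.map_sup _ _ _).symm
    rw [h1, card_map hφ, E.card_U]
  odd_A := by
    have h1 : (D.map φ).Q1 ⊔ (D.map φ).Xa = (D.Q1 ⊔ D.Xa).map φ := (Subgroup.map_sup _ _ _).symm
    rw [h1]
    have h2 : (D.map φ).A = D.A.map φ := rfl
    rw [h2, relIndex_map_map_of_injective _ _ hφ]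
    exact E.odd_A

end map

/-- transport of `HFacts` -/
theorem hfacts_map {L : Type*} [Group L] {G : Type*} [Group G] {φ : L →* G} {D : Iface.Data L}
    (E : ChiData.HFacts D) : ChiData.HFacts (D.map φ) where
  h_ns := by
    show φ D.h * φ D.ns = φ D.ns * φ D.h
    rw [← map_mul, E.h_ns, map_mul]
  nl_h := by
    show φ D.nl * φ D.h * (φ D.nl)⁻¹ * φ D.h ∈ D.P.map φ
    rw [← map_inv, ← map_mul, ← map_mul, ← map_mul]
    exact mem_map_of_mem φ E.nl_h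

variable {G : Type*} [Group G]

/-- **Assembly of `EndG.Hyp`** in `G`. -/
theorem hyp_of {D : Iface.Data G} {t : G} {Θ J R : Subgroup G} (F : Iface.Facts D) (E : EndFacts D)
    (T : TCent D.A D.P D.Z Θ t) (X : EndX.RT D.Q1 D.Z J R t) (hRΘ : ∀ r ∈ R, ∀ d ∈ Θ, r * d = d * r) :
    EndG.Hyp D.A D.P D.Q1 (D.Q1 ⊔ D.Xa) D.Z Θ J R t where
  t_sq := T.t_sq
  P_le := F.P_le
  U_le := sup_le F.Q1_le (fun x hx => (F.Q2_le (F.Xa_le hx)).1)
  Q1_le := le_sup_left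
  Z_le := F.Z_le
  comm_A := T.comm_A
  cent_Z := fun a ha h => (F.cent_Z a ha).1 h
  P_Z := fun p hp z hz => (F.cent_Z p (F.P_le hp)).2 hp z hz
  norm_Q1 := F.norm_Q1
  core_P := F.core_P
  comm_Q1 := F.comm_Q1
  cent_Q1Z := F.cent_Q1Z
  center_Q1 := F.center_Q1
  full_Q1 := E.full_Q1
  cent_U := E.cent_U
  gen := by
    intro K hK
    have htc : ∀ a ∈ D.A, a * t = t * a := T.comm_A
    have hZt : ∀ z ∈ D.Z, IsConj t (t * z) := by
      intro z hz
      obtain ⟨w, hw, e⟩ := X.J_onto z hz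
      rw [isConj_iff]
      refine ⟨w, ?_⟩
      have h1 := htc z (F.P_le (F.Q1_le (F.Z_le hz)))
      calc w * t * w⁻¹ = ⁅w, t⁆ * t := by rw [commutatorElement_def]; group
        _ = t * z := by rw [e, h1]
    have hconj : ∀ a ∈ D.A, ∀ x, IsConj t (t * x) → IsConj t (t * (a * x * a⁻¹)) := by
      intro a ha x hx
      refine hx.trans (isConj_iff.2 ⟨a, ?_⟩)
      calc a * (t * x) * a⁻¹ = a * t * x * a⁻¹ := by group
        _ = t * (a * x * a⁻¹) := by rw [htc a ha]; group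
    apply F.gen_Q1
    · intro z hz
      exact hK z (F.Z_le hz) (hZt z hz)
    · intro p hp e he
      apply hK
      · exact F.norm_Q1 p hp e (F.Xe_le he)
      · apply hconj p (F.P_le hp)
        have h1 := hconj D.nl⁻¹ (inv_mem F.nl_mem) _ (hZt _ (F.nl_Xe e he))
        have h2 : D.nl⁻¹ * (D.nl * e * D.nl⁻¹) * D.nl⁻¹⁻¹ = e := by group
        rwa [h2] at h1
  card_Z := F.card_Z
  card_Q1 := by rw [F.card_Q1]; norm_num
  card_U := E.card_U
  odd_A := E.odd_A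
  D_A := T.D_A
  D_t := T.D_t
  D_odd := T.D_odd
  A_norm := T.A_norm
  cent := T.cent
  card_C := T.card_C
  J_le := X.J_le
  Z_le_J := X.Z_le_J
  Q1_le_R := X.Q1_le_R
  card_R := X.card_R
  card_J := X.card_J
  J_sq := X.J_sq
  J_comm := X.J_comm
  J_t := X.J_t
  J_onto := X.J_onto
  R_D := hRΘ
  R_comm := X.R_comm
  R_sq := X.R_sq
  R_t := X.R_t
  R_onto := X.R_onto
  R_inter := X.R_inter
  R_center := X.R_center

variable {L : Type*} [Group L] {D : Iface.Data L} {e : L →* G}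

/-- **The rank one case of S1751.** -/
theorem false_of_red [Finite G] [IsSimpleGroup G] (hG : ¬ IsMulCommutative G) (F : Iface.Facts D)
    (RF : RedFacts D) (E : EndFacts D) (HF : ChiData.HFacts D) (hA : ∀ x, x ∈ D.A)
    (rk : RankOne (KK e)) (h : Emb e) : False := by
  classical
  have hfact : Fact (Nat.Prime 2) := ⟨Nat.prime_two⟩
  obtain ⟨t, Θ, T, htK, C⟩ := exists_tcent hG RF F hA rk h
  obtain ⟨k, hk1, hk2, z, ⟨z0, hz0, rfl⟩, hz1, hkt⟩ := T.fus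
  have O : RedOut D e t Θ :=
    { emb := h
      core := C
      t_mem := htK
      t_ne := T.t_ne
      t_sq := T.t_sq
      fus := ⟨k, hk1, fun z hz => hk2 _ (mem_map_of_mem e hz), z0, hz0,
        fun h1 => hz1 (by rw [h1, map_one]), hkt⟩ }
  have hA' : D.A = ⊤ := by
    rw [eq_top_iff]
    intro x _
    exact hA x
  have FX := O.facts F
  have BX := O.big F RF hA'
  have WX := GrowW.wfacts FX BX
  have VX := GrowV.vFacts FX BX WX
  have RX := GrowR.rFacts FX BX WX VX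
  have X0 := EndX.RT.of_facts FX BX WX VX RX
  set H := XX Θ with hH
  set W0 := GrowW.W0 FX BX with hW0
  set R0 : Subgroup H := GrowR.rGrp FX WX with hR0
  -- the 2-group `R ⟨t⟩`
  set M : Subgroup H := zpowers O.tX ⊔ R0 with hM
  have hR0M : R0 ≤ M := le_sup_right
  have htM : O.tX ∈ M := mem_sup_left (mem_zpowers _)
  have hR0p : IsPGroup 2 R0 := IsPGroup.of_card X0.card_R
  have htp : IsPGroup 2 (zpowers O.tX) := by
    rw [IsPGroup.iff_card, Nat.card_zpowers]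
    have h2 : orderOf O.tX ∣ 2 ^ 1 := orderOf_dvd_of_pow_eq_one (by rw [pow_one, pow_two, X0.t_sq])
    obtain ⟨k, _, hk⟩ := (Nat.dvd_prime_pow Nat.prime_two).1 h2
    exact ⟨k, hk⟩
  have htN : zpowers O.tX ≤ normalizer (R0 : Set H) := by
    rw [zpowers_le, mem_normalizer_iff]
    have ti : O.tX⁻¹ = O.tX := inv_eq_of_mul_eq_one_right X0.t_sq
    intro r
    constructor
    · intro hr; exact X0.tR r hr
    · intro hr
      have h1 := X0.tR _ hr
      have h2 : O.tX * (O.tX * r * O.tX⁻¹) * O.tX⁻¹ = (O.tX * O.tX) * r * (O.tX * O.tX)⁻¹ := by group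
      rw [h2, X0.t_sq] at h1
      simpa using h1
  have hMp : IsPGroup 2 M := htp.to_sup_of_normal_right' hR0p htN
  obtain ⟨ψ, ψi, ψΘ, -, -, ψt, ψe, -⟩ := O.exists_psi M hMp
  have X1 := (X0.subgroupOf M hR0M htM).map ψ ψi
  rw [ψt htM] at X1
  -- identification of `Q1` and `Z`
  have hmap : ∀ K : Subgroup L, IsPGroup 2 K → K.map O.φ ≤ M → ((K.map O.φ).subgroupOf M).map ψ = K.map e := by
    intro K hK hKM
    ext x
    constructor
    · rintro ⟨⟨y, hy⟩, hy', rfl⟩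
      obtain ⟨w, hw, hwy⟩ := mem_subgroupOf.1 hy'
      have hwy' : O.φ w = y := hwy
      subst hwy'
      obtain ⟨n, hn⟩ := hK ⟨w, hw⟩
      rw [ψe w hy ⟨n, by simpa using congrArg Subtype.val hn⟩]
      exact mem_map_of_mem e hw
    · rintro ⟨w, hw, rfl⟩
      obtain ⟨n, hn⟩ := hK ⟨w, hw⟩
      refine ⟨⟨O.φ w, hKM (mem_map_of_mem O.φ hw)⟩, mem_subgroupOf.2 (mem_map_of_mem O.φ hw), ?_⟩
      exact ψe w _ ⟨n, by simpa using congrArg Subtype.val hn⟩
  have hQ2 : IsPGroup 2 D.Q1 := IsPGroup.of_card (n := 10) (by rw [F.card_Q1]; norm_num)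
  have hQM : D.Q1.map O.φ ≤ M := X0.Q1_le_R.trans hR0M
  have hQ : ((D.map O.φ).Q1.subgroupOf M).map ψ = (D.map e).Q1 := hmap D.Q1 hQ2 hQM
  have hZ : ((D.map O.φ).Z.subgroupOf M).map ψ = (D.map e).Z :=
    hmap D.Z (hQ2.to_le F.Z_le) ((map_mono F.Z_le).trans hQM)
  rw [hQ, hZ] at X1
  have hRΘ : ∀ r ∈ (R0.subgroupOf M).map ψ, ∀ d ∈ Θ, r * d = d * r := by
    rintro _ ⟨r, hr, rfl⟩ d hd
    exact ψΘ r d hd
  have hyp := hyp_of ((Iface.Facts.map_iff h.inj).2 F) (E.map h.inj) T X1 hRΘ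
  -- the isomorphism `R0 ≃ R`
  let ε : R0 ≃* (R0.subgroupOf M).map ψ :=
    (subgroupOfEquivOfLe hR0M).symm.trans ((R0.subgroupOf M).equivMapOfInjective ψ ψi)
  have hε : ∀ r : R0, (ε r : G) = ψ ⟨r, hR0M r.2⟩ := fun r => rfl
  obtain ⟨A, iA, χ, hχ1, hχ2⟩ := ChiMap.exists_chi_map FX BX WX VX (hfacts_map HF) (t' := t) ε (by
    intro r s hrs
    rw [hε, hε, ← ψt htM, ← map_inv, ← map_mul, ← map_mul]
    congr 1
    exact Subtype.ext hrs)
  refine EndG.false_of_hyp hyp X1.tR χ ?_ hχ1 (fun d h1 h2 => (hχ2 d h1 h2).le)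
  intro f
  apply TransferTL.map_eq_one_of_simple
  intro hc
  exact hG ⟨⟨hc⟩⟩

end Cfsg.Agent.GTwoFour.HypOf
end

-- part: GTwoFour/Start
section
/-!
# Start of the rank one case of S1751: from the literal hypotheses to `Red.exists_tcent`
-/

set_option autoImplicit false

namespace Cfsg.Agent.GTwoFour.Start

open Subgroup Cfsg.Agent.StdG24
open scoped commutatorElement

/-- a group with `Iface.Facts` and `D.A = ⊤` has trivial centre -/
theorem center_trivial {L : Type*} [Group L] {D : Iface.Data L} (I : Iface.Facts D)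
    (hA : ∀ x, x ∈ D.A) (c : L) (hc : ∀ y, c * y = y * c) : c = 1 := by
  have hcP : c ∈ D.P := (I.cent_Z c (hA c)).1 fun z _ => hc z
  have hcQ : c ∈ D.Q1 := by
    apply I.cent_Q1Z c hcP
    intro q _
    have : ⁅c, q⁆ = 1 := commutatorElement_eq_one_iff_mul_comm.2 (hc q)
    rw [this]
    exact one_mem _
  have hcZ : c ∈ D.Z := I.center_Q1 c hcQ fun q _ => hc q
  apply I.h_Z_fpf c hcZ
  rw [← hc, mul_inv_cancel_right]

theorem exists_ne_one {L : Type*} [Group L] {D : Iface.Data L} (I : Iface.Facts D) :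
    ∃ x : L, x ≠ 1 := by
  by_contra hcon
  push Not at hcon
  have h1 : Nat.card D.Z = 1 := by
    rw [Nat.card_eq_one_iff_unique]
    refine ⟨⟨fun a b => Subtype.ext ?_⟩, ⟨1⟩⟩
    rw [hcon (a : L), hcon (b : L)]
  rw [I.card_Z] at h1
  omega

/-- the model `L` as a group of its own, with the data of helper928 -/
abbrev DL : Iface.Data Mdl.D.A := Mdl.D.res Mdl.facts

theorem facts_DL : Iface.Facts DL := Mdl.facts.res

theorem mem_DL (x : Mdl.D.A) : x ∈ DL.A := mem_top x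

end Cfsg.Agent.GTwoFour.Start
end

-- part: GTwoFour/MdlEndB
section
/-!
# Instances of `HypOf.EndFacts` and `ChiData.HFacts` in the model of `G₂(4)` (S1751)
-/

set_option autoImplicit false

namespace Cfsg.Agent.GTwoFour.Mdl

open Subgroup
open Cfsg.Agent.SporRec.GF4
open Cfsg.Agent.SporRec.G24Code (app)
open Cfsg.Agent.StdG24.Mod6
open scoped commutatorElement

/-! ### `[b, Q1] = Z` -/

/-- check: for `1 ≠ x ∈ X r`, `[x, X s] = X 11` -/
def fullX (r s : Fin 12) : Bool :=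
  allF [0, 1, 2] fun t => allF [0, 1, 2] fun u => anyF [0, 1, 2] fun t' =>
    mulF (xc r t) (xc s t') fun E => mulF E E fun F => eqF F (xc 11 u)

theorem fullX_spec {r s : Fin 12} (h : fullX r s = true) : ∀ x ∈ X r, x ≠ 1 → ∀ z ∈ X 11,
    ∃ q ∈ X s, ⁅x, q⁆ = z := by
  intro x hx hx1 z hz
  rcases X_cases hz with rfl | ⟨u, rfl⟩
  · exact ⟨1, (X s).one_mem, commutatorElement_one_right _⟩
  rcases X_cases hx with rfl | ⟨t, rfl⟩
  · exact absurd rfl hx1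
  have h1 := allF_spec (allF_spec h t (by fin_cases t <;> simp)) u (by fin_cases u <;> simp)
  obtain ⟨t', _, h2⟩ := anyF_spec h1
  rw [mulF_eq, mulF_eq, eqF_iff] at h2
  refine ⟨gx s t', gx_mem_X s t', ?_⟩
  have h3 := ((Cd_gx r t).mul (Cd_gx s t')).mul ((Cd_gx r t).mul (Cd_gx s t'))
  rw [h2] at h3
  have h4 := h3.inj (Cd_gx 11 u)
  rw [commutatorElement_def, gx_inv, gx_inv, ← h4]
  group

/-- if `k` commutes with `n`, then `⁅x n, k⁆ = ⁅x, k⁆` -/
theorem comm_mul_of_comm {G : Type*} [Group G] {x n k : G} (h : n * k = k * n) : ⁅x * n, k⁆ = ⁅x, k⁆ := by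
  have h1 : n * k * n⁻¹ = k := by rw [h, mul_inv_cancel_right]
  calc ⁅x * n, k⁆ = x * (n * k * n⁻¹) * x⁻¹ * k⁻¹ := by rw [commutatorElement_def]; group
    _ = ⁅x, k⁆ := by rw [h1, commutatorElement_def]

theorem full_Q1 : ∀ b ∈ Q1, b ∉ X 11 → ∀ z ∈ X 11, ∃ q ∈ Q1, ⁅b, q⁆ = z := by
  have comm : ∀ {r s : Fin 12}, cmX r s [] = true → ∀ x ∈ X r, ∀ y ∈ X s, x * y = y * x := comm_of_cmX
  intro b hb hbZ z hz
  obtain ⟨x6, h6, n8, hn8, rfl⟩ := hb
  obtain ⟨x8, h8, n9, hn9, rfl⟩ := hn8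
  obtain ⟨x9, h9, w, hw, rfl⟩ := hn9
  obtain ⟨x10, h10, x11, h11, rfl⟩ := hw
  by_cases e6 : x6 = 1
  · subst e6
    by_cases e8 : x8 = 1
    · subst e8
      by_cases e9 : x9 = 1
      · subst e9
        by_cases e10 : x10 = 1
        · subst e10
          exact absurd (by simpa using h11) hbZ
        · obtain ⟨q, hq, e⟩ := fullX_spec (r := 10) (s := 6) (by decide +kernel) x10 h10 e10 z hz
          refine ⟨q, Q1_rs 6 (by simp) hq, ?_⟩
          rw [one_mul, one_mul, one_mul, comm_mul_of_comm, e]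
          exact comm (r := 11) (s := 6) (by decide +kernel) _ h11 _ hq
      · obtain ⟨q, hq, e⟩ := fullX_spec (r := 9) (s := 8) (by decide +kernel) x9 h9 e9 z hz
        refine ⟨q, Q1_rs 8 (by simp) hq, ?_⟩
        rw [one_mul, one_mul, comm_mul_of_comm, e]
        rw [mul_assoc, comm (r := 11) (s := 8) (by decide +kernel) _ h11 _ hq, ← mul_assoc,
          comm (r := 10) (s := 8) (by decide +kernel) _ h10 _ hq, mul_assoc]
    · obtain ⟨q, hq, e⟩ := fullX_spec (r := 8) (s := 9) (by decide +kernel) x8 h8 e8 z hz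
      refine ⟨q, Q1_rs 9 (by simp) hq, ?_⟩
      rw [one_mul, comm_mul_of_comm, e]
      have c11 := comm (r := 11) (s := 9) (by decide +kernel) _ h11 _ hq
      have c10 := comm (r := 10) (s := 9) (by decide +kernel) _ h10 _ hq
      have c9 := comm (r := 9) (s := 9) (by decide +kernel) _ h9 _ hq
      calc x9 * (x10 * x11) * q = x9 * (x10 * (x11 * q)) := by group
        _ = x9 * (x10 * q) * x11 := by rw [c11]; group
        _ = (x9 * q) * x10 * x11 := by rw [c10]; group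
        _ = _ := by rw [c9]; group
  · obtain ⟨q, hq, e⟩ := fullX_spec (r := 6) (s := 10) (by decide +kernel) x6 h6 e6 z hz
    refine ⟨q, Q1_rs 10 (by simp) hq, ?_⟩
    rw [comm_mul_of_comm, e]
    have c11 := comm (r := 11) (s := 10) (by decide +kernel) _ h11 _ hq
    have c10 := comm (r := 10) (s := 10) (by decide +kernel) _ h10 _ hq
    have c9 := comm (r := 9) (s := 10) (by decide +kernel) _ h9 _ hq
    have c8 := comm (r := 8) (s := 10) (by decide +kernel) _ h8 _ hq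
    calc x8 * (x9 * (x10 * x11)) * q = x8 * (x9 * (x10 * (x11 * q))) := by group
      _ = x8 * (x9 * (x10 * q)) * x11 := by rw [c11]; group
      _ = x8 * (x9 * q) * x10 * x11 := by rw [c10]; group
      _ = (x8 * q) * x9 * x10 * x11 := by rw [c9]; group
      _ = _ := by rw [c8]; group

/-! ### Centralisers on `Q1 / Z` -/

theorem cent_U_check : allN [6, 8, 9, 10, 11] idC (fun C => allF [0, 1, 2] fun t =>
    impF (cmZ C (xc 7 t)) (siftF [8, 9, 10, 11] C)) = true := by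
  decide +kernel

theorem cent_U1 : ∀ q ∈ Q1, ∀ x ∈ X 7, x ≠ 1 → ⁅q, x⁆ ∈ X 11 → q ∈ N8 := by
  intro q hq x hx hx1 h
  rcases X_cases hx with rfl | ⟨t, rfl⟩
  · exact absurd rfl hx1
  obtain ⟨C, hC, h1⟩ := allN_one cent_U_check q (Q1_PS hq)
  have h2 := allF_spec h1 t (by fin_cases t <;> simp)
  exact siftF_sound N8_rs hC (impF_spec h2 (cmZ_of hC (Cd_gx 7 t) h))

/-- some element of `X 8` is moved modulo `Z` by `x ∈ X 7` -/
theorem exists_moved : ∀ x ∈ X 7, x ≠ 1 → ∃ q ∈ X 8, ⁅q, x⁆ ∉ X 11 := by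
  intro x hx hx1
  rcases X_cases hx with rfl | ⟨t, rfl⟩
  · exact absurd rfl hx1
  have hc : (allF [0, 1, 2] fun t => anyF [0, 1, 2] fun t' => impF (cmZ (xc 8 t') (xc 7 t)) false) = true := by
    decide +kernel
  obtain ⟨t', _, h2⟩ := anyF_spec (allF_spec hc t (by fin_cases t <;> simp))
  refine ⟨gx 8 t', gx_mem_X 8 t', fun h => ?_⟩
  exact absurd (impF_spec h2 (cmZ_of (Cd_gx 8 t') (Cd_gx 7 t) h)) (by decide)


/-- `U = Q1 Xa` -/
theorem U_aux : ∀ k ∈ X 7, ∀ n ∈ Q1, k * n * k⁻¹ ∈ Q1 := fun k hk => conj_Q1 (by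
  intro r hr
  simp only [List.mem_cons, List.not_mem_nil, or_false] at hr
  rcases hr with rfl | rfl | rfl | rfl | rfl
  · exact cj [6, 8, 9, 10, 11] (by decide +kernel) Q1_rs (Q1_rs 6 (by simp)) k hk
  · exact cj [6, 8, 9, 10, 11] (by decide +kernel) Q1_rs (Q1_rs 8 (by simp)) k hk
  · exact cj [6, 8, 9, 10, 11] (by decide +kernel) Q1_rs (Q1_rs 9 (by simp)) k hk
  · exact cj [6, 8, 9, 10, 11] (by decide +kernel) Q1_rs (Q1_rs 10 (by simp)) k hk
  · exact cj [6, 8, 9, 10, 11] (by decide +kernel) Q1_rs (Q1_rs 11 (by simp)) k hk)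

def U : Subgroup GL6 := mulSub (X 7) Q1 U_aux

theorem sup_eq : Q1 ⊔ X 7 = U :=
  le_antisymm (sup_le le_right le_left) (mulSub_le le_sup_right le_sup_left)

theorem disj71 : ∀ g ∈ X 7, g ∈ Q1 → g = 1 :=
  disj (fun _ h => Q1_PS h) (by decide +kernel) (by decide +kernel)

theorem card_U : Nat.card (Q1 ⊔ X 7 : Subgroup GL6) = 2 ^ 12 := by
  rw [sup_eq]
  exact (card_mulSub disj71).trans (by rw [X_nat_card, card_Q1]; norm_num)

theorem U_le_L : Q1 ⊔ X 7 ≤ L :=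
  sup_le (Q1_le_P.trans P_le_L) (X_le_L 7)

theorem odd_A : Odd ((Q1 ⊔ X 7).relIndex L) := by
  have h1 := Subgroup.relIndex_mul_relIndex ⊥ (Q1 ⊔ X 7) L bot_le U_le_L
  rw [Subgroup.relIndex_bot_left, Subgroup.relIndex_bot_left, card_U,
    Cfsg.Agent.StdG24.Ord6.card_L] at h1
  rw [Nat.odd_iff]
  omega

theorem cent_U : ∀ u ∈ Q1 ⊔ X 7, u ∉ Q1 → ∀ C : Subgroup GL6, C ≤ Q1 → (∀ q ∈ C, ⁅u, q⁆ ∈ X 11) →
    Nat.card C < 256 := by
  intro u hu huQ C hC hc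
  rw [sup_eq] at hu
  obtain ⟨x, hx, q0, hq0, rfl⟩ := hu
  have hx1 : x ≠ 1 := by
    rintro rfl
    exact huQ (by rwa [one_mul])
  have hZQ : X 11 ≤ Q1 := Q1_rs 11 (by simp)
  -- `[q, x] ∈ Z` for `q ∈ C`
  have h1 : ∀ q ∈ C, ⁅q, x⁆ ∈ X 11 := by
    intro q hq
    have e1 := hc q hq
    have e2 : ⁅x * q0, q⁆ = x * ⁅q0, q⁆ * x⁻¹ * ⁅x, q⁆ := by
      simp only [commutatorElement_def]; group
    have e3 : x * ⁅q0, q⁆ * x⁻¹ ∈ X 11 := by
      rw [comm_of_cmX (r := 7) (s := 11) (by decide +kernel) x hx _ (comm_Q1 q0 hq0 q (hC hq)),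
        mul_inv_cancel_right]
      exact comm_Q1 q0 hq0 q (hC hq)
    rw [e2] at e1
    have e4 : ⁅x, q⁆ ∈ X 11 := by
      have := (X 11).mul_mem ((X 11).inv_mem e3) e1
      rwa [inv_mul_cancel_left] at this
    rw [← commutatorElement_inv]
    exact (X 11).inv_mem e4
  have h2 : C ≤ N8 := fun q hq => cent_U1 q (hC hq) x hx hx1 (h1 q hq)
  obtain ⟨q, hq, hqn⟩ := exists_moved x hx hx1
  have h3 : C ≠ N8 := fun e => hqn (h1 q (by rw [e]; exact X8_le_N8 hq))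
  have h4 : C < N8 := lt_of_le_of_ne h2 h3
  have h5 : Finite N8 := Nat.finite_of_card_ne_zero (by rw [card_N8]; norm_num)
  rw [← card_N8]
  exact Set.Finite.card_lt_card (Set.toFinite (N8 : Set GL6)) h4

theorem h_ns : Mdl.h * ns = ns * Mdl.h := by
  rw [Mdl.h, ns, ← ev_append, ← ev_append]
  exact ev_eq_of (by decide +kernel)

theorem nl_h : nl * Mdl.h * nl⁻¹ * Mdl.h ∈ P := by
  refine mem_P_of_comm (L.mul_mem (L.mul_mem (L.mul_mem nl_mem_L h_mem_L) (L.inv_mem nl_mem_L)) h_mem_L) ?_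
  rw [nl_inv, nl, Mdl.h, ← ev_singleton (11, 0), ← ev_append, ← ev_append, ← ev_append, ← ev_append,
    ← ev_append]
  exact ev_eq_of (by decide +kernel)

/-- the additional facts in `GL6` -/
theorem endFacts : HypOf.EndFacts D where
  full_Q1 := full_Q1
  cent_U := cent_U
  card_U := card_U
  odd_A := odd_A

theorem hFacts : ChiData.HFacts D where
  h_ns := h_ns
  nl_h := nl_h

end Cfsg.Agent.GTwoFour.Mdl

namespace Cfsg.Agent.GTwoFour.HypOf

open Subgroup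
open scoped commutatorElement

/-- restriction of the additional facts to `D.A` -/
theorem EndFacts.res {H : Type*} [Group H] {D : Iface.Data H} (E : EndFacts D) (F : Iface.Facts D) :
    EndFacts (D.res F) := by
  have hQ1 : D.Q1 ≤ D.A := F.Q1_le.trans F.P_le
  have hXa : D.Xa ≤ D.A := F.Xa_le.trans (F.Q2_le.trans (inf_le_left.trans F.P_le))
  have hsup : (D.res F).Q1 ⊔ (D.res F).Xa = (D.Q1 ⊔ D.Xa).subgroupOf D.A := by
    apply (Subgroup.map_injective D.A.subtype_injective)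
    rw [Subgroup.map_sup, subgroupOf_map_subtype, inf_eq_left.2 (sup_le hQ1 hXa)]
    change (D.Q1.subgroupOf D.A).map D.A.subtype ⊔ (D.Xa.subgroupOf D.A).map D.A.subtype = _
    rw [subgroupOf_map_subtype, subgroupOf_map_subtype, inf_eq_left.2 hQ1, inf_eq_left.2 hXa]
  refine ⟨?_, ?_, ?_, ?_⟩
  · rintro ⟨b, hbA⟩ hb hbZ ⟨z, hzA⟩ hz
    obtain ⟨q, hq, e⟩ := E.full_Q1 b hb hbZ z hz
    exact ⟨⟨q, hQ1 hq⟩, hq, Subtype.ext e⟩
  · intro u hu huQ C hC hc
    rw [hsup] at hu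
    have h1 := E.cent_U u.1 hu huQ (C.map D.A.subtype) ?_ ?_
    · rwa [card_map D.A.subtype_injective] at h1
    · rintro _ ⟨c, hcC, rfl⟩
      exact hC hcC
    · rintro _ ⟨c, hcC, rfl⟩
      exact hc c hcC
  · rw [hsup, ← E.card_U, ← card_map D.A.subtype_injective, subgroupOf_map_subtype,
      inf_eq_left.2 (sup_le hQ1 hXa)]
  · have h2 : (D.res F).A = D.A.subgroupOf D.A := (Subgroup.subgroupOf_self _).symm
    rw [hsup, h2]
    have h3 := E.odd_A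
    rwa [← Subgroup.relIndex_map_map_of_injective _ _ D.A.subtype_injective, subgroupOf_map_subtype,
      subgroupOf_map_subtype, inf_eq_left.2 (sup_le hQ1 hXa), inf_idem]

/-- restriction of `HFacts` -/
theorem hfacts_res {H : Type*} [Group H] {D : Iface.Data H} (E : ChiData.HFacts D) (F : Iface.Facts D) :
    ChiData.HFacts (D.res F) where
  h_ns := Subtype.ext E.h_ns
  nl_h := E.nl_h

end Cfsg.Agent.GTwoFour.HypOf

namespace Cfsg.Agent.GTwoFour.Start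

theorem endFacts_DL : HypOf.EndFacts DL := Mdl.endFacts.res Mdl.facts

theorem hFacts_DL : ChiData.HFacts DL := HypOf.hfacts_res Mdl.hFacts Mdl.facts

end Cfsg.Agent.GTwoFour.Start
end

private theorem dce_9fbcbd21e455 : _root_.True := by
  try have : _root_.True := by simp only [_root_.Cfsg.Agent.GTwoFour.GrowW.K1.eq_1]
  try have : _root_.True := by simp only [_root_.Cfsg.Agent.GTwoFour.Lift.RedOut.tX.congr_simp]
  try have : _root_.True := by simp only [_root_.Cfsg.Agent.GTwoFour.GrowR.rGrp.congr_simp]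
  try have : _root_.True := by simp only [_root_.Cfsg.Agent.GTwoFour.ChiData.Y2.eq_1]
  try have : _root_.True := by simp only [_root_.Cfsg.Agent.GTwoFour.Lift.RedOut.tX.eq_1]
  try have : _root_.True := by simp only [_root_.Cfsg.Agent.GTwoFour.ChiData.Y1.eq_1]
  try have : _root_.True := by simp only [_root_.Cfsg.Agent.GTwoFour.GrowW.W.eq_1]
  exact _root_.True.intro
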