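import Cfsg.Agent.GTwoFour.RedHyp_mg_m3
import Cfsg.Agent.FastGrp
import Cfsg.Agent.Prune
set_option linter.all false
open scoped Cfsg.Agent.FastGrp

/-!
# `G₂(4)` in dimension six: the involutions of a Sylow 2-subgroup

Every involution of the Sylow 2-subgroup `U = X₇ Q1` is conjugate to `x₁₁(1)` (long root element) or to `x₉(1)` (short
root element): exhaustive search.
-/

set_option autoImplicit false
set_option linter.unusedVariables false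
set_option Elab.async false

namespace Cfsg.Agent.GTwoFour.MdlInvChk

open Cfsg.Agent.SporRec.GF4
open Cfsg.Agent.StdG24.Mod6
open Cfsg.Agent.StdG24.Ord6 (AL exists_AL e0 e1 card_L)
open Cfsg.Agent.GTwoFour.Mdl

/-! ### The Sylow 2-subgroup -/

/-- `U = X_a Q1` -/
def U : Subgroup GL6 := mulSub (X 7) Q1 X7_Q1

theorem card_U : Nat.card U = 4096 :=
  (card_mulSub fun g h7 hQ => S_Q1_disj g (X7_le_S h7) hQ).trans (by rw [X_nat_card, card_Q1])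

theorem U_le_L : U ≤ L := mulSub_le (X_le_L 7) Q1_le_L

theorem U_PS {g : GL6} (h : g ∈ U) : g ∈ PS [7, 6, 8, 9, 10, 11] := by
  obtain ⟨x, hx, n, hn, rfl⟩ := h
  exact ⟨x, hx, n, Q1_PS hn, rfl⟩

/-- words of conjugating elements -/
def VL : List Wd := [
  [],
  [(6, 0), (7, 0)],
  [(6, 1), (7, 1)],
  [(6, 2), (7, 2)],
  [(8, 0), (9, 0)],
  [(8, 1), (9, 1)],
  [(8, 2), (9, 2)],
  [(7, 0), (9, 0)],
  [(7, 0), (9, 1)],
  [(7, 0), (9, 2)],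
  [(7, 1), (6, 0)],
  [(7, 1), (6, 1)],
  [(7, 1), (6, 2)],
  [(7, 2), (8, 0), (9, 1)],
  [(7, 2), (8, 1), (9, 2)],
  [(7, 2), (8, 2), (9, 0)],
  [(7, 0), (8, 0)],
  [(7, 0), (8, 1)],
  [(7, 0), (8, 2)],
  [(7, 1), (8, 0), (9, 2)],
  [(7, 1), (8, 1), (9, 0)],
  [(7, 1), (8, 2), (9, 1)],
  [(10, 0)],
  [(10, 1)],
  [(10, 2)],
  [(6, 0), (9, 0)],
  [(6, 0), (9, 1)],
  [(6, 0), (9, 2)],
  [(6, 0), (8, 0)],
  [(6, 0), (8, 1)],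
  [(6, 0), (8, 2)],
  [(6, 1), (9, 0)],
  [(6, 1), (9, 1)],
  [(6, 1), (9, 2)],
  [(6, 1), (8, 0)],
  [(6, 1), (8, 1)],
  [(6, 1), (8, 2)],
  [(6, 2), (9, 0)],
  [(6, 2), (9, 1)],
  [(6, 2), (9, 2)],
  [(6, 2), (8, 0)],
  [(6, 2), (8, 1)],
  [(6, 2), (8, 2)],
  [(7, 2), (10, 0)],
  [(7, 2), (10, 1)],
  [(7, 2), (10, 2)],
  [(6, 0), (7, 1)],
  [(6, 0), (7, 2)],
  [(6, 1), (7, 0)],
  [(6, 1), (7, 2)],
  [(6, 2), (7, 0)],
  [(6, 2), (7, 1)],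
  [(6, 0), (8, 0), (9, 1)],
  [(6, 0), (8, 0), (9, 2)],
  [(6, 0), (8, 1), (9, 0)],
  [(6, 0), (8, 1), (9, 1)],
  [(6, 0), (8, 2), (9, 0)],
  [(6, 0), (8, 2), (9, 2)],
  [(6, 1), (8, 0), (9, 0)],
  [(6, 1), (8, 0), (9, 1)],
  [(6, 1), (8, 1), (9, 0)],
  [(6, 1), (8, 1), (9, 2)],
  [(6, 1), (8, 2), (9, 1)],
  [(6, 1), (8, 2), (9, 2)],
  [(6, 2), (8, 0), (9, 0)],
  [(6, 2), (8, 0), (9, 2)],
  [(6, 2), (8, 1), (9, 1)],
  [(6, 2), (8, 1), (9, 2)],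
  [(6, 2), (8, 2), (9, 0)],
  [(6, 2), (8, 2), (9, 1)]]

/-- the codes of the words of `VL` and of their inverses -/
def VC : List (List ℕ × List ℕ) := [
  ([1, 2, 4, 8, 16, 32, 64, 128, 256, 512, 1024, 2048],
    [1, 2, 4, 8, 16, 32, 64, 128, 256, 512, 1024, 2048]),
  ([1, 2, 5, 10, 20, 40, 84, 168, 320, 640, 1344, 2688],
    [1, 2, 5, 10, 21, 42, 80, 160, 336, 672, 1280, 2560]),
  ([1, 2, 6, 11, 24, 44, 116, 152, 384, 704, 1728, 2880],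
    [1, 2, 6, 11, 27, 45, 112, 144, 400, 736, 1536, 2816]),
  ([1, 2, 7, 9, 28, 36, 100, 184, 448, 576, 1920, 2496],
    [1, 2, 7, 9, 30, 39, 96, 176, 464, 608, 1792, 2304]),
  ([1, 2, 4, 8, 17, 34, 68, 136, 277, 554, 1089, 2178],
    [1, 2, 4, 8, 17, 34, 68, 136, 276, 552, 1093, 2186]),
  ([1, 2, 4, 8, 18, 35, 72, 140, 303, 565, 1155, 2241],
    [1, 2, 4, 8, 18, 35, 72, 140, 300, 564, 1167, 2245]),
  ([1, 2, 4, 8, 19, 33, 76, 132, 314, 543, 1218, 2115],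
    [1, 2, 4, 8, 19, 33, 76, 132, 312, 540, 1226, 2127]),
  ([1, 2, 5, 10, 16, 32, 85, 170, 272, 544, 1281, 2562],
    [1, 2, 5, 10, 16, 32, 84, 168, 272, 544, 1297, 2594]),
  ([1, 2, 5, 10, 16, 32, 90, 175, 288, 560, 1283, 2561],
    [1, 2, 5, 10, 16, 32, 88, 172, 288, 560, 1315, 2609]),
  ([1, 2, 5, 10, 16, 32, 95, 165, 304, 528, 1282, 2563],
    [1, 2, 5, 10, 16, 32, 92, 164, 304, 528, 1330, 2579]),
  ([1, 2, 6, 11, 22, 43, 112, 144, 368, 656, 1536, 2816],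
    [1, 2, 6, 11, 20, 40, 124, 148, 320, 640, 1664, 3008]),
  ([1, 2, 6, 11, 27, 45, 112, 144, 400, 736, 1536, 2816],
    [1, 2, 6, 11, 24, 44, 116, 152, 384, 704, 1728, 2880]),
  ([1, 2, 6, 11, 29, 38, 112, 144, 480, 624, 1536, 2816],
    [1, 2, 6, 11, 28, 36, 120, 156, 448, 576, 1600, 2944]),
  ([1, 2, 7, 9, 17, 34, 105, 190, 293, 570, 1891, 2481],
    [1, 2, 7, 9, 17, 34, 106, 191, 292, 568, 1879, 2473]),
  ([1, 2, 7, 9, 18, 35, 110, 183, 319, 533, 1970, 2515],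
    [1, 2, 7, 9, 18, 35, 111, 181, 316, 532, 1966, 2551]),
  ([1, 2, 7, 9, 19, 33, 103, 185, 282, 559, 2001, 2402],
    [1, 2, 7, 9, 19, 33, 101, 186, 280, 556, 2041, 2398]),
  ([1, 2, 5, 10, 17, 34, 80, 160, 261, 522, 1360, 2720],
    [1, 2, 5, 10, 17, 34, 81, 162, 260, 520, 1348, 2696]),
  ([1, 2, 5, 10, 18, 35, 80, 160, 271, 517, 1440, 2800],
    [1, 2, 5, 10, 18, 35, 82, 163, 268, 516, 1420, 2756]),
  ([1, 2, 5, 10, 19, 33, 80, 160, 266, 527, 1520, 2640],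
    [1, 2, 5, 10, 19, 33, 83, 161, 264, 524, 1480, 2636]),
  ([1, 2, 6, 11, 17, 34, 125, 150, 309, 538, 1650, 2963],
    [1, 2, 6, 11, 17, 34, 127, 149, 308, 536, 1622, 2987]),
  ([1, 2, 6, 11, 18, 35, 118, 155, 287, 549, 1681, 3042],
    [1, 2, 6, 11, 18, 35, 117, 154, 284, 548, 1709, 3062]),
  ([1, 2, 6, 11, 19, 33, 123, 157, 298, 575, 1763, 2929],
    [1, 2, 6, 11, 19, 33, 122, 159, 296, 572, 1787, 2909]),
  ([1, 2, 4, 8, 16, 32, 65, 130, 256, 512, 1040, 2080],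
    [1, 2, 4, 8, 16, 32, 65, 130, 256, 512, 1040, 2080]),
  ([1, 2, 4, 8, 16, 32, 66, 131, 256, 512, 1056, 2096],
    [1, 2, 4, 8, 16, 32, 66, 131, 256, 512, 1056, 2096]),
  ([1, 2, 4, 8, 16, 32, 67, 129, 256, 512, 1072, 2064],
    [1, 2, 4, 8, 16, 32, 67, 129, 256, 512, 1072, 2064]),
  ([1, 2, 4, 8, 20, 40, 68, 136, 340, 680, 1025, 2050],
    [1, 2, 4, 8, 20, 40, 68, 136, 340, 680, 1025, 2050]),
  ([1, 2, 4, 8, 20, 40, 72, 140, 360, 700, 1027, 2049],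
    [1, 2, 4, 8, 20, 40, 72, 140, 360, 700, 1027, 2049]),
  ([1, 2, 4, 8, 20, 40, 76, 132, 380, 660, 1026, 2051],
    [1, 2, 4, 8, 20, 40, 76, 132, 380, 660, 1026, 2051]),
  ([1, 2, 4, 8, 21, 42, 64, 128, 324, 648, 1088, 2176],
    [1, 2, 4, 8, 21, 42, 64, 128, 324, 648, 1088, 2176]),
  ([1, 2, 4, 8, 22, 43, 64, 128, 332, 644, 1152, 2240],
    [1, 2, 4, 8, 22, 43, 64, 128, 332, 644, 1152, 2240]),
  ([1, 2, 4, 8, 23, 41, 64, 128, 328, 652, 1216, 2112],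
    [1, 2, 4, 8, 23, 41, 64, 128, 328, 652, 1216, 2112]),
  ([1, 2, 4, 8, 24, 44, 68, 136, 408, 748, 1025, 2050],
    [1, 2, 4, 8, 24, 44, 68, 136, 408, 748, 1025, 2050]),
  ([1, 2, 4, 8, 24, 44, 72, 140, 428, 756, 1027, 2049],
    [1, 2, 4, 8, 24, 44, 72, 140, 428, 756, 1027, 2049]),
  ([1, 2, 4, 8, 24, 44, 76, 132, 436, 728, 1026, 2051],
    [1, 2, 4, 8, 24, 44, 76, 132, 436, 728, 1026, 2051]),
  ([1, 2, 4, 8, 25, 46, 64, 128, 388, 712, 1088, 2176],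
    [1, 2, 4, 8, 25, 46, 64, 128, 388, 712, 1088, 2176]),
  ([1, 2, 4, 8, 26, 47, 64, 128, 396, 708, 1152, 2240],
    [1, 2, 4, 8, 26, 47, 64, 128, 396, 708, 1152, 2240]),
  ([1, 2, 4, 8, 27, 45, 64, 128, 392, 716, 1216, 2112],
    [1, 2, 4, 8, 27, 45, 64, 128, 392, 716, 1216, 2112]),
  ([1, 2, 4, 8, 28, 36, 68, 136, 476, 612, 1025, 2050],
    [1, 2, 4, 8, 28, 36, 68, 136, 476, 612, 1025, 2050]),
  ([1, 2, 4, 8, 28, 36, 72, 140, 484, 632, 1027, 2049],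
    [1, 2, 4, 8, 28, 36, 72, 140, 484, 632, 1027, 2049]),
  ([1, 2, 4, 8, 28, 36, 76, 132, 504, 604, 1026, 2051],
    [1, 2, 4, 8, 28, 36, 76, 132, 504, 604, 1026, 2051]),
  ([1, 2, 4, 8, 29, 38, 64, 128, 452, 584, 1088, 2176],
    [1, 2, 4, 8, 29, 38, 64, 128, 452, 584, 1088, 2176]),
  ([1, 2, 4, 8, 30, 39, 64, 128, 460, 580, 1152, 2240],
    [1, 2, 4, 8, 30, 39, 64, 128, 460, 580, 1152, 2240]),
  ([1, 2, 4, 8, 31, 37, 64, 128, 456, 588, 1216, 2112],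
    [1, 2, 4, 8, 31, 37, 64, 128, 456, 588, 1216, 2112]),
  ([1, 2, 7, 9, 16, 32, 97, 178, 256, 512, 1808, 2336],
    [1, 2, 7, 9, 16, 32, 97, 178, 256, 512, 1808, 2336]),
  ([1, 2, 7, 9, 16, 32, 98, 179, 256, 512, 1824, 2352],
    [1, 2, 7, 9, 16, 32, 98, 179, 256, 512, 1824, 2352]),
  ([1, 2, 7, 9, 16, 32, 99, 177, 256, 512, 1840, 2320],
    [1, 2, 7, 9, 16, 32, 99, 177, 256, 512, 1840, 2320]),
  ([1, 2, 6, 11, 20, 40, 124, 148, 320, 640, 1664, 3008],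
    [1, 2, 6, 11, 22, 43, 112, 144, 368, 656, 1536, 2816]),
  ([1, 2, 7, 9, 20, 40, 104, 188, 320, 640, 1984, 2368],
    [1, 2, 7, 9, 23, 41, 96, 176, 352, 688, 1792, 2304]),
  ([1, 2, 5, 10, 24, 44, 88, 172, 384, 704, 1408, 2752],
    [1, 2, 5, 10, 26, 47, 80, 160, 416, 752, 1280, 2560]),
  ([1, 2, 7, 9, 24, 44, 108, 180, 384, 704, 1856, 2432],
    [1, 2, 7, 9, 25, 46, 96, 176, 432, 720, 1792, 2304]),
  ([1, 2, 5, 10, 28, 36, 92, 164, 448, 576, 1472, 2624],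
    [1, 2, 5, 10, 31, 37, 80, 160, 496, 592, 1280, 2560]),
  ([1, 2, 6, 11, 28, 36, 120, 156, 448, 576, 1600, 2944],
    [1, 2, 6, 11, 29, 38, 112, 144, 480, 624, 1536, 2816]),
  ([1, 2, 4, 8, 21, 42, 72, 140, 366, 695, 1091, 2177],
    [1, 2, 4, 8, 21, 42, 72, 140, 364, 692, 1099, 2189]),
  ([1, 2, 4, 8, 21, 42, 76, 132, 379, 669, 1090, 2179],
    [1, 2, 4, 8, 21, 42, 76, 132, 376, 668, 1102, 2183]),
  ([1, 2, 4, 8, 22, 43, 68, 136, 346, 687, 1153, 2242],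
    [1, 2, 4, 8, 22, 43, 68, 136, 344, 684, 1161, 2254]),
  ([1, 2, 4, 8, 22, 43, 72, 140, 359, 697, 1155, 2241],
    [1, 2, 4, 8, 22, 43, 72, 140, 356, 696, 1167, 2245]),
  ([1, 2, 4, 8, 23, 41, 68, 136, 351, 677, 1217, 2114],
    [1, 2, 4, 8, 23, 41, 68, 136, 348, 676, 1229, 2118]),
  ([1, 2, 4, 8, 23, 41, 76, 132, 374, 667, 1218, 2115],
    [1, 2, 4, 8, 23, 41, 76, 132, 372, 664, 1226, 2127]),
  ([1, 2, 4, 8, 25, 46, 68, 136, 413, 742, 1089, 2178],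
    [1, 2, 4, 8, 25, 46, 68, 136, 412, 740, 1093, 2186]),
  ([1, 2, 4, 8, 25, 46, 72, 140, 426, 767, 1091, 2177],
    [1, 2, 4, 8, 25, 46, 72, 140, 424, 764, 1099, 2189]),
  ([1, 2, 4, 8, 26, 47, 68, 136, 406, 747, 1153, 2242],
    [1, 2, 4, 8, 26, 47, 68, 136, 404, 744, 1161, 2254]),
  ([1, 2, 4, 8, 26, 47, 76, 132, 441, 734, 1154, 2243],
    [1, 2, 4, 8, 26, 47, 76, 132, 440, 732, 1158, 2251]),
  ([1, 2, 4, 8, 27, 45, 72, 140, 421, 762, 1219, 2113],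
    [1, 2, 4, 8, 27, 45, 72, 140, 420, 760, 1223, 2121]),
  ([1, 2, 4, 8, 27, 45, 76, 132, 446, 727, 1218, 2115],
    [1, 2, 4, 8, 27, 45, 76, 132, 444, 724, 1226, 2127]),
  ([1, 2, 4, 8, 29, 38, 68, 136, 473, 622, 1089, 2178],
    [1, 2, 4, 8, 29, 38, 68, 136, 472, 620, 1093, 2186]),
  ([1, 2, 4, 8, 29, 38, 76, 132, 511, 597, 1090, 2179],
    [1, 2, 4, 8, 29, 38, 76, 132, 508, 596, 1102, 2183]),
  ([1, 2, 4, 8, 30, 39, 72, 140, 491, 637, 1155, 2241],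
    [1, 2, 4, 8, 30, 39, 72, 140, 488, 636, 1167, 2245]),
  ([1, 2, 4, 8, 30, 39, 76, 132, 501, 602, 1154, 2243],
    [1, 2, 4, 8, 30, 39, 76, 132, 500, 600, 1158, 2251]),
  ([1, 2, 4, 8, 31, 37, 68, 136, 471, 617, 1217, 2114],
    [1, 2, 4, 8, 31, 37, 68, 136, 468, 616, 1229, 2118]),
  ([1, 2, 4, 8, 31, 37, 72, 140, 493, 630, 1219, 2113],
    [1, 2, 4, 8, 31, 37, 72, 140, 492, 628, 1223, 2121])]

theorem VL_codes : VL.map (fun w => (cw w, cw w.reverse)) = VC := by decide +kernel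

/-- words `t`, `a`, `r` with `a t a⁻¹ = r` -/
def TL : List (Wd × Wd × Wd) := [
  ([(6, 0)], [(1, 0), (10, 0)], [(11, 0)]),
  ([(6, 1)], [(1, 1), (10, 2)], [(11, 0)]),
  ([(6, 2)], [(1, 2), (10, 1)], [(11, 0)]),
  ([(10, 0)], [(5, 0), (6, 0)], [(11, 0)]),
  ([(10, 1)], [(5, 1), (6, 2)], [(11, 0)]),
  ([(10, 2)], [(5, 2), (6, 1)], [(11, 0)]),
  ([(11, 0)], [], [(11, 0)]),
  ([(11, 1)], [(0, 0), (11, 1), (0, 1)], [(11, 0)]),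
  ([(11, 2)], [(0, 0), (11, 2), (0, 2)], [(11, 0)]),
  ([(7, 0)], [(3, 0), (8, 0), (3, 0)], [(9, 0)]),
  ([(7, 1)], [(3, 1), (8, 2), (3, 1)], [(9, 0)]),
  ([(7, 2)], [(3, 2), (8, 1), (3, 2)], [(9, 0)]),
  ([(8, 0)], [(4, 0), (7, 0), (4, 0)], [(9, 0)]),
  ([(8, 1)], [(4, 1), (7, 2), (4, 1)], [(9, 0)]),
  ([(8, 2)], [(4, 2), (7, 1), (4, 2)], [(9, 0)]),
  ([(9, 0)], [], [(9, 0)]),
  ([(9, 1)], [(0, 0), (11, 2), (0, 2)], [(9, 0)]),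
  ([(9, 2)], [(0, 0), (11, 1), (0, 1)], [(9, 0)]),
  ([(6, 0), (9, 0)], [(4, 0), (8, 0)], [(9, 0)]),
  ([(6, 0), (9, 1)], [(1, 0), (4, 2), (10, 2), (1, 2)], [(9, 0)]),
  ([(6, 0), (9, 2)], [(1, 0), (4, 1), (10, 1), (1, 1)], [(9, 0)]),
  ([(6, 1), (9, 0)], [(4, 2), (8, 2)], [(9, 0)]),
  ([(6, 1), (9, 1)], [(1, 0), (9, 1), (10, 2), (1, 2)], [(9, 0)]),
  ([(6, 1), (9, 2)], [(1, 1), (9, 2), (10, 0), (1, 2)], [(9, 0)]),
  ([(6, 2), (9, 0)], [(4, 1), (8, 1)], [(9, 0)]),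
  ([(6, 2), (9, 1)], [(1, 1), (4, 0), (10, 1), (1, 0)], [(9, 0)]),
  ([(6, 2), (9, 2)], [(1, 0), (9, 2), (10, 1), (1, 1)], [(9, 0)])]

/-- the codes of the words `t` -/
def TC : List (List ℕ) := [
  [1, 2, 4, 8, 20, 40, 64, 128, 320, 640, 1024, 2048],
  [1, 2, 4, 8, 24, 44, 64, 128, 384, 704, 1024, 2048],
  [1, 2, 4, 8, 28, 36, 64, 128, 448, 576, 1024, 2048],
  [1, 2, 4, 8, 16, 32, 65, 130, 256, 512, 1040, 2080],
  [1, 2, 4, 8, 16, 32, 66, 131, 256, 512, 1056, 2096],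
  [1, 2, 4, 8, 16, 32, 67, 129, 256, 512, 1072, 2064],
  [1, 2, 4, 8, 16, 32, 64, 128, 257, 514, 1028, 2056],
  [1, 2, 4, 8, 16, 32, 64, 128, 258, 515, 1032, 2060],
  [1, 2, 4, 8, 16, 32, 64, 128, 259, 513, 1036, 2052],
  [1, 2, 5, 10, 16, 32, 80, 160, 256, 512, 1280, 2560],
  [1, 2, 6, 11, 16, 32, 112, 144, 256, 512, 1536, 2816],
  [1, 2, 7, 9, 16, 32, 96, 176, 256, 512, 1792, 2304],
  [1, 2, 4, 8, 17, 34, 64, 128, 260, 520, 1088, 2176],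
  [1, 2, 4, 8, 18, 35, 64, 128, 268, 516, 1152, 2240],
  [1, 2, 4, 8, 19, 33, 64, 128, 264, 524, 1216, 2112],
  [1, 2, 4, 8, 16, 32, 68, 136, 272, 544, 1025, 2050],
  [1, 2, 4, 8, 16, 32, 72, 140, 288, 560, 1027, 2049],
  [1, 2, 4, 8, 16, 32, 76, 132, 304, 528, 1026, 2051],
  [1, 2, 4, 8, 20, 40, 68, 136, 340, 680, 1025, 2050],
  [1, 2, 4, 8, 20, 40, 72, 140, 360, 700, 1027, 2049],
  [1, 2, 4, 8, 20, 40, 76, 132, 380, 660, 1026, 2051],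
  [1, 2, 4, 8, 24, 44, 68, 136, 408, 748, 1025, 2050],
  [1, 2, 4, 8, 24, 44, 72, 140, 428, 756, 1027, 2049],
  [1, 2, 4, 8, 24, 44, 76, 132, 436, 728, 1026, 2051],
  [1, 2, 4, 8, 28, 36, 68, 136, 476, 612, 1025, 2050],
  [1, 2, 4, 8, 28, 36, 72, 140, 484, 632, 1027, 2049],
  [1, 2, 4, 8, 28, 36, 76, 132, 504, 604, 1026, 2051]]

theorem TL_codes : TL.map (fun p => cw p.1) = TC := by decide +kernel

theorem TL_check : ∀ p ∈ TL, cw (p.2.1 ++ p.1 ++ p.2.1.reverse) = cw p.2.2 ∧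
    (p.2.2 = [(11, 0)] ∨ p.2.2 = [(9, 0)]) := by decide +kernel

theorem inv_check : allN [7, 6, 8, 9, 10, 11] idC (fun C => mulF C C fun E => impF (eqF E idC)
    (anyF VC fun p => mulF C p.2 fun E => mulF p.1 E fun F => memF F (idC :: TC))) = true := by
  decide +kernel

/-- an involution of `U` is conjugate to `x₁₁(1)` or to `x₉(1)` -/
theorem conj_of_mem_U {y : GL6} (hy : y ∈ U) (h2 : y * y = 1) (h1 : y ≠ 1) :
    ∃ a ∈ L, a * y * a⁻¹ = gx 11 0 ∨ a * y * a⁻¹ = gx 9 0 := by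
  obtain ⟨C, hC, h⟩ := allN_one inv_check y (U_PS hy)
  rw [mulF_eq] at h
  have h3 : eqF (mulC C C) idC = true := by
    rw [eqF_iff]
    exact (hC.mul hC).unique (h2 ▸ Cd_one)
  obtain ⟨p, hp, h4⟩ := anyF_spec (impF_spec h h3)
  rw [mulF_eq, mulF_eq, memF_iff] at h4
  rw [← VL_codes] at hp
  obtain ⟨w, -, rfl⟩ := List.mem_map.1 hp
  have hF : Cd (ev w * y * (ev w)⁻¹) (mulC (cw w) (mulC C (cw w.reverse))) := by
    rw [← ev_reverse, mul_assoc]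
    exact (Cd_ev w).mul (hC.mul (Cd_ev w.reverse))
  rcases List.mem_cons.1 h4 with h4 | h4
  · exfalso
    rw [h4] at hF
    have h5 : ev w * y * (ev w)⁻¹ = 1 := hF.inj Cd_one
    apply h1
    calc y = (ev w)⁻¹ * (ev w * y * (ev w)⁻¹) * ev w := by group
      _ = 1 := by rw [h5]; group
  · rw [← TL_codes] at h4
    obtain ⟨q, hq, h5⟩ := List.mem_map.1 h4
    obtain ⟨h6, h7⟩ := TL_check q hq
    have h8 : ev w * y * (ev w)⁻¹ = ev q.1 := by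
      refine hF.inj ?_
      rw [← h5]
      exact Cd_ev q.1
    have h9 : ev q.2.1 * ev q.1 * (ev q.2.1)⁻¹ = ev q.2.2 := by
      rw [← ev_reverse, ← ev_append, ← ev_append]
      exact ev_eq_of h6
    refine ⟨ev q.2.1 * ev w, L.mul_mem (ev_mem _) (ev_mem _), ?_⟩
    have h10 : ev q.2.1 * ev w * y * (ev q.2.1 * ev w)⁻¹ = ev q.2.2 := by
      rw [← h9, ← h8]; group
    rw [h10]
    rcases h7 with h7 | h7
    · left; rw [h7, ev_singleton]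
    · right; rw [h7, ev_singleton]

end Cfsg.Agent.GTwoFour.MdlInvChk
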